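import Cfsg.Agent.F42S.RlB
import Cfsg.Agent.Transfer.ThompsonTransfer

/-! The transfer argument for the types `0, 1, 2`. -/

set_option autoImplicit false

namespace Cfsg.Agent.F42S

open Cfsg Cfsg.Agent.Comp Subgroup Cfsg.Agent.PLocal.Amb
open Cfsg.Agent.WG (el el_nil el_cons el_append)
open scoped commutatorElement

variable {G : Type*} [Group G] [Finite G] {j : L0 →* G} {t : G} {ty : ℕ} {X : ℕ → ℕ → G}

theorem ea_transfer {K : Type*} [CommGroup K] (hG : _root_.commutator G = ⊤)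
    {M : Subgroup G} (ψ : M →* K) (c : M)
    (hc : ∀ (g : G) (k : ℕ), g⁻¹ * (c : G) ^ k * g ∈ M → (c : G) ^ k = 1 ∨ g ∈ M) : ψ c = 1 := by
  classical
  have := Fintype.ofFinite (Quotient (MulAction.orbitRel (zpowers (c : G)) (G ⧸ M)))
  have h1 : MonoidHom.transfer ψ c = 1 :=
    Abelianization.commutator_subset_ker _ (hG ▸ mem_top _)
  have fx : ∀ q : G ⧸ M, q.out ∈ M ↔ q = ((1 : G) : G ⧸ M) := fun q => by
    rw [← inv_mem_iff, ← mul_one q.out⁻¹, ← QuotientGroup.eq, QuotientGroup.out_eq']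
  have f1 : ∀ m ∈ M, m • ((1 : G) : G ⧸ M) = ((1 : G) : G ⧸ M) := fun m hm => by
    rw [MulAction.Quotient.smul_mk, QuotientGroup.eq]; simpa using hm
  rw [MonoidHom.transfer_eq_prod_quotient_orbitRel_zpowers_quot,
    Finset.prod_eq_single (Quotient.mk _ ((1 : G) : G ⧸ M)) (fun q _ hq => ?_) (by simp)] at h1
  · obtain ⟨⟨g, hg⟩, e⟩ := Quotient.exact (Quotient.out_eq
      (Quotient.mk (MulAction.orbitRel (zpowers (c : G)) (G ⧸ M)) ((1 : G) : G ⧸ M)))
    have e : _ = ((1 : G) : G ⧸ M) := e.symm.trans (f1 g (zpowers_le.2 c.2 hg))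
    have h2 := (fx _).2 e
    have h3 : Function.minimalPeriod ((c : G) • ·) ((1 : G) : G ⧸ M) = 1 :=
      Function.minimalPeriod_eq_one_iff_isFixedPt.2 (f1 c c.2)
    rw [← h1, ← inv_mul_cancel_comm (ψ ⟨_, h2⟩) (ψ c), ← map_inv, ← map_mul, ← map_mul]
    congr 1
    ext
    simp only [e, h3, pow_one, coe_mul, InvMemClass.coe_inv]
  · refine (hc _ _ (QuotientGroup.out_conj_pow_minimalPeriod_mem M c q.out)).elim (fun e => ?_)
      fun e => (hq (by rw [← (fx _).1 e, Quotient.out_eq])).elim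
    rw [← map_one ψ]
    congr 1
    ext
    simp [e]

theorem not_perfect {H : Subgroup G} (tt : t * t = 1) (hC : ∀ g, g * t = t * g → g ∈ H)
    (hf : ∀ g, g * t * g⁻¹ ∈ H → ∃ h ∈ H, h * t * h⁻¹ = g * t * g⁻¹) {A : Type*} [CommGroup A]
    (φ : H →* A) (h1 : φ ⟨t, hC t rfl⟩ ≠ 1) : _root_.commutator G ≠ ⊤ := fun hG =>
  h1 (ea_transfer hG φ _ fun g k hk => by
    change t ^ k = 1 ∨ _
    change g⁻¹ * t ^ k * g ∈ H at hk
    rcases Nat.even_or_odd' k with ⟨n, rfl | rfl⟩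
    · exact .inl (by rw [pow_mul, pow_two, tt, one_pow])
    · rw [pow_succ, pow_mul, pow_two, tt, one_pow, one_mul] at hk
      obtain ⟨h, hh, e⟩ := hf g⁻¹ (by rwa [inv_inv])
      refine .inr ((mul_mem_cancel_right hh).1 (hC _ ?_))
      calc g * h * t = g * (h * t * h⁻¹) * h := by group
        _ = t * (g * h) := by rw [e]; group)

theorem ea_fix {K U : Subgroup G} (ho : Odd (U.relIndex K)) {d : G} (tt : t * t = 1) (dd : d * d = 1)
    (hU : t ∈ 𝐍[U]) (hK : ∀ x ∈ K, d * x * t ∈ K) : ∃ x ∈ K, ∃ u ∈ U, x⁻¹ * d * x = t * u := by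
  classical
  have ti : t⁻¹ = t := inv_eq_of_mul_eq_one_right tt
  have di : d⁻¹ = d := inv_eq_of_mul_eq_one_right dd
  let σ : K ⧸ U.subgroupOf K → K ⧸ U.subgroupOf K :=
    Quotient.map' (fun x => ⟨d * x * t, hK x x.2⟩) fun x y e => by
      rw [QuotientGroup.leftRel_apply, mem_subgroupOf] at e ⊢
      have := inv_conj_mem_of_mem_normalizer hU e
      simp only [coe_mul, InvMemClass.coe_inv] at this ⊢
      convert this using 1; group
  have hσ : Function.Involutive σ := fun q => Quotient.inductionOn' q fun x =>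
    congrArg Quotient.mk'' (Subtype.ext (by
      change d * (d * x * t) * t = x
      rw [← mul_assoc, ← mul_assoc, dd, one_mul, mul_assoc, tt, mul_one]))
  have := Fintype.ofFinite (K ⧸ U.subgroupOf K)
  have := Fact.mk Nat.prime_two
  obtain ⟨q, hq⟩ := Equiv.Perm.exists_fixed_point_of_prime (p := 2) (n := 1) (σ := hσ.toPerm σ) (by
    rw [← Nat.card_eq_fintype_card, ← even_iff_two_dvd, Nat.not_even_iff_odd]; exact ho)
    (Equiv.ext fun q => hσ q)
  obtain ⟨x, rfl⟩ := QuotientGroup.mk_surjective q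
  have e : (d * x * t)⁻¹ * x ∈ U :=
    (QuotientGroup.eq (s := U.subgroupOf K) (a := ⟨d * x * t, hK x x.2⟩) (b := x)).1 hq
  refine ⟨x, x.2, _, e, ?_⟩
  rw [mul_inv_rev, mul_inv_rev, ti, di, ← mul_assoc, ← mul_assoc, tt, one_mul]

theorem ea_mo : ∀ r < 48, ∀ s < 48, Mo (gm r) (gm s) → Mo r s := by decide +kernel

theorem ea_cw : ∀ ty < 4, ∀ r < 48, ∀ s < 48, Mo r s → s ≠ 47 - r ∧ cw ty r s 2 1 = [] := by
  decide +kernel

theorem ea_sz (ty r : ℕ) : 1 < sz ty r := by unfold sz; split_ifs <;> omega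

omit [Finite G]

theorem Rl.ea_three (h : Rl j t ty X) {r : ℕ} (hr : r < 48) (hs : sz ty r = 4) :
    X r 3 = X r 2 * X r 1 := (h.add r hr 2 (by omega) 1 (by omega)).symm

theorem Rl.ea_ne (hf : Fr j t) (h : Rl j t ty X) {r : ℕ} (hr : r < 48) (hs : sz ty r = 4) :
    X r 2 ≠ X r 3 := fun e => by
  rw [h.ea_three hr hs, left_eq_mul, h.one r hr, ← map_one j, hf.inj.eq_iff] at e
  exact xx_ne hr e

theorem Rl.ea_sq (h : Rl j t ty X) {r : ℕ} (hr : r < 48) (hs : sz ty r = 4) : X r 2 * X r 2 = 1 :=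
  (h.add r hr 2 (by omega) 2 (by omega)).trans (h.zero r)

theorem Rl.ea_ct (hf : Fr j t) (h : Rl j t ty X) {r : ℕ} (hr : r < 48) (hs : sz ty r = 4) :
    X r 2 * t * X r 2 = t * j (xx r) := by
  have e1 : t * X r 2 * t = X r 3 := h.tc r hr 2 (by omega)
  have e2 : X r 3 * X r 2 = X r 1 := h.add r hr 3 (by omega) 2 (by omega)
  rw [← h.one r hr, ← e2, ← e1, ← mul_assoc, ← mul_assoc, ← mul_assoc, hf.tt, one_mul]

theorem Rl.ea_cm (hty : ty < 4) (h : Rl j t ty X) {r s : ℕ} (hr : r < 48) (hz : sz ty r = 4) (hs : s < 48)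
    (m : Mo r s) : X r 2 * j (xx s) = j (xx s) * X r 2 := by
  rw [← h.one s hs]
  by_cases e : s = r
  · subst e
    exact (h.add s hr 2 (by omega) 1 (by omega)).trans (h.add s hr 1 (by omega) 2 (by omega)).symm
  · have := h.com r hr s hs e (ea_cw ty hty r hr s hs m).1 2 (by omega) 1 (ea_sz _ _)
    rw [(ea_cw ty hty r hr s hs m).2] at this
    simpa [ew] using this.symm

theorem Rl.gam_X (hty : ty = 2 ∨ ty = 3) (hf : Fr j t) (h : Rl j t ty X) {f : G} (h1 : f * t = t * f)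
    (h2 : ∀ b, f * j b * f⁻¹ = j (gam b)) {r : ℕ} (hr : r < 48) :
    f * X r 2 * f⁻¹ = X (gm r) 2 ∨ f * X r 2 * f⁻¹ = X (gm r) 3 := by
  have hs : ∀ r, sz ty r = 4 := fun r => if_neg (by omega)
  have ft : f * t * f⁻¹ = t := by rw [h1, mul_inv_cancel_right]
  refine h.can (by omega) hf (tab_gm r hr).1 (hs _) ?_ ?_ fun s h3 m => ?_
  · rw [conj_mul, h.ea_sq hr (hs r), mul_one, mul_inv_cancel]
  · conv_lhs => rw [← ft, conj_mul, conj_mul, h.ea_ct hf hr (hs r), ← conj_mul, ft, h2, gam_xx hr]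
  · obtain ⟨a, b, -⟩ := tab_gm s h3
    rw [← b] at m ⊢
    rw [← gam_xx a, ← h2, conj_mul, conj_mul, h.ea_cm (by omega) hr (hs r) a (ea_mo r hr _ a m)]

theorem Rl.ea_out (hf : Fr j t) (h : Rl j t ty X) {f : G} (h1 : f * t = t * f)
    (h2 : ∀ b, f * j b * f⁻¹ = j (gam b)) : IsConj t (t * j (xx 47)) := by
  have hs : sz ty 44 = 4 := if_neg (by simp [show lg 44 = false by decide])
  refine isConj_iff.2 ⟨f * X 44 2, ?_⟩
  rw [mul_inv_rev, inv_eq_of_mul_eq_one_right (h.ea_sq (by omega) hs),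
    show f * X 44 2 * t * (X 44 2 * f⁻¹) = f * (X 44 2 * t * X 44 2) * f⁻¹ by group,
    h.ea_ct hf (by omega) hs, ← conj_mul, h2, gam_xx (by omega), h1, mul_inv_cancel_right]
  rfl

theorem Rl.ea_inv (hf : Fr j t) (h : Rl j t 2 X) {f : G} (h1 : f * t = t * f)
    (h2 : ∀ b, f * j b * f⁻¹ = j (gam b)) : f * f ≠ 1 := fun ff => by
  have hs : ∀ r, sz 2 r = 4 := fun r => if_neg (by omega)
  have o : ∀ r < 48, f * X r 1 * f⁻¹ = X (gm r) 1 := fun r hr => by
    rw [h.one r hr, h2, gam_xx hr, h.one _ (tab_gm r hr).1]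
  have o44 : f * X 44 1 * f⁻¹ = X 47 1 := o 44 (by omega)
  have o47 : f * X 47 1 * f⁻¹ = X 44 1 := o 47 (by omega)
  have o41 : f * X 41 1 * f⁻¹ = X 29 1 := o 41 (by omega)
  have n44 := h.ea_ne hf (r := 44) (by omega) (hs _)
  have n47 := h.ea_ne hf (r := 47) (by omega) (hs _)
  have t44 := h.ea_three (r := 44) (by omega) (hs _)
  have t47 := h.ea_three (r := 47) (by omega) (hs _)
  have a44 : X 44 3 * X 44 1 = X 44 2 := h.add 44 (by omega) 3 (by simp [hs]) 1 (by simp [hs])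
  have fi : ∀ x, f * (f * x * f⁻¹) * f⁻¹ = x := fun x => by
    rw [show f * (f * x * f⁻¹) * f⁻¹ = f * f * x * (f * f)⁻¹ by group, ff]; simp
  have g44 : f * X 44 2 * f⁻¹ = X 47 2 ∨ f * X 44 2 * f⁻¹ = X 47 3 := h.gam_X (.inl rfl) hf h1 h2 (by omega)
  have g47 : f * X 47 2 * f⁻¹ = X 44 2 ∨ f * X 47 2 * f⁻¹ = X 44 3 := h.gam_X (.inl rfl) hf h1 h2 (by omega)
  have g29 : f * X 29 2 * f⁻¹ = X 41 2 ∨ f * X 29 2 * f⁻¹ = X 41 3 := h.gam_X (.inl rfl) hf h1 h2 (by omega)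
  have c1 : X 41 1 * X 29 2 = X 29 2 * X 41 1 * (X 44 2 * X 47 3) := by
    have := h.com 29 (by omega) 41 (by omega) (by omega) (by omega) 2 (by simp [hs]) 1 (by simp [hs])
    rw [show cw 2 29 41 2 1 = [(44, 2), (47, 3)] by decide +kernel] at this
    simpa [ew] using this
  have c2 : ∀ c < 4, X 29 1 * X 41 c = X 41 c * X 29 1 * (X 44 c * X 47 c) := fun c hc => by
    have := h.com 41 (by omega) 29 (by omega) (by omega) (by omega) c (by simp [hs, hc]) 1 (by simp [hs])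
    rw [(by decide +kernel : ∀ c < 4, cw 2 41 29 c 1 = [(44, c), (47, c)]) c hc] at this
    simpa [ew] using this
  have c3 : ∀ c < 4, ∀ d < 4, X 47 d * X 44 c = X 44 c * X 47 d := fun c hc d hd => by
    have := h.com 44 (by omega) 47 (by omega) (by omega) (by omega) c (by simp [hs, hc]) d (by simp [hs, hd])
    rw [show cw 2 44 47 c d = [] by simp [cw, show lg 44 = false by decide, show lg 47 = true by decide,
      show ip 44 47 = 12 by decide +kernel]] at this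
    simpa [ew] using this
  have c4 := congrArg (fun x => f * x * f⁻¹) c1
  simp only [t47, ← conj_mul, o41, o47] at c4
  have e2 := fi (X 44 2)
  rcases g44 with a | a <;> rcases g47 with b | b <;> rw [a] at e2
  · rcases g29 with c | c <;> rw [a, b, c, c2 _ (by omega), ← t44, c3 _ (by omega) _ (by omega),
      mul_right_inj] at c4
    exacts [n44 (mul_right_cancel c4), n47 (mul_left_cancel c4).symm]
  · exact n44 (e2.symm.trans b)
  · rw [t47, ← conj_mul, b, o47, ← t44] at e2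
    exact n44 e2.symm
  · rcases g29 with c | c <;> rw [a, b, c, c2 _ (by omega), a44, c3 _ (by omega) _ (by omega),
      mul_right_inj] at c4
    exacts [n47 (mul_left_cancel c4), n44 (mul_right_cancel c4).symm]

variable [Finite G]

theorem Rl.cent_le (hty : ty < 4) (hf : Fr j t) (h : Rl j t ty X) (hn : ty < 2 → ¬ IsConj t (t * j (xx 47)))
    {g : G} (hg : g * t = t * g) : g ∈ 𝐍[SS ty X 0] := by
  have jn : ∀ a, j a ∈ 𝐍[SS ty X 0] := fun a => le_normalizer (h.j_mem a)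
  rcases hf.cases hg with ⟨a, rfl | rfl⟩ | ho
  · exact jn a
  · exact mul_mem (h.t_norm hty hf 0) (jn a)
  obtain ⟨a, f, rfl, h1, -, h2⟩ := hf.exists_gam hg ho
  have h3 : ty = 2 ∨ ty = 3 := by
    have : ¬ ty < 2 := fun c => hn c (h.ea_out hf h1 h2)
    omega
  have hs : ∀ r, sz ty r = 4 := fun r => if_neg (by omega)
  refine mul_mem (jn a) (norm_of ?_)
  rintro _ ⟨r, c, -, hr, hc, rfl⟩
  have k1 : f * X r 1 * f⁻¹ ∈ SS ty X 0 := by rw [h.one r hr, h2]; exact h.j_mem _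
  have k2 : f * X r 2 * f⁻¹ ∈ SS ty X 0 := by
    rcases h.gam_X h3 hf h1 h2 hr with e | e <;> rw [e] <;>
      exact X_mem (Nat.zero_le _) (tab_gm r hr).1 (by simp [hs])
  rw [hs] at hc
  obtain rfl | rfl | rfl | rfl : c = 0 ∨ c = 1 ∨ c = 2 ∨ c = 3 := by omega
  · rw [h.zero, mul_one, mul_inv_cancel]; exact one_mem _
  · exact k1
  · exact k2
  · rw [h.ea_three hr (hs r), ← conj_mul]; exact mul_mem k2 k1

theorem Rl.endA (hP : _root_.commutator G = ⊤) (hty : ty ≤ 2) (hf : Fr j t) (h : Rl j t ty X)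
    (hi : Idf j ty X) (hn : ty < 2 → ¬ IsConj t (t * j (xx 47))) : False := by
  have h4 : ty < 4 := by omega
  have cn := fun g => h.cent_le h4 hf hn (g := g)
  have n0 : ∀ g, g * t * g⁻¹ ∉ SS ty X 0 := fun g c => by
    obtain ⟨k, -, a, e⟩ := hi.e1 _ c (by rw [conj_mul, hf.tt]; simp)
    exact hf.nD (k * g) a (by rw [← e]; group)
  have t0 : t ∉ SS ty X 0 := by simpa using n0 1
  let H : Subgroup G :=
    { carrier := {x | ∃ c, c * t = t * c ∧ x * c⁻¹ ∈ SS ty X 0}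
      one_mem' := ⟨1, by simp, by simp⟩
      mul_mem' := by
        rintro x y ⟨c, h1, h2⟩ ⟨d, h3, h4⟩
        refine ⟨c * d, by rw [mul_assoc, h3, ← mul_assoc, h1, mul_assoc], ?_⟩
        convert mul_mem h2 (conj_mem_of_mem_normalizer (cn c h1) h4) using 1; group
      inv_mem' := by
        rintro x ⟨c, h1, h2⟩
        refine ⟨c⁻¹, by rw [inv_mul_eq_iff_eq_mul, ← mul_assoc, h1, mul_inv_cancel_right], ?_⟩
        convert inv_conj_mem_of_mem_normalizer (cn c h1) (inv_mem h2) using 1; group }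
  have hC : ∀ g, g * t = t * g → g ∈ H := fun g e => ⟨g, e, by simp⟩
  have h0 : SS ty X 0 ≤ H := fun g e => ⟨1, by simp, by simpa using e⟩
  have hN : H ≤ 𝐍[SS ty X 0] := by
    rintro x ⟨c, h1, h2⟩
    exact (mul_mem_cancel_right (inv_mem (cn c h1))).1 (le_normalizer h2)
  refine not_perfect hf.tt hC (fun g hg => ?_) Abelianization.of (fun e => t0 ?_) hP
  · obtain ⟨c, h1, h2⟩ := hg
    have dd : g * t * g⁻¹ * (g * t * g⁻¹) = 1 := by rw [conj_mul, hf.tt]; simp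
    rcases hf.cases h1 with ⟨a, rfl | rfl⟩ | ho
    · exact absurd ((mul_mem_cancel_right (inv_mem (h.j_mem a))).1 h2) (n0 g)
    · have h3 : g * t * g⁻¹ * t⁻¹ ∈ SS ty X 0 := by
        rw [hf.tj, mul_inv_rev, ← mul_assoc] at h2
        exact (mul_mem_cancel_right (inv_mem (h.j_mem a))).1 h2
      obtain ⟨x, hx, u, hu, e⟩ := ea_fix hi.e2 hf.tt dd (h.t_norm h4 hf 24) fun x hx => by
        have := mul_mem h3 (conj_mem_of_mem_normalizer (h.t_norm h4 hf 0) hx)
        rw [show g * t * g⁻¹ * t⁻¹ * (t * x * t⁻¹) = g * t * g⁻¹ * x * t⁻¹ by group, hf.t_inv] at this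
        exact this
      obtain ⟨v, hv, b, e'⟩ := h.f3 h4 hf hu (by
        rw [← e, show ∀ d : G, x⁻¹ * d * x * (x⁻¹ * d * x) = x⁻¹ * (d * d) * x from fun d => by group, dd]
        simp)
      obtain ⟨k, hk, e''⟩ := h.cls h4 hf hn (b := b) (isConj_iff.2 ⟨v * x⁻¹ * g, by rw [← e', ← e]; group⟩)
      refine ⟨x * v⁻¹ * k, h0 (mul_mem (mul_mem hx (inv_mem (SS_mono (by omega) hv))) hk), ?_⟩
      calc _ = x * v⁻¹ * (k * t * k⁻¹) * (x * v⁻¹)⁻¹ := by group
        _ = _ := by rw [e'', ← e', ← e]; group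
    · obtain ⟨a, f, rfl, f1, f2, f3⟩ := hf.exists_gam h1 ho
      obtain rfl : ty = 2 := by
        have : ¬ ty < 2 := fun c => hn c (h.ea_out hf f1 f3)
        omega
      rw [mul_inv_rev, ← mul_assoc] at h2
      replace h2 := (mul_mem_cancel_right (inv_mem (h.j_mem a))).1 h2
      have := mul_mem h2 (conj_mem_of_mem_normalizer (cn f f1) h2)
      generalize g * t * g⁻¹ = d at this dd
      rw [show d * f⁻¹ * (f * (d * f⁻¹) * f⁻¹) = d * d * (f * f)⁻¹ by group, dd, one_mul, inv_mem_iff,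
        f2.resolve_left (h.ea_inv hf f1 f3)] at this
      exact absurd this t0
  · have := normal_subgroupOf' hN
    refine (show _root_.commutator H ≤ (SS ty X 0).subgroupOf H from ?_) (QuotientGroup.eq_one_iff _ |>.1 e)
    refine commutator_le.2 ?_
    rintro ⟨x, c, h1, h2⟩ - ⟨y, d, h3, h4⟩ -
    obtain ⟨a, ha⟩ := hf.comm_mem h1 h3
    rw [← QuotientGroup.eq_one_iff]
    have k : ∀ (x c : G) (h1 : c * t = t * c) (h2 : x * c⁻¹ ∈ SS ty X 0),
        QuotientGroup.mk' ((SS ty X 0).subgroupOf H) ⟨x, c, h1, h2⟩ =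
          QuotientGroup.mk' _ ⟨c, hC c h1⟩ := fun x c h1 h2 => QuotientGroup.eq_iff_div_mem.2 (by
      rw [div_eq_mul_inv]; exact h2)
    change QuotientGroup.mk' _ _ = 1
    rw [map_commutatorElement, k x c h1 h2, k y d h3 h4, ← map_commutatorElement]
    exact (QuotientGroup.eq_one_iff _).2 (by
      change c * d * c⁻¹ * d⁻¹ ∈ SS ty X 0
      rw [ha]; exact h.j_mem a)

end Cfsg.Agent.F42S
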