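import Cfsg.Agent.F42S.EndA

/-! The wreath type. -/

set_option autoImplicit false

namespace Cfsg.Agent.F42S

open Cfsg Cfsg.Agent.Comp Subgroup Cfsg.Agent.PLocal.Amb
open Cfsg.Agent.WG (el el_nil el_cons el_append)
open scoped commutatorElement

variable {G : Type*} [Group G] [Finite G] {j : L0 →* G} {t : G} {X : ℕ → ℕ → G}

theorem eb_cw : ∀ r < 48, ∀ s < 48, cw 3 r s 2 2 = (cm r s).map (·, 2) ∧ cw 3 r s 3 3 = (cm r s).map (·, 3) ∧
    cw 3 r s 2 3 = (cm r s).map (·, 0) := by decide +kernel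

set_option synthInstance.maxSize 1000 in
theorem eb_rev : ∀ r < 48, ∀ s < 48, s ≠ 47 - r → cm r s = (cm r s).reverse ∨
    (cm r s = [ad r s, (cm r s).getD 1 0] ∧ ad r s < 48 ∧ (cm r s).getD 1 0 < 48 ∧
      (cm r s).getD 1 0 ≠ ad r s ∧ (cm r s).getD 1 0 ≠ 47 - ad r s ∧
      cm (ad r s) ((cm r s).getD 1 0) = []) := by decide +kernel

theorem eb_sum : ∀ s < 48, ∃ a < 48, ∃ b < 48, a ≠ s ∧ b ≠ s ∧ b ≠ 47 - a ∧ cm a b = [s] := by
  decide +kernel

theorem eb_mo : ∀ r < 48, ∀ s < 48, Mo r s → s ≠ 47 - r ∧ cm r s = [] := by decide +kernel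

theorem eb_cen {a : L0} (h : ∀ b, a * b = b * a) : a = 1 := eq_one_of_comm fun _ _ => h _

theorem eb_dich (p q : L0 →* L0) (c : ∀ a b, p a * q b = q b * p a) (s : ∀ x, ∃ a b, x = p a * q b) :
    (∀ a, p a = 1) ∨ ∀ a, q a = 1 := by
  have : p.range.Normal := ⟨by
    rintro _ ⟨y, rfl⟩ x
    obtain ⟨a, b, rfl⟩ := s x
    refine ⟨a * y * a⁻¹, ?_⟩
    rw [mul_assoc (p a), ← c, map_mul, map_mul, map_inv]
    group⟩
  rcases this.eq_bot_or_eq_top with e | e
  · exact .inl fun a => e.le ⟨a, rfl⟩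
  · refine .inr fun b => eb_cen fun x => ?_
    obtain ⟨a, rfl⟩ := e.ge (mem_top x)
    exact (c a b).symm

theorem eb_pow {H K : Subgroup L0} {n : ℕ} (h1 : IsPGroup 2 H) (h2 : 2 ^ n ≤ Nat.card H) (h3 : H ≤ K) :
    2 ^ n ∣ Nat.card K := by
  have := Fact.mk Nat.prime_two
  obtain ⟨k, hk⟩ := IsPGroup.iff_card.1 h1
  rw [hk] at h2
  exact (pow_dvd_pow 2 ((Nat.pow_le_pow_iff_right (by norm_num)).1 h2)).trans (hk ▸ card_dvd_of_le h3)

theorem eb_fix (α : L0 →* L0) (h : ∀ a, α (α a) = a) :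
    2 ^ 20 ∣ Nat.card (α.eqLocus (.id _)) ∨ 2 ^ 7 * 13 ∣ Nat.card (α.eqLocus (.id _)) := by
  rcases aut α (Function.LeftInverse.injective h) with ⟨a, e⟩ | ⟨a, e⟩
  · obtain ⟨H, h1, h2, h3⟩ := cent20 (a := a) (eb_cen fun b => by
      conv_rhs => rw [← h b, e, e]
      group)
    exact .inl (eb_pow h1 h2 fun x hx => (e x).trans (by rw [← h3 x hx]; simp))
  · obtain ⟨l, rfl⟩ := out_nf (a := a) (eb_cen fun b => by
      conv_rhs => rw [← h b, e, e, map_mul, map_mul, map_inv, gam_gam]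
      group)
    have k : ∀ x, gam x = x → l * x * l⁻¹ ∈ α.eqLocus (.id _) := fun x hx => (e _).trans (by
      simp only [map_mul, map_inv, hx, MonoidHom.id_apply]
      group)
    obtain ⟨H, h1, h2, h3⟩ := fix2
    obtain ⟨x, x1, x2⟩ := fix13
    refine .inr (Nat.Coprime.mul_dvd_of_dvd_of_dvd (by norm_num) (eb_pow (H := cj(l, H))
      (h1.map _) (by rwa [card_cj]) (cj_le_iff_forall.2 fun x hx => k x (h3 x hx))) ?_)
    rw [← x1, ← (MulAut.conj l).orderOf_eq x]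
    exact orderOf_dvd_natCard _ (k x x2)

omit [Finite G] in
theorem eb_hom {φ : L0 →* G} (hφ : Function.Injective φ) (f : L0 →* G) (h : ∀ a, ∃ b, f a = φ b) :
    ∃ α : L0 →* L0, ∀ a, f a = φ (α a) := by
  choose α hα using h
  exact ⟨MonoidHom.mk' α fun a b => hφ (by rw [map_mul, ← hα, ← hα, ← hα, map_mul]), hα⟩

omit [Finite G] in
theorem Rl.eb_ex (h : Rl j t 3 X) {c : ℕ} (hc : c = 2 ∨ c = 3) : ∃ φ : L0 →* G, ∀ r < 48, φ (xx r) = X r c := by
  have hs : ∀ r, c < sz 3 r := fun r => by rw [show sz 3 r = 4 from if_neg (by omega)]; omega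
  have k : ∀ r < 48, ∀ s < 48, s ≠ r → s ≠ 47 - r → X s c * X r c = X r c * X s c * el (X · c) (cm r s) :=
    fun r hr s h1 h2 h3 => by
      rw [h.com r hr s h1 h2 h3 c (hs r) c (hs s)]
      rcases hc with rfl | rfl
      · rw [(eb_cw r hr s h1).1]; simp [ew, el, Function.comp_def]
      · rw [(eb_cw r hr s h1).2.1]; simp [ew, el, Function.comp_def]
  refine hom_of _ (fun r hr => by rw [h.add r hr c (hs r) c (hs r), Nat.xor_self, h.zero]) k
    fun r hr s h1 _ h3 => ?_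
  rcases eb_rev r hr s h1 h3 with e | ⟨e, a, b, e1, e2, e3⟩
  · rw [← e]
  · have := k _ a _ b e1 e2
    rw [e3] at this
    rw [e]
    simpa using this.symm

omit [Finite G] in
theorem Rl.two (hf : Fr j t) (h : Rl j t 3 X) : ∃ φ ψ : L0 →* G, Function.Injective φ ∧ Function.Injective ψ ∧
    (∀ r < 48, φ (xx r) = X r 2 ∧ ψ (xx r) = X r 3) ∧ (∀ a b, φ a * ψ b = ψ b * φ a) ∧
    (∀ a, t * φ a * t = ψ a) ∧ (∀ a, j a = φ a * ψ a) ∧ SS 3 X 0 = φ.range ⊔ ψ.range := by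
  have hs : ∀ r, sz 3 r = 4 := fun r => if_neg (by omega)
  obtain ⟨φ, hφ⟩ := h.eb_ex (.inl rfl)
  obtain ⟨ψ, hψ⟩ := h.eb_ex (.inr rfl)
  have c0 : ∀ r < 48, ∀ s < 48, s ≠ 47 - r → Commute (φ (xx r)) (ψ (xx s)) := fun r hr s h1 h2 => by
    rw [hφ r hr, hψ s h1]
    by_cases e : s = r
    · subst e
      exact (h.add s hr 2 (by simp [hs]) 3 (by simp [hs])).trans
        (h.add s hr 3 (by simp [hs]) 2 (by simp [hs])).symm
    · have := h.com r hr s h1 e h2 2 (by simp [hs]) 3 (by simp [hs])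
      rw [(eb_cw r hr s h1).2.2] at this
      simpa [ew, Function.comp_def, h.zero, Commute, SemiconjBy] using this.symm
  have c1 : ∀ r < 48, ∀ s < 48, Commute (φ (xx r)) (ψ (xx s)) := fun r hr s h1 => by
    by_cases e : s = 47 - r
    · obtain ⟨a, ha, b, hb, e1, e2, e3, e4⟩ := eb_sum s h1
      have := xx_comm ha hb e3
      rw [e4, ← inv_mul_eq_iff_eq_mul, el_cons, el_nil, mul_one] at this
      have ca := c0 r hr a ha (e ▸ e1)
      have cb := c0 r hr b hb (e ▸ e2)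
      rw [← this, map_mul, map_inv, map_mul, map_mul]
      exact (ca.mul_right cb).inv_right.mul_right (cb.mul_right ca)
    · exact c0 r hr s h1 e
  have c2 : ∀ a b, Commute (φ a) (ψ b) := fun a b => by
    have := (gen (H := (centralizer {ψ b}).comap φ) fun r hr => mem_centralizer_singleton_iff.2 (by
      have := (gen (H := (centralizer {φ (xx r)}).comap ψ) fun s hs =>
        mem_centralizer_singleton_iff.2 (c1 r hr s hs).symm).ge (mem_top b)
      exact (mem_centralizer_singleton_iff.1 this).symm)).ge (mem_top a)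
    exact mem_centralizer_singleton_iff.1 this
  have e1 : ∀ a, t * φ a * t⁻¹ = ψ a := DFunLike.congr_fun
    (hom_ext (f := (MulAut.conj t).toMonoidHom.comp φ) fun r hr => by
      change t * φ (xx r) * t⁻¹ = _
      rw [hφ r hr, hψ r hr, hf.t_inv]; exact h.tc r hr 2 (by simp [hs]))
  have e2 : ∀ a, j a = φ a * ψ a := DFunLike.congr_fun
    (hom_ext (g := (φ.noncommCoprod ψ c2).comp ((MonoidHom.id _).prod (.id _))) fun r hr => by
      change _ = φ (xx r) * ψ (xx r)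
      rw [hφ r hr, hψ r hr, ← h.one r hr]; exact (h.add r hr 2 (by simp [hs]) 3 (by simp [hs])).symm)
  have i1 : Function.Injective φ := by
    rcases φ.normal_ker.eq_bot_or_eq_top with e | e
    · exact (MonoidHom.ker_eq_bot_iff φ).1 e
    · have k : φ (xx 0) = 1 := e.ge (mem_top _)
      refine absurd (hf.inj ?_) (xx_ne (r := 0) (by omega))
      rw [e2, ← e1, k]; simp
  refine ⟨φ, ψ, i1, fun a b e => i1 (by simpa [← e1] using e), fun r hr => ⟨hφ r hr, hψ r hr⟩, c2,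
    fun a => by rw [← e1, hf.t_inv], e2, le_antisymm (closure_le _ |>.2 ?_) (sup_le ?_ ?_)⟩
  · rintro _ ⟨r, c, -, hr, hc, rfl⟩
    rw [hs] at hc
    obtain rfl | rfl | rfl | rfl : c = 0 ∨ c = 1 ∨ c = 2 ∨ c = 3 := by omega
    · rw [h.zero]; exact one_mem _
    · rw [h.one r hr, e2]; exact mul_mem (mem_sup_left ⟨_, rfl⟩) (mem_sup_right ⟨_, rfl⟩)
    · exact mem_sup_left ⟨_, hφ r hr⟩
    · exact mem_sup_right ⟨_, hψ r hr⟩
  · rintro _ ⟨a, rfl⟩
    exact (gen (H := (SS 3 X 0).comap φ) fun r hr => by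
      rw [mem_comap, hφ r hr]; exact X_mem (Nat.zero_le _) hr (by simp [hs])).ge (mem_top a)
  · rintro _ ⟨a, rfl⟩
    exact (gen (H := (SS 3 X 0).comap ψ) fun r hr => by
      rw [mem_comap, hψ r hr]; exact X_mem (Nat.zero_le _) hr (by simp [hs])).ge (mem_top a)

omit [Finite G] in
theorem eb_inj {φ ψ : L0 →* G} (i1 : Function.Injective φ) (i2 : Function.Injective ψ)
    (c : ∀ a b, Commute (φ a) (ψ b)) : Function.Injective (φ.noncommCoprod ψ c) :=
  (injective_iff_map_eq_one _).2 fun ⟨a, b⟩ e => by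
    change φ a * ψ b = 1 at e
    obtain rfl : a = 1 := eb_cen fun x => i1 (by
      rw [map_mul, map_mul, eq_inv_of_mul_eq_one_left e]; exact (c x b).inv_right.symm)
    rw [map_one, one_mul, ← map_one ψ, i2.eq_iff] at e
    rw [e]; rfl

omit [Finite G] in
theorem eb_perm {φ ψ : L0 →* G} (i1 : Function.Injective φ) (i2 : Function.Injective ψ)
    (c : ∀ a b, Commute (φ a) (ψ b)) {g : G} (hg : g ∈ 𝐍[(φ.noncommCoprod ψ c).range]) :
    ((∀ a, ∃ b, g * φ a * g⁻¹ = φ b) ∧ ∀ a, ∃ b, g * ψ a * g⁻¹ = ψ b) ∨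
      ((∀ a, ∃ b, g * φ a * g⁻¹ = ψ b) ∧ ∀ a, ∃ b, g * ψ a * g⁻¹ = φ b) := by
  have i := eb_inj i1 i2 c
  set Θ := φ.noncommCoprod ψ c
  choose α hα using fun x => conj_mem_of_mem_normalizer hg (⟨x, rfl⟩ : Θ x ∈ Θ.range)
  let A : L0 × L0 →* L0 × L0 := MonoidHom.mk' α fun a b => i (by
    rw [map_mul, hα, hα, hα, map_mul, conj_mul])
  have s : ∀ x, ∃ a b, x = A (a, 1) * A (1, b) := fun x => by
    obtain ⟨⟨a, b⟩, e⟩ := inv_conj_mem_of_mem_normalizer hg (⟨x, rfl⟩ : Θ x ∈ Θ.range)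
    refine ⟨a, b, i ?_⟩
    rw [← map_mul, Prod.mk_mul_mk, mul_one, one_mul]
    exact ((hα _).trans (by rw [e]; group)).symm
  have cc : ∀ a b, A (a, 1) * A (1, b) = A (1, b) * A (a, 1) := fun a b => by
    rw [← map_mul, ← map_mul]; simp
  have h1 : ∀ a, g * φ a * g⁻¹ = φ (A (a, 1)).1 * ψ (A (a, 1)).2 := fun a => by
    simpa [Θ, A] using (hα (a, 1)).symm
  have h2 : ∀ a, g * ψ a * g⁻¹ = φ (A (1, a)).1 * ψ (A (1, a)).2 := fun a => by
    simpa [Θ, A] using (hα (1, a)).symm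
  have n := xx_ne (r := 0) (by omega)
  have k : ∀ π : L0 × L0 →* L0, Function.Surjective π → (∀ a, π (A (a, 1)) = 1) ∨ ∀ a, π (A (1, a)) = 1 :=
    fun π hπ => eb_dich (π.comp (A.comp (.inl _ _))) (π.comp (A.comp (.inr _ _)))
      (fun a b => (map_mul π _ _).symm.trans ((congrArg π (cc a b)).trans (map_mul π _ _))) fun x => by
        obtain ⟨x, rfl⟩ := hπ x
        obtain ⟨a, b, e⟩ := s x
        exact ⟨a, b, (congrArg π e).trans (map_mul π _ _)⟩
  rcases k (.fst _ _) Prod.fst_surjective with p | p <;> rcases k (.snd _ _) Prod.snd_surjective with q | q <;>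
  simp only [MonoidHom.coe_fst, MonoidHom.coe_snd] at p q <;>
  simp only [p, q, map_one, mul_one, one_mul, conj_eq_one_iff] at h1 h2
  · exact absurd (i1 ((h1 _).trans (map_one φ).symm)) n
  · exact .inr ⟨fun a => ⟨_, h1 a⟩, fun a => ⟨_, h2 a⟩⟩
  · exact .inl ⟨fun a => ⟨_, h1 a⟩, fun a => ⟨_, h2 a⟩⟩
  · exact absurd (i2 ((h2 _).trans (map_one ψ).symm)) n

theorem Rl.endB (hP : _root_.commutator G = ⊤) (hf : Fr j t) (h : Rl j t 3 X) : False := by
  obtain ⟨φ, ψ, i1, i2, hx, c, e1, e2, e3⟩ := h.two hf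
  have hs : ∀ r, sz 3 r = 4 := fun r => if_neg (by omega)
  rw [← MonoidHom.noncommCoprod_range φ ψ c] at e3
  have pm := fun g (hg : g ∈ 𝐍[SS 3 X 0]) => eb_perm i1 i2 c (g := g) (e3 ▸ hg)
  have hC := fun g => h.cent_le (by omega) hf (by omega) (g := g)
  have i := eb_inj i1 i2 c
  have ne : ∀ g : G, (∀ a, ∃ b, g * φ a * g⁻¹ = ψ b) → g ∉ 𝐍[φ.range] := fun g k hg => by
    obtain ⟨b, e⟩ := k (xx 0)
    obtain ⟨a, e'⟩ := conj_mem_of_mem_normalizer hg ⟨xx 0, rfl⟩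
    have : ((a, 1) : L0 × L0) = (1, b) := i (show φ a * ψ 1 = φ 1 * ψ b by
      simpa using e'.trans e)
    rw [show a = 1 from congrArg Prod.fst this, map_one, eq_comm, conj_eq_one_iff, ← map_one φ, i1.eq_iff] at e'
    exact xx_ne (by omega) e'
  have ye : ∀ g : G, (∀ a, ∃ b, g * φ a * g⁻¹ = φ b) → g ∈ 𝐍[φ.range] := fun g k =>
    mem_normalizer_of_cj_le (cj_le_iff_forall.2 (by
      rintro _ ⟨a, rfl⟩
      exact let ⟨b, e⟩ := k a; ⟨b, e.symm⟩))
  have tφ : ∀ g a : _, g * t * φ a * (g * t)⁻¹ = g * ψ a * g⁻¹ := fun g a => by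
    rw [← e1, mul_inv_rev, hf.t_inv]; group
  have ix : 𝐍[φ.range].relIndex 𝐍[SS 3 X 0] = 2 := index_eq_two_iff.2 ⟨⟨t, hC t rfl⟩, fun b => by
    rcases pm b b.2 with ⟨p, q⟩ | ⟨p, q⟩
    · exact .inr ⟨ye _ p, ne _ fun a => (tφ b a).symm ▸ q a⟩
    · exact .inl ⟨ye _ fun a => (tφ b a).symm ▸ q a, ne _ p⟩⟩
  refine not_perfect hf.tt hC (fun g hg => ?_) (Transfer.signHom ix) (by
    rw [Transfer.signHom_of_not_mem ix (ne _ fun a => ⟨a, by rw [← e1, hf.t_inv]⟩)]; decide) hP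
  have hf' := hf.conj g
  have dd := hf'.tt
  have di := hf'.t_inv
  have cd := hf'.card_dvd
  have cm := @hf'.comm_mem
  generalize hd : g * t * g⁻¹ = d at *
  have d2 : ∀ x, d * (d * x * d⁻¹) * d⁻¹ = x := fun x => by
    rw [show d * (d * x * d⁻¹) * d⁻¹ = d * d * x * (d * d)⁻¹ by group, dd]; simp
  rcases pm d hg with ⟨p, q⟩ | ⟨p, -⟩
  · obtain ⟨α, hα⟩ := eb_hom i1 ((MulAut.conj d).toMonoidHom.comp φ) p
    obtain ⟨β, hβ⟩ := eb_hom i2 ((MulAut.conj d).toMonoidHom.comp ψ) q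
    replace hα : ∀ a, d * φ a * d⁻¹ = φ (α a) := hα
    replace hβ : ∀ a, d * ψ a * d⁻¹ = ψ (β a) := hβ
    have k := (card_dvd_of_le (show ((α.eqLocus (.id _)).prod (β.eqLocus (.id _))).map
        (φ.noncommCoprod ψ c) ≤ centralizer {d} by
      rintro _ ⟨⟨a, b⟩, ⟨ha, hb⟩, rfl⟩
      refine mem_centralizer_singleton_iff.2 (mul_inv_eq_iff_eq_mul.1 ?_).symm
      change d * (φ a * ψ b) * d⁻¹ = φ a * ψ b
      rw [← conj_mul, hα, hβ, show α a = a from ha, show β b = b from hb])).trans cd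
    rw [card_map_of_injective i, Nat.card_congr (prodEquiv _ _).toEquiv, Nat.card_prod, card_L0] at k
    rcases eb_fix α (fun a => i1 (by rw [← hα, ← hα, d2])) with a | a <;>
      rcases eb_fix β (fun a => i2 (by rw [← hβ, ← hβ, d2])) with b | b <;>
      exact absurd ((mul_dvd_mul a b).trans k) (by norm_num)
  obtain ⟨α, hα⟩ := eb_hom i2 ((MulAut.conj d).toMonoidHom.comp φ) p
  replace hα : ∀ a, d * φ a * d⁻¹ = ψ (α a) := hα
  let j' := (φ.noncommCoprod ψ c).comp ((MonoidHom.id _).prod α)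
  have hj : ∀ a, j' a = φ a * ψ (α a) := fun _ => rfl
  have jd : ∀ a, j' a * d = d * j' a := fun a => (mul_inv_eq_iff_eq_mul.1 (by
    rw [hj, ← conj_mul, ← hα, d2, hα, c])).symm
  obtain ⟨γ, hγ⟩ := eb_hom hf'.inj j' fun a => by
    obtain ⟨b, e⟩ := (show _root_.commutator L0 ≤ ((MulAut.conj g).toMonoidHom.comp j).range.comap j' from
      commutator_le.2 fun a _ b _ => by
        obtain ⟨x, e⟩ := cm (jd a) (jd b)
        exact ⟨x, by rw [← e, map_commutatorElement]; rfl⟩) (perfect.ge (mem_top a))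
    exact ⟨b, e.symm⟩
  replace hγ : ∀ a, j' a = g * j (γ a) * g⁻¹ := hγ
  have key : ∀ (x : L0) (θ : L0 →* L0) (σ : ℕ → ℕ), (∀ b, γ b = x * θ b * x⁻¹) →
      (∀ r < 48, σ r < 48 ∧ σ (σ r) = r ∧ θ (xx r) = xx (σ r)) →
      (∀ r < 48, ∀ s < 48, Mo (σ r) (σ s) → Mo r s) → ∃ k ∈ 𝐍[SS 3 X 0], k * t * k⁻¹ = d := by
    intro x θ σ h1 h2 h3
    have gd : g * j x * t * (g * j x)⁻¹ = d := by rw [mul_assoc g, ← hf.tj, ← hd]; group
    have gj : ∀ b, j' b = g * j x * j (θ b) * (g * j x)⁻¹ := fun b => by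
      rw [hγ, h1, map_mul, map_mul, map_inv]; group
    generalize g * j x = k at gd gj
    have k1 : ∀ a, k⁻¹ * φ a * k⁻¹⁻¹ ∈ SS 3 X 0 := fun a =>
      (gen (H := (SS 3 X 0).comap ((MulAut.conj k⁻¹).toMonoidHom.comp φ)) fun r hr => by
        change k⁻¹ * φ (xx r) * k⁻¹⁻¹ ∈ SS 3 X 0
        have xs : φ (xx r) * φ (xx r) = 1 := by rw [← map_mul, xx_sq, map_one]
        obtain ⟨a1, -, a3⟩ := h2 r hr
        rcases h.can (by omega) hf a1 (hs _) (y := k⁻¹ * φ (xx r) * k⁻¹⁻¹) (by rw [conj_mul, xs]; simp) (by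
          have := gj (xx r)
          rw [hj, c, ← hα, a3, di] at this
          calc _ = k⁻¹ * (φ (xx r) * (k * t * k⁻¹) * φ (xx r)) * k := by group
            _ = k⁻¹ * (d * (d * φ (xx r) * d * φ (xx r))) * k := by
              rw [gd, ← mul_assoc d, ← mul_assoc d, ← mul_assoc d, dd, one_mul]
            _ = _ := by rw [this, ← gd]; group) (fun s h4 m => by
          obtain ⟨b1, b2, -⟩ := h2 s h4
          obtain ⟨-, -, b3⟩ := h2 _ b1
          rw [b2] at b3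
          obtain ⟨m1, m2⟩ := eb_mo r hr _ b1 (h3 r hr _ b1 (by rwa [b2]))
          have c1 := xx_comm hr b1 m1
          rw [m2, el_nil, mul_one] at c1
          have c2 : Commute (φ (xx r)) (j' (xx (σ s))) :=
            Commute.mul_right (Commute.map c1.symm φ) (c _ _)
          rw [gj, b3] at c2
          simpa [mul_assoc] using (c2.map (MulAut.conj k⁻¹)).eq) with e | e <;> rw [e] <;>
          exact X_mem (Nat.zero_le _) a1 (by simp [hs])).ge (mem_top a)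
    refine ⟨k, inv_mem_iff.1 (mem_normalizer_of_cj_le (cj_le_iff_forall.2 ?_)), gd⟩
    conv => enter [y]; rw [e3]; enter [2]; rw [← e3]
    rintro _ ⟨⟨a, b⟩, rfl⟩
    obtain ⟨b, rfl⟩ := Finite.injective_iff_surjective.1 (show Function.Injective α from fun a b e =>
      i1 (by simpa [← hα] using congrArg ψ e)) b
    change k⁻¹ * (φ a * ψ (α b)) * k⁻¹⁻¹ ∈ _
    rw [← conj_mul, ← hα, ← gd]
    convert mul_mem (k1 a) (conj_mem_of_mem_normalizer (hC t rfl) (k1 b)) using 2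
    group
  rcases aut γ (fun a b e => congrArg Prod.fst (i (show j' a = j' b by rw [hγ, hγ, e]))) with
    ⟨x, e⟩ | ⟨x, e⟩
  · exact key x (.id _) id e (fun r hr => ⟨hr, rfl, rfl⟩) fun _ _ _ _ m => m
  · exact key x gam gm e (fun r hr => ⟨(tab_gm r hr).1, (tab_gm r hr).2.1, gam_xx hr⟩) ea_mo

end Cfsg.Agent.F42S
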