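import Cfsg.Agent.F42S.Fa

/-! The orthogonal module `V = UU 41` of `P₄ = UU 15` in terms of masks `m < 128`. -/

set_option autoImplicit false

namespace Cfsg.Agent.F42S.FbA

open Cfsg Cfsg.Agent.Comp Subgroup Cfsg.Agent.PLocal.Amb
open Cfsg.Agent.WG (el el_nil el_cons el_append)

/-- The element of `V` with mask `m`. -/
noncomputable def vm (m : ℕ) : L0 := el xx (bw (up 41) m)

/-- The action of the letter `x_s`, `15 ≤ s ≤ 32`, on masks. -/
def act (s m : ℕ) : ℕ := 0x3efaefc36eacf82edaaf426ca8f01eba6ec16aa4e80e9a2e4068a0e07e7bedc766bcd86e5bad4664b8d05e3b6cc562b4c84e1b2c4460b0c0bff8ebcb7e8cb8afd8ab4a7c88b09fb86ac97a84a88f982a487880a0ff79e9cf769c98ef59a94e749890df3968cd729488cf19284c7090805ef96bcd7eb4f84ed92b4c7cb0f07eb9eacf7abce86e99aa4e78b8e01e7869c976a4d80e58294874a0d03e38e8cb72acc82e18a84a70a8c0dffb6fc56e94b8cfdb2f446c90b0ffbbeec76a9ca8ef9bae466898a09f7a6dc16684988f5a2d40648090bf3aecc3628c88af1aac42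6088809f3aedcd7abcf88f1aad4c78b8f0bf7a6ccf7eb4e8af5a2c4e7cb0e0dfbbefc972acd8cf9baf4870a8d0fffb6ecb76a4c8efdb2e4a74a0c01e38e9c56a9cb80e18a9446898b03e7868c76e94a82e5828466c90a05eb9ebc1628c984e99ab406088907ef96ac36684886ed92a426480806ff9afc67e98f87fd9ef477c9cf04fb92ec47a90e85f996e457894e02f78adc27688d83f58ed43748cd00f382cc07280c81f186c417084c0eefbabce6eb8b8fedbeb4f6cbcb0cebb2acc6ab0a8de9b6a4d68b4a0ae7aa9ca66a898be5ae94b64ac908e3a28c862a0889e1a684960a480af5befca74bcf8bf7baf4b76b8f08f1b6ec870b4e89f3b2e4972b0e0efdaedce7cacd8fffaad4f7ea8d0cf9a6ccc78a4c8dfba2c4d7aa0c02e59ebc2649cb83e79ab436698b00e196ac06094a81e392a416290a06ed8e9c66c8c987ef8a9476e88904e9868c46884885eb828456a8080cf9b2e4f7ebcf8dfbb6ece7cb8f0efdbaf4d7ab4e8fffbefcc78b0e08f1a2c4b76acd89f3a6cca74a8d0af5aad4972a4c8bf7aedc870a0c04e992a476e9cb85eb96ac66c98b06ed9ab456a94a87ef9ebc46890a00e182843668c981e3868c26488902e58a9416284883e78e9c060808076f9cbc7ee9eb8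66d98b46ec9ab0d7bb4ecdfab6e8c79b0e4cf8b2e03678c9c3e68e9826588942e48a90973a4cc9f2a6c8871a0c48f0a2c0f7fbcfcffebef8e7db8f4efcbaf056b94ac5ea96a846990a44e892a0b77acdcbf6aed8a75a8d4af4aad0163848c1e2868806180840e08280b76aedcbf7acd8a74aad4af5a8d0d7ab6ecdfbb4e8c78b2e4cf9b0e0f7ebefcfffbcf8e7cbaf4efdb8f0972a6cc9f3a4c8870a2c48f1a0c03668e9c3e78c982648a942e5889056a96ac5eb94a846892a44e990a076e9ebc7ef9cb866c9ab46ed98b0162868c1e3848806082840e180807af9fbc72e9db86ad9bb462c99b05ab97ac52a95a84a993a442891a0bb7afdcb36add8ab5abd4a34a9d09b3a7cc932a5c88b1a3c4830a1c0fbfbffcf3ebdf8ebdbbf4e3cb9f0dbbb7ecd3ab5e8cb9b3e4c38b1e03a78f9c3268d982a58b9422489901a3878c12285880a183840208180bd7eedcb56ecd8ad5ead4a54e8d09d3e6cc952e4c88d1e2c4850e0c0fdffefcf5efcf8eddfaf4e5cf8f0ddbf6ecd5af4e8cd9f2e4c58f0e07cfdebc74edcb86cddab464cd8b05cbd6ac54ad4a84c9d2a4448d0a03c7ce9c346cc982c5ca94244c8901c3c68c142c4880c1c284040c080dbb37eed7ab4e8cb933e6c78b0e0fbf3ff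ef7ebcf8ebd3bf6e7cb8f0bb72fdeb76acd8ab52bd6a74a8d09b327ce972a4c88b123c6870a0c05ab17ae56a94a84a913a646890a07af1fbe76e9cb86ad1bb666c98b03a70f9e3668c982a50b9626488901a3078e16284880a103860608080ddbf66dd7ab4e8cd9f265c78b0e0fdffe7df7ebcf8eddfa75e7cb8f09d3e64d972a4c88d1e245870a0c0bd7ee5db76acd8ad5ea55a74a8d07cfde3d76e9cb86cdda3566c98b05cbd62d56a94a84c9d22546890a03c7ce1d3668c982c5ca1526488901c3c60d16284880c1c2050608080e7cb8f0efdbaf4f7ebcf8fffbefcdfbb6ecd7ab4e8cf9b2e4c78b0e0a74a8d0af5aad4b76acd8bf7aedc9f3a6cc972a4c88f1a2c4870a0c066c98b06ed9ab476e9cb87ef9ebc5eb96ac56a94a84e992a446890a026488902e58a943668c983e78e9c1e3868c16284880e182840608080ebd3bf6e3c39f2fbf3ffef3e3dfacb933e6c3831e2dbb37eed3a35eabf7aedcb76acd8af5aad4a74a8d09f3a6cc972a4c88f1a2c4870a0c06ad1bb662c19b27af1fbe72e1dba4a913a642811a25ab17ae52a15aa3e78e9c3668c982e58a9426488901e3868c16284880e182840608080eddfa75e5cf871fdffe7df5efc79cd9f265c58f061ddbf66dd5af4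69ad5ea55a54e851bd7ee5db56ec598d1e245850e0419d3e64d952e4497ef9ebc76e9cb86ed9ab466c98b05eb96ac56a94a84e992a446890a03e78e9c3668c982e58a9426488901e3868c16284880e182840608080f3e3dfafbf3ffee3c39f2ebd3bf6d7ab4e8dfbb6ecc78b0e0cf9b2e4bb72fdeb362ddaab52bd6a3429d29f3a6cc972a4c88f1a2c4870a0c072e1dba7af1fbe62c19b26ad1bb656a94a85eb96ac46890a04e992a43a70f9e3260d9a2a50b9622409921e3868c16284880e182840608080f5efc79fdffe7de5cf871eddfa75d7ab4e8dfbb6ecc78b0e0cf9b2e4b56ec59bd7ee5da54e851ad5ea55972a4c89f3a6cc870a0c08f1a2c47cfde3d74edc396cdda3564cd8315eb96ac56a94a84e992a446890a03c7ce1d346cc192c5ca15244c8111e3868c16284880e182840608080f9f7f7ff1e7d7be9d7b77e1c7973d9b776fd1a756bc997367c187163bb72fdeb362ddaab52bd6a3429d29b327ce93225ca8b123c683021c27cfde3d74edc396cdda3564cd8315cbd62d54ad4294c9d225448d0213e78e9c3668c982e58a9426488901e3868c16284880e182840608080 >>> (7 * (128 * (s - 15) + m)) % 128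

/-- The action of a word on masks. -/
def ac (w : List ℕ) (m : ℕ) : ℕ := w.foldr act m

/-- The mask is in the long class. -/
def Lm (m : ℕ) : Bool := m != 0 && (m / 8 + m / 64 * m + m / 32 * (m / 2) + m / 16 * (m / 4)) % 2 == 0

theorem tab_act : allLT 18 (fun i => allLT 128 fun m =>
    Q ((15 + i) :: bw (up 41) m) (bw (up 41) (act (15 + i) m) ++ [15 + i])) = true := by decide +kernel

theorem bw_xor {l : List ℕ} (h : ∀ r ∈ l, 41 ≤ r) (m n : ℕ) :
    el xx (bw l m) * el xx (bw l n) = el xx (bw l (m ^^^ n)) := by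
  induction l generalizing m n with
  | nil => simp [bw_nil]
  | cons a l ih =>
    have h' : ∀ r ∈ l, 41 ≤ r := fun r hr => h r (by simp [hr])
    have c : ∀ g, el xx (bw l (m / 2)) * (xx a * g) = xx a * (el xx (bw l (m / 2)) * g) := fun g => by
      rw [← mul_assoc, ← mul_assoc, V_comm (xx_mem_UU (by have := h a (by simp); omega))
        (el_mem fun r hr => xx_mem_UU (h' r (bw_mem hr)))]
    have q : ∀ g, xx a * (xx a * g) = g := fun g => by rw [← mul_assoc, xx_sq, one_mul]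
    have e := Nat.xor_mod_two_eq_one (a := m) (b := n)
    rw [bw_cons, bw_cons, bw_cons, Nat.xor_div_two]
    by_cases h1 : m % 2 = 1 <;> by_cases h2 : n % 2 = 1 <;>
      simp only [e, h1, h2, iff_self, iff_false, iff_true, not_true_eq_false, not_false_eq_true,
        if_true, if_false, el_cons, mul_assoc, c, q, ← ih h']

theorem vm_mem (m : ℕ) : vm m ∈ UU 41 := el_mem fun _ hr => xx_mem (bw_mem hr)

theorem vm_mul (m n : ℕ) : vm m * vm n = vm (m ^^^ n) := bw_xor (fun _ h => (mem_up.1 h).1) m n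

theorem vm_zero : vm 0 = 1 := by
  have := Q_eq (u := bw (up 41) 0) (v := []) (by decide +kernel)
  exact this

theorem vm_inv (m : ℕ) : (vm m)⁻¹ = vm m := inv_eq_of_mul_eq_one_right (V_sq (vm_mem m))

theorem xor_lt {m n : ℕ} (hm : m < 128) (hn : n < 128) : m ^^^ n < 128 :=
  Nat.xor_lt_two_pow (n := 7) hm hn

theorem vm_inj {m n : ℕ} (hm : m < 128) (hn : n < 128) (e : vm m = vm n) : m = n := by
  have t : ∀ m < 128, m = 0 ∨ Q (bw (up 41) m) [] = false := by decide +kernel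
  rcases t _ (xor_lt hm hn) with k | k
  · exact Nat.eq_of_xor_eq_zero k
  · refine absurd ?_ (Q_ne k)
    have := vm_mul m n
    rw [e, V_sq (vm_mem n)] at this
    exact this.symm

theorem exists_vm {v : L0} (hv : v ∈ UU 41) : ∃ m < 128, v = vm m := UU_nf (by omega) hv

theorem vm_pow {r : ℕ} (h : 41 ≤ r) (h' : r < 48) : vm (2 ^ (r - 41)) = xx r := by
  have t : ∀ r ∈ up 41, Q (bw (up 41) (2 ^ (r - 41))) [r] = true := by decide +kernel
  simpa [vm] using Q_eq (t r (mem_up.2 ⟨h, h'⟩))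

theorem vm8 : vm 8 = xx 44 := by
  have := vm_pow (r := 44) (by omega) (by omega)
  exact this

theorem vm64 : vm 64 = xx 47 := by
  have := vm_pow (r := 47) (by omega) (by omega)
  exact this

theorem vm72 : vm 72 = xx 47 * xx 44 := by
  rw [← vm8, ← vm64, vm_mul]; rfl

theorem act_lt (s m : ℕ) : act s m < 128 := Nat.mod_lt _ (by omega)

theorem xx_vm {s m : ℕ} (h : 15 ≤ s) (h' : s ≤ 32) (hm : m < 128) :
    xx s * vm m = vm (act s m) * xx s := by
  have t := tab_act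
  simp only [allLT_iff] at t
  have := Q_eq (t (s - 15) (by omega) m hm)
  rw [show 15 + (s - 15) = s by omega] at this
  simpa [vm] using this

/-- The letters of the Levi factor. -/
def Lv (w : List ℕ) : Prop := ∀ s ∈ w, 15 ≤ s ∧ s ≤ 32

instance instDecLv (w : List ℕ) : Decidable (Lv w) := inferInstanceAs (Decidable (∀ a ∈ w, _))

theorem Lv.mem {w : List ℕ} (h : Lv w) : el xx w ∈ UU 15 := el_mem fun s hs => xx_mem_UU (h s hs).1

theorem Lv.ac {w : List ℕ} (h : Lv w) {m : ℕ} (hm : m < 128) :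
    ac w m < 128 ∧ el xx w * vm m * (el xx w)⁻¹ = vm (ac w m) := by
  induction w with
  | nil => exact ⟨hm, by simp [FbA.ac]⟩
  | cons a w ih =>
    have := ih fun s hs => h s (by simp [hs])
    have ha := h a (by simp)
    refine ⟨act_lt _ _, ?_⟩
    have e : FbA.ac (a :: w) m = act a (FbA.ac w m) := rfl
    have k := xx_vm ha.1 ha.2 this.1
    rw [← mul_inv_eq_iff_eq_mul] at k
    rw [e, el_cons, mul_inv_rev, ← k, ← this.2]
    simp only [mul_assoc]

/-- Words moving the long masks to `64`. -/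
def T1 : List (List ℕ) := [[18, 29], [15, 32], [15, 18, 29], [16, 31], [16, 18, 29], [15, 16, 31],
  [15, 16, 18, 29], [21, 26], [16, 21, 26], [15, 21, 26], [15, 16, 21, 26], [16, 27, 26], [16, 18, 31],
  [15, 16, 27, 26], [15, 16, 18, 31], [23, 24], [15, 23, 24], [16, 23, 24], [15, 16, 23, 24],
  [15, 28, 24], [15, 18, 32], [15, 16, 28, 24], [15, 16, 18, 32], [21, 23, 24], [15, 21, 23, 24],
  [15, 16, 30, 24], [15, 16, 21, 32], [15, 21, 26, 28], [15, 18, 21, 32], [16, 23, 24, 27],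
  [16, 18, 23, 31], [], [15], [16], [15, 16], [18], [15, 18], [16, 18], [15, 16, 18], [21], [15, 21],
  [16, 21], [15, 16, 21], [18, 21], [15, 18, 21], [16, 27], [15, 16, 27], [23], [15, 23], [16, 23],
  [15, 16, 23], [18, 23], [15, 28], [16, 18, 23], [15, 16, 28], [21, 23], [15, 21, 23], [16, 21, 23],
  [15, 16, 30], [18, 21, 23], [15, 21, 28], [16, 23, 27], [15, 16, 18, 30]]

theorem FVm {m : ℕ} (hm : m < 128) : m = 0 ∨ m = 8 ∨
    (Lm m = true ∧ ∃ p ∈ UU 15, p * xx 47 * p⁻¹ = vm m) ∨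
    (Lm m = false ∧ ∃ p ∈ UU 15, p * (xx 47 * xx 44) * p⁻¹ = vm m) := by
  have t : ∀ m < 128, m = 0 ∨ m = 8 ∨ (Lm m = true ∧ ∃ w ∈ T1, Lv w ∧ ac w m = 64) ∨
      (Lm m = false ∧ ∃ w ∈ T1, Lv w ∧ ac w m = 72) := by decide +kernel
  refine (t m hm).imp_right (Or.imp_right (Or.imp (And.imp_right ?_) (And.imp_right ?_))) <;>
    rintro ⟨w, -, h, e⟩ <;> refine ⟨_, inv_mem h.mem, ?_⟩ <;> have := (h.ac hm).2
  · rw [e, vm64] at this
    rw [← this]; group
  · rw [e, vm72] at this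
    rw [← this]; group

theorem conj47 {m : ℕ} (hm : m < 128) : IsConj (xx 47) (vm m) ↔ Lm m = true := by
  rcases FVm hm with rfl | rfl | ⟨h, p, -, e⟩ | ⟨h, p, -, e⟩
  · rw [vm_zero, isConj_one_left]
    exact iff_of_false (xx_ne (by omega)) (by decide)
  · rw [vm8]
    exact iff_of_false ncls.1 (by decide)
  · exact iff_of_true (isConj_iff.2 ⟨p, e⟩) h
  · have l : IsConj (xx 47 * xx 44) (vm m) := isConj_iff.2 ⟨p, e⟩
    exact iff_of_false (fun k => ncls.2.1 (k.trans l.symm)) (by simp [h])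

/-- The mask is `0` or in the class of `z`. -/
def Om (m : ℕ) : Bool := !Lm m && m != 8

theorem conjz {m : ℕ} (hm : m < 128) :
    (vm m = 1 ∨ IsConj (xx 47 * xx 44) (vm m)) ↔ Om m = true := by
  have n : ∀ a : L0, IsConj (xx 47) a → a ≠ 1 := fun a h e => by
    rw [e, isConj_one_left] at h
    exact xx_ne (by omega) h
  rcases FVm hm with rfl | rfl | ⟨h, p, -, e⟩ | ⟨h, p, -, e⟩
  · exact iff_of_true (.inl vm_zero) (by decide)
  · rw [vm8]
    exact iff_of_false (not_or.2 ⟨xx_ne (by omega), fun k => ncls.2.2.2.1 k.symm⟩) (by decide)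
  · have k : IsConj (xx 47) (vm m) := isConj_iff.2 ⟨p, e⟩
    exact iff_of_false (not_or.2 ⟨n _ k, fun l => ncls.2.1 (k.trans l.symm)⟩) (by simp [Om, h])
  · have k : IsConj (xx 47 * xx 44) (vm m) := isConj_iff.2 ⟨p, e⟩
    refine iff_of_true (.inr k) ?_
    have : m ≠ 8 := fun l => by
      rw [l, vm8] at k
      exact ncls.2.2.2.1 k.symm
    simp [Om, h, this]

end Cfsg.Agent.F42S.FbA
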