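import Cfsg.Agent.F42S.Fc1
import Cfsg.Agent.Loc3.Tools

/-! Involutions of `F₄(2)` and of its automorphism group; subgroups normalised by centralisers. -/

set_option autoImplicit false

namespace Cfsg.Agent.F42S

open Cfsg Cfsg.Agent.Comp Subgroup Cfsg.Agent.PLocal.Amb
open Cfsg.Agent.WG (el el_nil el_cons el_append)
open scoped commutatorElement

theorem fc_odd {Y : Subgroup L0} (h : Odd (Nat.card Y)) {y : L0} (hy : y ∈ Y) (hu : y ∈ UU 24) : y = 1 :=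
  let ⟨_, hk⟩ := isPGroup_iff.1 syl_U.pgrp y hu
  Loc3.eq_one_of_odd h hy hk

theorem odd_triv {Y : Subgroup L0} (h : Odd (Nat.card Y)) (hn : UU 42 ≤ 𝐍[Y]) : Y = ⊥ := by
  have n := fun r (hr : 42 ≤ r) y (hy : y ∈ Y) =>
    PLocal.Amb.conj_mem_of_mem_normalizer (hn (xx_mem_UU hr)) hy
  have k : ∀ θ : L0 →* L0, Function.Injective θ → (∀ a ∈ UU 24, θ a ∈ UU 24) → (∀ a, θ (θ a) = a) →
      (∀ r, 42 ≤ r → r < 48 → θ (xx r) ∈ UU 33) → ∀ y ∈ Y, θ y ∈ UU 15 → y = 1 := by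
    intro θ h1 h2 h3 h4 y hy h5
    refine fc_odd h hy (mem_U fun r a b => ?_)
    have := h2 _ (UU_mono (by omega) (mul_mem (PLocal.Amb.conj_mem_of_mem_normalizer (norm_Q h5) (h4 r a b))
      (inv_mem (h4 r a b))))
    rw [← map_inv, ← map_inv, ← map_mul, ← map_mul, ← map_mul, h3] at this
    have := fc_odd h (by simpa [mul_assoc] using mul_mem hy (n r a _ (inv_mem hy))) this
    rwa [mul_inv_eq_one, mul_inv_eq_iff_eq_mul] at this
  have k1 : ∀ y ∈ Y, Commute y (xx 44) → y = 1 := fun y hy c => k (.id _) Function.injective_id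
    (fun _ a => a) (fun _ => rfl) (fun r a _ => xx_mem_UU (by omega)) y hy (c44.1 c)
  have k2 : ∀ y ∈ Y, Commute y (xx 47) → y = 1 := fun y hy c => k gam gam_inj (fun _ => gam_U) gam_gam
    (fun r a b => by rw [gam_xx b]; exact xx_mem_UU (by revert r; decide +kernel)) y hy
    (c44.1 (by
      rw [← show gm 47 = 44 by decide +kernel, ← gam_xx (by omega), ← map_mul, ← map_mul, c.eq]))
  have i1 := @Loc3.inv_of_fpf _ _ _ Y _ (xx_sq 44) (n 44 (by omega)) k1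
  have i2 := @Loc3.inv_of_fpf _ _ _ Y _ (xx_sq 47) (n 47 (by omega)) k2
  have le : P14 ≤ UU 15 := XX_le.2 fun r hr => xx_mem_UU (by revert r; decide)
  rw [eq_bot_iff_forall]
  intro y hy
  refine k1 y hy (c44.2 (le (cz.1 ?_)))
  rw [eq_comm, ← mul_inv_eq_iff_eq_mul, show xx 47 * xx 44 * y * (xx 47 * xx 44)⁻¹ = xx 47 * (xx 44 * y * (xx 44)⁻¹) * (xx 47)⁻¹ by group,
    i1 hy, i2 (inv_mem hy), inv_inv]

theorem exists_V0 {a : L0} (h2 : a * a = 1) : ∃ g, ∀ v ∈ UU 42, g * v * g⁻¹ * a = a * (g * v * g⁻¹) := by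
  obtain ⟨g, u, hu, rfl⟩ := fc_cls h2
  exact ⟨g, fun v hv => fc_cj g (XX_comm (fun r hr => fc_comm hu (by revert r; decide)) hv)⟩

theorem h2 {a : L0} (a2 : a * a = 1) : ∃ c d, c * a = a * c ∧ d * a = a * d ∧
    IsConj (xx 47) (c * d * c⁻¹ * d⁻¹) := by
  obtain ⟨g, u, hu, rfl⟩ := fc_cls a2
  refine ⟨_, _, fc_cj g (fc_comm (r := 46) hu (by decide)), fc_cj g (fc_comm (r := 24) hu (by decide)),
    isConj_iff.2 ⟨g, ?_⟩⟩
  have : xx 47 = xx 46 * xx 24 * (xx 46)⁻¹ * (xx 24)⁻¹ := by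
    simpa [xx_inv, mul_assoc] using Q_eq (u := [47]) (v := [46, 24, 46, 24]) (by decide +kernel)
  rw [this]; group

theorem h3 {a : L0} (a2 : a * a = 1) : ∃ c d c' d', c * a = a * c ∧ d * a = a * d ∧ c' * a = a * c' ∧
    d' * a = a * d' ∧ a = c * d * c⁻¹ * d⁻¹ * (c' * d' * c'⁻¹ * d'⁻¹) := by
  obtain ⟨g, u, hu, rfl⟩ := fc_cls a2
  obtain ⟨c, h1, d, h2, c', h3, d', h4, e⟩ := (by decide +kernel : ∀ u ∈ fcR, ∃ c ∈ [46, 36], ∃ d ∈ [46, 24, 28],
    ∃ c' ∈ [40, 42], ∃ d' ∈ [40, 33, 30], Q u [c, d, c, d, c', d', c', d'] = true) u hu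
  refine ⟨_, _, _, _, fc_cj g (fc_comm hu (List.Subset.trans (by decide) (List.Subset.refl _) h1)),
    fc_cj g (fc_comm hu (List.Subset.trans (by decide) (List.Subset.refl _) h2)),
    fc_cj g (fc_comm hu (List.Subset.trans (by decide) (List.Subset.refl _) h3)),
    fc_cj g (fc_comm hu (List.Subset.trans (by decide) (List.Subset.refl _) h4)), ?_⟩
  have : el xx u = xx c * xx d * (xx c)⁻¹ * (xx d)⁻¹ * (xx c' * xx d' * (xx c')⁻¹ * (xx d')⁻¹) := by
    simpa [xx_inv, mul_assoc] using Q_eq e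
  rw [this]; group

theorem fc_z {u : List ℕ} (hu : u ∈ fcR) (u1 : u ≠ []) {w : L0} (h : ∀ s < 48, 24 ≤ s →
    xx s * el xx u = el xx u * xx s → w * xx s * w⁻¹ * xx s = 1 ∨ w * xx s * w⁻¹ * xx s = el xx u) :
    ∃ p ∈ [([47], [44, 46, 47]), ([44], [40, 44, 47]), ([47, 44], [44, 47]), ([39, 45], [39, 44, 45, 47])],
      u = p.1 ∧ ∃ m < 16, w = el xx (bw p.2 m) := by
  simp only [fcR, List.mem_cons, u1, false_or, List.not_mem_nil, or_false] at hu
  rcases hu with rfl | rfl | rfl | rfl <;> simp only [el_cons, el_nil, mul_one] at h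
  · obtain ⟨m, hm, e⟩ := z2l fun s a b => h s b a (c47.2 (xx_mem (by simp [mem_up, a, b])))
    exact ⟨(_, [44, 46, 47]), by simp, rfl, m, by omega, e⟩
  · obtain ⟨m, hm, e⟩ := z2s fun s a b => h s b a (c44.2 (xx_mem_UU (by omega)))
    exact ⟨(_, [40, 44, 47]), by simp, rfl, m, by omega, e⟩
  · obtain ⟨m, hm, e⟩ := z2 fun s a b => h s b a (cz.2 (xx_mem (by simp [mem_up, a, b])))
    exact ⟨(_, [44, 47]), by simp, rfl, m, by omega, e⟩
  · obtain ⟨m, hm, e⟩ := z2a fun s a => h s (by revert s; decide) (by revert s; decide)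
      (ca4.2 (xx_mem (by revert s; decide)))
    exact ⟨(_, [39, 44, 45, 47]), by simp, rfl, m, hm, e⟩

set_option synthInstance.maxSize 2000 in
theorem fc_h1 : ∀ p ∈ [([47], [44, 46, 47]), ([44], [40, 44, 47]), ([47, 44], [44, 47]),
    ([39, 45], [39, 44, 45, 47])], ∀ m < 16, Q (bw p.2 m) [] = true ∨ Q (bw p.2 m) p.1 = true ∨
      (∃ c ∈ [6, 14, 15, 23], Q (c :: p.1) (p.1 ++ [c]) = true ∧ Q (bw p.2 m ++ [c]) (c :: bw p.2 m) = false ∧
        Q (bw p.2 m ++ [c]) (p.1 ++ c :: bw p.2 m) = false) ∨ (Q (bw p.2 m ++ bw p.2 m) [] = true ∧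
      ∃ c ∈ [6, 15], Q (c :: bw p.2 m) (bw p.2 m ++ [c]) = true ∧ Q (c :: p.1) (p.1 ++ [c]) = false) := by
  decide +kernel

theorem fc_tr {G : Type*} [Group G] {g a b : G} (h : ∀ c, c * (g * a * g⁻¹) = g * a * g⁻¹ * c →
    g * b * g⁻¹ * c * (g * b * g⁻¹)⁻¹ * c⁻¹ = 1 ∨ g * b * g⁻¹ * c * (g * b * g⁻¹)⁻¹ * c⁻¹ = g * a * g⁻¹) (c : G)
    (e : c * a = a * c) : b * c * b⁻¹ * c⁻¹ = 1 ∨ b * c * b⁻¹ * c⁻¹ = a := by
  have := h _ (fc_cj g e)
  rwa [show g * b * g⁻¹ * (g * c * g⁻¹) * (g * b * g⁻¹)⁻¹ * (g * c * g⁻¹)⁻¹ =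
    g * (b * c * b⁻¹ * c⁻¹) * g⁻¹ by group, conj_eq_one_iff, mul_left_inj, mul_right_inj] at this

theorem fc_cj' {G : Type*} [Group G] {a b g : G}
    (h : g * a * g⁻¹ * (g * b * g⁻¹) = g * b * g⁻¹ * (g * a * g⁻¹)) : a * b = b * a := by
  rwa [conj_mul, conj_mul, mul_left_inj, mul_right_inj] at h

theorem h1 {a b : L0} (a2 : a * a = 1) (a1 : a ≠ 1)
    (h : ∀ c, c * a = a * c → b * c * b⁻¹ * c⁻¹ = 1 ∨ b * c * b⁻¹ * c⁻¹ = a) :
    b = 1 ∨ b = a ∨ (b * b = 1 ∧ ∃ c, c * b = b * c ∧ c * a ≠ a * c) := by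
  obtain ⟨g, u, hu, rfl⟩ := fc_cls a2
  obtain ⟨b, rfl⟩ : ∃ c, b = g * c * g⁻¹ := ⟨g⁻¹ * b * g, by group⟩
  have k := fc_tr (g := g) (a := el xx u) (b := b) h
  obtain ⟨p, hp, rfl, m, hm, rfl⟩ := fc_z hu (fun e => a1 (by rw [e, el_nil, mul_one, mul_inv_cancel])) (w := b) fun s _ _ e => by
    simpa only [xx_inv] using k _ e
  rcases fc_h1 p hp m hm with e | e | ⟨c, -, e1, e2, e3⟩ | ⟨e, c, -, e1, e2⟩
  · exact .inl (by simp [Q_eq e])
  · exact .inr (.inl (by simp [Q_eq e]))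
  · rcases k (xx c) (by simpa using Q_eq e1) with e | e
    · rw [mul_inv_eq_one, mul_inv_eq_iff_eq_mul] at e
      exact absurd (by simpa using e) (Q_ne e2)
    · rw [mul_inv_eq_iff_eq_mul, mul_inv_eq_iff_eq_mul] at e
      exact absurd (by simpa [mul_assoc] using e) (Q_ne e3)
  · refine .inr (.inr ⟨by rw [conj_mul, ← el_append, Q_eq e]; simp, _,
      fc_cj g (a := xx c) (by simpa using Q_eq e1), fun e' => Q_ne e2 ?_⟩)
    simpa using fc_cj' e'

theorem fc_fix {G : Type*} [Group G] [Finite G] {S Y : Subgroup G} (hS : IsPGroup 2 S) (hn : S ≤ 𝐍[Y])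
    {a : G} (ha : a ∈ Y) (o : orderOf a = 2) (c : ∀ s ∈ S, s * a = a * s) (h4 : 4 ∣ Nat.card Y) :
    ∃ w ∈ Y, (w ≠ 1 ∧ w ≠ a) ∧ ∀ s ∈ S, w * s * w⁻¹ * s⁻¹ = 1 ∨ w * s * w⁻¹ * s⁻¹ = a := by
  have := Fact.mk Nat.prime_two
  simp only [← not_or, ← Loc3.mem_zpowers_two (show a * a = 1 by
    simpa only [o, pow_two] using pow_orderOf_eq_one a)]
  let := MulAction.compHom Y (Y.normalizerMonoidHom.comp (inclusion hn))
  have sm : ∀ (s : S) (y : Y), ((s • y : Y) : G) = s * y * s⁻¹ := fun _ _ => rfl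
  have : MulAction.QuotientAction S ((zpowers a).subgroupOf Y) := ⟨fun s x y e => by
    rw [mem_subgroupOf] at e ⊢
    simp only [coe_mul, InvMemClass.coe_inv, sm] at e ⊢
    obtain ⟨k, hk⟩ := e
    refine ⟨k, ?_⟩
    rw [show ((s : G) * x * (s : G)⁻¹)⁻¹ * (s * y * (s : G)⁻¹) = s * ((x : G)⁻¹ * y) * (s : G)⁻¹ by group,
      ← hk, ((show Commute (s : G) a from c s s.2).zpow_right k).eq, mul_inv_cancel_right]⟩
  obtain ⟨q, hq, q1⟩ := hS.exists_fixed_point_of_prime_dvd_card_of_fixed_point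
    (Y ⧸ (zpowers a).subgroupOf Y) (a := ((1 : Y) : Y ⧸ _)) (by
      have := ((zpowers a).subgroupOf Y).card_mul_index
      rw [Nat.card_congr (subgroupOfEquivOfLe (zpowers_le.2 ha)).toEquiv, Nat.card_zpowers, o] at this
      rw [← index_eq_card]
      omega) fun s => by
      rw [MulAction.Quotient.smul_mk]
      exact congrArg _ (Subtype.ext (by simp [sm]))
  obtain ⟨w, rfl⟩ := QuotientGroup.mk_surjective q
  refine ⟨w⁻¹, inv_mem w.2, fun e => q1 (QuotientGroup.eq.2 (by simpa [mem_subgroupOf] using e)),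
    fun s hs => ?_⟩
  have := (hq ⟨s, hs⟩).symm
  rw [MulAction.Quotient.smul_mk, QuotientGroup.eq, mem_subgroupOf] at this
  simpa [sm, mul_assoc] using this

/-- The hypothesis of `ylem`. -/
def HY (Y : Subgroup L0) : Prop :=
  Y ≠ ⊤ ∧ 4 ∣ Nat.card Y ∧ ∀ u ∈ Y, u * u = 1 → u ≠ 1 → ∀ c, c * u = u * c → c ∈ 𝐍[Y]

theorem HY.map {Y : Subgroup L0} (h : HY Y) (e : L0 ≃* L0) : HY (Y.map e.toMonoidHom) := by
  refine ⟨fun c => h.1 (map_injective e.injective (c.trans (map_top_of_surjective _ e.surjective).symm)),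
    by rw [card_map_of_injective e.injective]; exact h.2.1, ?_⟩
  rintro _ ⟨u, hu, rfl⟩ u2 u1 c hc
  obtain ⟨c, rfl⟩ := e.surjective c
  exact le_normalizer_map _ ⟨c, h.2.2 u hu (e.injective (by simpa using u2)) (fun e' => u1 (by simp [e'])) c
    (e.injective (by simpa using hc)), rfl⟩

theorem HY.no2 {Y : Subgroup L0} (h : HY Y) (h1 : xx 44 ∈ Y) : xx 47 ∉ Y := fun h2 => by
  have a := fun c => h.2.2 _ h1 (xx_sq _) (xx_ne (by omega)) c
  have b := fun c => h.2.2 _ h2 (xx_sq _) (xx_ne (by omega)) c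
  have k : ∀ r, 14 ≤ r → xx r ∈ 𝐍[Y] := fun r hr => by
    rcases hr.eq_or_lt with rfl | hr
    exacts [b _ (c47.2 (xx_mem (by simp))), a _ (c44.2 (xx_mem_UU hr))]
  have st : ∀ i < 4, ∀ r < 48, xx r ∈ 𝐍[Y] → xx (sr i r) ∈ 𝐍[Y] := fun i hi r hr e => by
    have : el xx (nr (sm i)) ∈ 𝐍[Y] := el_mem fun a ha => k a (by revert a i; decide +kernel)
    rw [← nn_conj hi hr]
    exact mul_mem (mul_mem this e) (inv_mem this)
  have := normalizer_eq_top_iff.1 (gen (H := 𝐍[Y]) fun r hr => by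
    cases e : lg r
    · exact ind1 st (by omega) hr (e.symm ▸ by decide +kernel) (k 44 (by omega))
    · exact ind1 st (by omega) hr (e.symm ▸ by decide +kernel) (k 47 (by omega)))
  rcases this.eq_bot_or_eq_top with e | e
  · exact xx_ne (by omega) (e.le h1)
  · exact h.1 e

theorem HY.fix {Y : Subgroup L0} (h : HY Y) {p : List ℕ × List ℕ} (hu : p.1 ∈ fcR) (u1 : p.1 ≠ [])
    (hY : el xx p.1 ∈ Y) (hp : ∀ q ∈ [([47], [44, 46, 47]), ([44], [40, 44, 47]), ([47, 44], [44, 47]),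
      ([39, 45], [39, 44, 45, 47])], p.1 = q.1 → p.2 = q.2) : ∃ m < 16, el xx (bw p.2 m) ∈ Y ∧
      Q (bw p.2 m) [] = false ∧ Q (bw p.2 m) p.1 = false := by
  have := Fact.mk Nat.prime_two
  have t := (by decide +kernel : ∀ u ∈ fcR, u ≠ [] → Q (u ++ u) [] = true ∧ Q u [] = false) _ hu u1
  have a2 : el xx p.1 * el xx p.1 = 1 := by simpa using Q_eq t.1
  have a1 : el xx p.1 ≠ 1 := Q_ne t.2
  have k : ∀ c ∈ UU 24 ⊓ centralizer {el xx p.1}, c * el xx p.1 = el xx p.1 * c := fun c hc =>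
    (mem_centralizer_singleton_iff (g := el xx p.1) (k := c)).1 hc.2
  obtain ⟨w, hw, w1, w2⟩ := fc_fix (syl_U.pgrp.to_le inf_le_left)
    (fun c hc => h.2.2 _ hY a2 a1 c (k c hc)) hY (orderOf_eq_prime (by rw [pow_two, a2]) a1) k h.2.1
  obtain ⟨q, hq, e, m, hm, rfl⟩ := fc_z hu u1 (w := w) fun s _ a b => by
    have := w2 (xx s) ⟨xx_mem_UU a, (mem_centralizer_singleton_iff (g := el xx p.1) (k := xx s)).2 b⟩
    rwa [xx_inv] at this
  rw [← hp q hq e] at hw w1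
  exact ⟨m, hm, hw, Bool.eq_false_iff.2 fun c => w1.1 (Q_eq c), Bool.eq_false_iff.2 fun c => w1.2 (Q_eq c)⟩

theorem HY.cj {Y : Subgroup L0} (h : HY Y) {u v w : List ℕ} (hu : el xx u ∈ Y) (hv : el xx v ∈ Y)
    (e : Q (u ++ u) [] = true ∧ Q u [] = false ∧ Q (w ++ u) (u ++ w) = true) :
    el xx (w ++ v ++ w.reverse) ∈ Y := by
  rw [el_append, el_append, el_rev]
  exact PLocal.Amb.conj_mem_of_mem_normalizer
    (h.2.2 _ hu (by simpa using Q_eq e.1) (Q_ne e.2.1) _ (by simpa using Q_eq e.2.2)) hv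

theorem fc_mul {Y : Subgroup L0} {u v w : List ℕ} (hu : el xx u ∈ Y) (hv : el xx v ∈ Y)
    (e : Q (u ++ v) w = true) : el xx w ∈ Y := by
  rw [← Q_eq e, el_append]; exact mul_mem hu hv

theorem HY.no47 {Y : Subgroup L0} (h : HY Y) : xx 47 ∉ Y := fun h1 => by
  have a : el xx [47] ∈ Y := by simpa using h1
  have n44 : el xx [44] ∉ Y := fun c => h.no2 (by simpa using c) h1
  have n46 : el xx [46] ∉ Y := fun c => n44 (fc_mul c (h.cj (w := nr 28) a
    (fc_mul (w := [44, 42]) c (h.cj (w := [19]) a c (by decide +kernel)) (by decide +kernel))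
    (by decide +kernel)) (by decide +kernel))
  have n4 : el xx [44, 46] ∉ Y := fun c =>
    n46 (fc_mul a (h.cj (w := [23]) c a (by decide +kernel)) (by decide +kernel))
  obtain ⟨m, hm, e, e'⟩ := h.fix (p := ([47], [44, 46, 47])) (by decide) (by decide) a (by decide)
  obtain ⟨v, hv, u, hu, k⟩ := (by decide +kernel : ∀ m < 16, Q (bw [44, 46, 47] m) [] = false ∧
    Q (bw [44, 46, 47] m) [47] = false → ∃ v ∈ [[], [47]], ∃ u ∈ [[44], [46], [44, 46]],
      Q (bw [44, 46, 47] m ++ v) u = true) m hm e'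
  have := fc_mul e (by
    simp only [List.mem_cons, List.not_mem_nil, or_false] at hv
    rcases hv with rfl | rfl
    exacts [one_mem _, a]) k
  simp only [List.mem_cons, List.not_mem_nil, or_false] at hu
  rcases hu with rfl | rfl | rfl
  exacts [n44 this, n46 this, n4 this]

theorem HY.no44 {Y : Subgroup L0} (h : HY Y) : xx 44 ∉ Y := fun h1 =>
  (h.map (MonoidHom.toMulEquiv gam gam (MonoidHom.ext gam_gam) (MonoidHom.ext gam_gam))).no47
    ⟨_, h1, gam_xx (by omega)⟩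

theorem HY.noz {Y : Subgroup L0} (h : HY Y) : el xx [47, 44] ∉ Y := fun a => by
  obtain ⟨m, hm, e, e'⟩ := h.fix (p := ([47, 44], [44, 47])) (by decide) (by decide) a (by decide)
  rcases (by decide +kernel : ∀ m < 16, Q (bw [44, 47] m) [] = false ∧ Q (bw [44, 47] m) [47, 44] = false →
    Q (bw [44, 47] m) [44] = true ∨ Q (bw [44, 47] m) [47] = true) m hm e' with k | k <;> rw [Q_eq k] at e
  exacts [h.no44 (by simpa using e), h.no47 (by simpa using e)]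

theorem fc_mem {G : Type*} [Group G] {Y : Subgroup G} {g a : G} (h : g * a * g⁻¹ ∈ Y) :
    a ∈ Y.map (MulAut.conj g⁻¹).toMonoidHom := ⟨_, h, by simp [mul_assoc]⟩

theorem HY.no3 {Y : Subgroup L0} (h : HY Y) (g : L0) {u : List ℕ} (hu : u ∈ [[47], [44], [47, 44]]) :
    g * el xx u * g⁻¹ ∉ Y := fun a => by
  have b := fc_mem a
  simp only [List.mem_cons, List.not_mem_nil, or_false] at hu
  rcases hu with rfl | rfl | rfl
  exacts [(h.map _).no47 (by simpa only [el_cons, el_nil, mul_one] using b),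
    (h.map _).no44 (by simpa only [el_cons, el_nil, mul_one] using b), (h.map _).noz b]

theorem HY.noa {Y : Subgroup L0} (h : HY Y) : el xx [39, 45] ∉ Y := fun a => by
  obtain ⟨m, hm, e, e'⟩ := h.fix (p := ([39, 45], [39, 44, 45, 47])) (by decide) (by decide) a (by decide)
  obtain ⟨v, hv, g, -, u, hu, k⟩ := (by decide +kernel : ∀ m < 16, Q (bw [39, 44, 45, 47] m) [] = false ∧
    Q (bw [39, 44, 45, 47] m) [39, 45] = false → ∃ v ∈ [[], [39, 45]], ∃ g ∈ [[], nr 26, [21]],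
      ∃ u ∈ [[47], [44], [47, 44]], Q (bw [39, 44, 45, 47] m ++ v) (g ++ u ++ g.reverse) = true) m hm e'
  have := fc_mul e (by
    simp only [List.mem_cons, List.not_mem_nil, or_false] at hv
    rcases hv with rfl | rfl
    exacts [one_mem _, a]) k
  rw [el_append, el_append, el_rev] at this
  exact h.no3 _ hu this

theorem fc_burn {G : Type*} [Group G] [Finite G] {Y : Subgroup G} {a : G} (ha : a ∈ Y) (o : orderOf a = 2)
    (h4 : ¬ 4 ∣ Nat.card Y) {g : G} (O : cj(g, Loc3.Op' 2 Y) = ⊥) {y : G} (hy : y ∈ Y) : y = 1 ∨ y = a := by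
  have := Fact.mk Nat.prime_two
  have a2 : a * a = 1 := by simpa only [o, pow_two] using pow_orderOf_eq_one a
  have sy : IsSyl 2 (zpowers a) Y := isSyl_of_not_dvd_relIndex
    (IsPGroup.of_card (n := 1) (by rw [Nat.card_zpowers, o]; rfl)) (zpowers_le.2 ha) fun c => h4 (by
      have := ((zpowers a).subgroupOf Y).card_mul_index
      rw [Nat.card_congr (subgroupOfEquivOfLe (zpowers_le.2 ha)).toEquiv, Nat.card_zpowers, o] at this
      rw [← this]
      exact mul_dvd_mul_left 2 c)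
  obtain ⟨o, ho, t, ht, rfl⟩ := Loc3.burn sy (fun x hx => by
    rw [centralizer_zpowers, mem_centralizer_singleton_iff, ← mul_inv_eq_iff_eq_mul]
    refine ((Loc3.mem_zpowers_two a2).1 (PLocal.Amb.conj_mem_of_mem_normalizer hx.2
      (mem_zpowers a))).resolve_left fun e => by simp [conj_eq_one_iff.1 e] at o) hy
  rw [conj_eq_one_iff.1 (mem_bot.1 (O.le (conj_mem_cj g ho))), one_mul]
  exact (Loc3.mem_zpowers_two a2).1 ht

theorem ylem {Y : Subgroup L0} (hY : Y ≠ ⊤) (he : Even (Nat.card Y))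
    (h : ∀ u ∈ Y, u * u = 1 → u ≠ 1 → ∀ c, c * u = u * c → c ∈ 𝐍[Y]) :
    ∃ u, u * u = 1 ∧ u ≠ 1 ∧ ∀ y, y ∈ Y ↔ y = 1 ∨ y = u := by
  have := Fact.mk Nat.prime_two
  obtain ⟨⟨a, ha⟩, o⟩ := exists_prime_orderOf_dvd_card' 2 he.two_dvd
  rw [orderOf_mk] at o
  have a2 : a * a = 1 := by simpa only [o, pow_two] using pow_orderOf_eq_one a
  have a1 : a ≠ 1 := fun e => by simp [e] at o
  have h4 : ¬ 4 ∣ Nat.card Y := fun c => by
    have k : HY Y := ⟨hY, c, h⟩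
    obtain ⟨g, u, hu, rfl⟩ := fc_cls a2
    rcases (by decide : ∀ u ∈ fcR, u = [] ∨ u ∈ [[47], [44], [47, 44]] ∨ u = [39, 45]) u hu with
      rfl | e | rfl
    · exact a1 (by rw [el_nil, mul_one, mul_inv_cancel])
    · exact k.no3 g e ha
    · have b := fc_mem (g := g) (a := el xx [39, 45]) ha
      exact (k.map _).noa b
  obtain ⟨g, hg⟩ := exists_V0 a2
  have O : cj(g⁻¹, Loc3.Op' 2 Y) = ⊥ := odd_triv
    (by rw [card_cj]; exact Nat.coprime_two_right.1 (Loc3.coprime_Op' 2 Y)) fun v hv => by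
      rw [normalizer_cj, mem_cj, inv_inv]
      exact Loc3.norm_le_norm_Op' 2 Y (h a ha a2 a1 _ (hg v hv))
  exact ⟨a, a2, a1, fun y => ⟨fc_burn ha o h4 O, by rintro (rfl | rfl); exacts [one_mem _, ha]⟩⟩

end Cfsg.Agent.F42S
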