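import Cfsg.Agent.F42S.Fc

/-! The frame: structure of `C(t)`. -/

set_option autoImplicit false

namespace Cfsg.Agent.F42S

open Cfsg Cfsg.Agent.Comp Subgroup Cfsg.Agent.PLocal.Amb
open Cfsg.Agent.WG (el el_nil el_cons el_append)
open scoped commutatorElement

variable {G : Type*} [Group G] {j : L0 →* G} {t : G}

theorem Fr.mul_c (_ : Fr j t) {g k : G} (hg : g * t = t * g) (hk : k * t = t * k) :
    g * k * t = t * (g * k) := by rw [mul_assoc, hk, ← mul_assoc, hg, mul_assoc]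

theorem Fr.inv_c (_ : Fr j t) {g : G} (hg : g * t = t * g) : g⁻¹ * t = t * g⁻¹ :=
  (Commute.inv_left hg).eq

theorem Fr.exists_hom (h : Fr j t) {g : G} (hg : g * t = t * g) :
    ∃ θ : L0 →* L0, Function.Injective θ ∧ ∀ a, g * j a * g⁻¹ = j (θ a) := by
  choose f hf using h.nrm g hg
  refine ⟨MonoidHom.mk' f fun a b => h.inj ?_, fun a b e => h.inj ?_, hf⟩
  · rw [map_mul, ← hf, ← hf, ← hf, map_mul]; group
  · have e' : f a = f b := e
    have := hf a
    rw [e', ← hf b] at this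
    simpa using this

theorem Fr.comp (h : Fr j t) {θ : L0 →* L0} (h1 : Function.Injective θ) : Fr (j.comp θ) t := by
  have h2 := Finite.injective_iff_surjective.1 h1
  refine ⟨h.tt, h.t1, fun a => h.tj _, h.inj.comp h1, fun g hg e => h.cen g hg fun a => ?_,
    fun g hg a => ?_⟩
  · obtain ⟨b, rfl⟩ := h2 a
    exact e b
  · obtain ⟨b, e⟩ := h.nrm g hg (θ a)
    obtain ⟨c, rfl⟩ := h2 b
    exact ⟨c, e⟩

theorem Fr.cases (h : Fr j t) {g : G} (hg : g * t = t * g) : Inn j t g ∨ Out j g := by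
  obtain ⟨θ, h1, h2⟩ := h.exists_hom hg
  rcases aut θ h1 with ⟨a, e⟩ | ⟨a, e⟩
  · refine .inl ⟨a, ?_⟩
    have := h.cen ((j a)⁻¹ * g) (h.mul_c (h.inv_c (h.tj a).symm) hg) fun b => by
      rw [mul_assoc, mul_inv_eq_iff_eq_mul.1 (h2 b), e]; simp [mul_assoc]
    exact this.imp (fun k => (inv_mul_eq_one.1 k).symm) fun k => by rw [h.tj, ← k]; simp
  · exact .inr ⟨a, fun b => by rw [h2, e]⟩

theorem Fr.dual (h : Fr j t) : Fr (j.comp gam) t := h.comp gam_inj

theorem Fr.aut (h : Fr j t) (a : L0) : Fr (j.comp (MulAut.conj a).toMonoidHom) t := h.comp (MulAut.conj a).injective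

theorem Fr.conj (h : Fr j t) (g : G) :
    Fr ((MulAut.conj g).toMonoidHom.comp j) (g * t * g⁻¹) := by
  have c : ∀ k : G, k * (g * t * g⁻¹) = g * t * g⁻¹ * k → g⁻¹ * k * g * t = t * (g⁻¹ * k * g) :=
    fun k => conj_comm
  refine ⟨?_, fun e => h.t1 (by simpa using e), fun a => ?_, (MulAut.conj g).injective.comp h.inj,
    fun k hk e => ?_, fun k hk a => ?_⟩
  · rw [conj_mul, h.tt]; simp
  · change _ * (g * _ * g⁻¹) = g * _ * g⁻¹ * _
    rw [conj_mul, conj_mul, h.tj]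
  · exact (h.cen _ (c k hk) fun a => conj_comm (e a)).imp
      (fun e => by simpa [mul_assoc] using congrArg (MulAut.conj g) e) fun e => by rw [← e]; group
  · obtain ⟨b, e⟩ := h.nrm _ (c k hk) a
    refine ⟨b, ?_⟩
    change k * (g * _ * g⁻¹) * _ = g * _ * g⁻¹
    rw [← e]; group

theorem Fr.t_ne (h : Fr j t) (a : L0) : t ≠ j a := fun e => by
  have := eq_one_of_comm (a := a) fun r _ => h.inj (by rw [map_mul, map_mul, ← e, h.tj])
  exact h.t1 (by rw [e, this, map_one])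

theorem Fr.t_inv (h : Fr j t) : t⁻¹ = t := inv_eq_of_mul_eq_one_right h.tt

/-- An element of `C(t)` that maps a long root involution to a long one (or short to short) is inner. -/
theorem Fr.inn_of_conj (h : Fr j t) {g : G} (hg : g * t = t * g) {a b : L0}
    (hab : (IsConj (xx 47) a ∧ IsConj (xx 47) b) ∨ (IsConj (xx 44) a ∧ IsConj (xx 44) b))
    (e : g * j a * g⁻¹ = j b) : Inn j t g := by
  refine (h.cases hg).resolve_right fun ⟨c, hc⟩ => ?_
  have k : IsConj (gam a) b := isConj_iff.2 ⟨c, h.inj (by rw [← hc, e])⟩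
  rcases hab with ⟨h1, h2⟩ | ⟨h1, h2⟩
  · have := (gam.map_isConj h1).trans k
    rw [gam_xx (by omega)] at this
    exact ncls.1 (h2.trans this.symm)
  · have := (gam.map_isConj h1).trans k
    rw [gam_xx (by omega)] at this
    exact ncls.1 (this.trans h2.symm)

theorem Fr.inn_of (h : Fr j t) {g : G} (hg : g * t = t * g) {r : ℕ} (hr : r < 48)
    (e : g * j (xx r) = j (xx r) * g) : Inn j t g := by
  refine h.inn_of_conj hg (a := xx r) (b := xx r) ?_ (by rw [e, mul_inv_cancel_right])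
  cases k : lg r
  · exact .inr ⟨conj_short hr k, conj_short hr k⟩
  · exact .inl ⟨conj_long hr k, conj_long hr k⟩

theorem Fr.exists_gam (h : Fr j t) {g : G} (hg : g * t = t * g) (ho : Out j g) :
    ∃ a, ∃ f, g = j a * f ∧ f * t = t * f ∧ (f * f = 1 ∨ f * f = t) ∧
      ∀ b, f * j b * f⁻¹ = j (gam b) := by
  obtain ⟨a, ha⟩ := ho
  have c := h.mul_c (h.inv_c (h.tj a).symm) hg
  have e : ∀ b, (j a)⁻¹ * g * j b * ((j a)⁻¹ * g)⁻¹ = j (gam b) := fun b => by
    calc _ = (j a)⁻¹ * (g * j b * g⁻¹) * j a := by group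
      _ = _ := by rw [ha]; simp [mul_assoc]
  refine ⟨a, (j a)⁻¹ * g, by simp, c, h.cen _ (h.mul_c c c) fun b => ?_, e⟩
  have := e (gam b)
  rw [gam_gam, ← e] at this
  rw [← mul_inv_eq_iff_eq_mul]
  refine Eq.trans ?_ this
  group

theorem Fr.comm_mem (h : Fr j t) {g k : G} (hg : g * t = t * g) (hk : k * t = t * k) :
    ∃ a, g * k * g⁻¹ * k⁻¹ = j a := by
  have key : ∀ {a b : L0} {u v : G}, u * t = t * u → v * t = t * v → u * v = v * u →
      ∃ c, j a * u * (j b * v) * (j a * u)⁻¹ * (j b * v)⁻¹ = j c := fun {a b u v} hu hv e => by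
    obtain ⟨c, hc⟩ := h.nrm u hu b
    obtain ⟨d, hd⟩ := h.nrm v hv a⁻¹
    refine ⟨a * c * d * b⁻¹, ?_⟩
    rw [map_mul, map_mul, map_mul, ← hc, ← hd, map_inv, map_inv]
    calc _ = j a * u * j b * u⁻¹ * (u * v) * u⁻¹ * (j a)⁻¹ * v⁻¹ * (j b)⁻¹ := by group
      _ = _ := by rw [e]; group
  have inn : ∀ {g : G}, Inn j t g → ∃ a u, g = j a * u ∧ u * t = t * u ∧
      ∀ v, v * t = t * v → u * v = v * u := by
    rintro _ ⟨a, rfl | rfl⟩
    · exact ⟨a, 1, by simp, by simp, by simp⟩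
    · exact ⟨a, t, h.tj a, rfl, fun v hv => hv.symm⟩
  rcases h.cases hg with h1 | h1
  · obtain ⟨a, u, rfl, h3, h4⟩ := inn h1
    simpa using key (a := a) (b := 1) h3 hk (h4 k hk)
  rcases h.cases hk with h2 | h2
  · obtain ⟨a, u, rfl, h3, h4⟩ := inn h2
    simpa using key (a := 1) (b := a) hg h3 (h4 g hg).symm
  obtain ⟨a, u, rfl, h3, -, h4⟩ := h.exists_gam hg h1
  obtain ⟨b, v, rfl, h5, -, h6⟩ := h.exists_gam hk h2
  refine key h3 h5 ?_
  rcases h.cen (u⁻¹ * v) (h.mul_c (h.inv_c h3) h5) fun c => by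
    rw [mul_assoc, mul_inv_eq_iff_eq_mul.1 (h6 c), ← h4]; group with e | e
  · rw [inv_mul_eq_one.1 e]
  · rw [inv_mul_eq_iff_eq_mul.1 e, mul_assoc, ← h3]

/-- No conjugate of `t` lies in `L`. -/
theorem Fr.nD (h : Fr j t) (g : G) (a : L0) : g * t * g⁻¹ ≠ j a := fun e => by
  obtain ⟨c, d, c', d', h1, h2, h3, h4, h5⟩ := h3 (a := a) (h.inj (by rw [map_mul, ← e, conj_mul, h.tt]; simp))
  have k : ∀ c, c * a = a * c → j c * (g * t * g⁻¹) = g * t * g⁻¹ * j c := fun c hc => by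
    rw [e, ← map_mul, ← map_mul, hc]
  obtain ⟨u, hu⟩ := (h.conj g).comm_mem (k _ h1) (k _ h2)
  obtain ⟨v, hv⟩ := (h.conj g).comm_mem (k _ h3) (k _ h4)
  refine (h.conj g).t_ne (u * v) ?_
  rw [map_mul, ← hu, ← hv, e, h5]
  simp only [map_mul, map_inv]

/-- An element of `C(t)` commuting with `j x_s`, `s ∈ l ≠ []`, is `j a` or `t j a` with `a` commuting with them. -/
theorem Fr.pin (h : Fr j t) {g : G} (hg : g * t = t * g) {l : List ℕ} (hl : ∃ r ∈ l, r < 48)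
    (e : ∀ s ∈ l, g * j (xx s) = j (xx s) * g) :
    ∃ a, (∀ s ∈ l, a * xx s = xx s * a) ∧ (g = j a ∨ g = t * j a) := by
  obtain ⟨r, hr, hr'⟩ := hl
  obtain ⟨a, ha⟩ := h.inn_of hg hr' (e r hr)
  refine ⟨a, fun s hs => h.inj ?_, ha⟩
  have := e s hs
  rw [map_mul, map_mul]
  rcases ha with rfl | rfl
  · exact this
  · rwa [← mul_assoc, ← h.tj, mul_assoc, mul_assoc, mul_right_inj] at this

theorem Fr.inn_c (h : Fr j t) {g : G} (hg : Inn j t g) : g * t = t * g := by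
  obtain ⟨a, rfl | rfl⟩ := hg
  · exact (h.tj a).symm
  · rw [mul_assoc, ← h.tj]

/-- The subgroup of the `j a`, `t j a` with `a ∈ H`. -/
def Fr.sub (h : Fr j t) (H : Subgroup L0) : Subgroup G where
  carrier := {g | ∃ a ∈ H, g = j a ∨ g = t * j a}
  one_mem' := ⟨1, one_mem _, .inl (map_one j).symm⟩
  mul_mem' := by
    rintro _ _ ⟨a, ha, rfl | rfl⟩ ⟨b, hb, rfl | rfl⟩ <;> refine ⟨a * b, mul_mem ha hb, ?_⟩ <;> rw [map_mul]
    · exact .inl rfl
    · exact .inr (by rw [← mul_assoc, ← h.tj, mul_assoc])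
    · exact .inr (mul_assoc _ _ _)
    · exact .inl (by rw [h.tj a, mul_assoc, ← mul_assoc t, h.tt, one_mul])
  inv_mem' := by
    rintro _ ⟨a, ha, rfl | rfl⟩ <;> refine ⟨a⁻¹, inv_mem ha, ?_⟩
    · exact .inl (map_inv j a).symm
    · exact .inr (by rw [mul_inv_rev, h.t_inv, ← map_inv, h.tj])

/-- The subgroup `⟨t⟩ L`. -/
def Fr.innS (h : Fr j t) : Subgroup G :=
  (h.sub ⊤).copy {g | Inn j t g} (by ext g; exact ⟨fun ⟨a, e⟩ => ⟨a, trivial, e⟩, fun ⟨a, _, e⟩ => ⟨a, e⟩⟩)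

theorem Fr.mem_innS (h : Fr j t) {g : G} : g ∈ h.innS ↔ Inn j t g := Iff.rfl

theorem Fr.card_dvd [Finite G] (h : Fr j t) :
    Nat.card (centralizer ({t} : Set G)) ∣ 4 * Nat.card L0 := by
  have h1 : j.range ≤ h.innS := by rintro _ ⟨a, rfl⟩; exact ⟨a, .inl rfl⟩
  have h2 : h.innS ≤ centralizer {t} := fun g hg => mem_centralizer_singleton_iff.2 (h.inn_c hg)
  have h3 : j.range.relIndex h.innS ∣ 2 := relIndex_dvd_two_iff.2 ⟨t, ⟨1, .inr (by simp)⟩, by
    rintro _ ⟨a, rfl | rfl⟩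
    · exact .inr ⟨a, rfl⟩
    · exact .inl ⟨a, by rw [h.tj, mul_assoc, h.tt, mul_one]⟩⟩
  have h4 : h.innS.relIndex (centralizer {t}) ∣ 2 := by
    rw [relIndex_dvd_two_iff]
    by_cases e : ∀ b ∈ centralizer {t}, b ∈ h.innS
    · exact ⟨1, one_mem _, fun b hb => .inr (e b hb)⟩
    · push Not at e
      obtain ⟨f, hf, e⟩ := e
      refine ⟨f⁻¹, inv_mem hf, fun b hb => ?_⟩
      rw [mem_centralizer_singleton_iff] at hf hb
      refine (h.cases hb).symm.imp_left fun h5 => ?_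
      obtain ⟨a, ha⟩ := (h.cases hf).resolve_left e
      obtain ⟨c, hc⟩ := h5
      refine h.inn_of_conj (h.mul_c hb (h.inv_c hf)) (a := a * xx 44 * a⁻¹) (b := c * xx 44 * c⁻¹)
        (.inr ⟨isConj_iff.2 ⟨a, rfl⟩, isConj_iff.2 ⟨c, rfl⟩⟩) ?_
      have e : xx 44 = gam (xx 47) := (gam_xx (r := 47) (by omega)).symm
      rw [e, ← ha, ← hc]; group
  have h5 := (j.range.subgroupOf (centralizer {t})).card_mul_index
  rw [Nat.card_congr (subgroupOfEquivOfLe (h1.trans h2)).toEquiv,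
    ← Nat.card_congr (MonoidHom.ofInjective h.inj).toEquiv] at h5
  rw [← h5, mul_comm]
  refine Nat.mul_dvd_mul_right ?_ _
  change j.range.relIndex _ ∣ 2 * 2
  rw [← relIndex_mul_relIndex _ _ _ h1 h2]
  exact Nat.mul_dvd_mul h3 h4

/-- `T₀ = ⟨t⟩ U`. -/
def T0 (j : L0 →* G) (t : G) : Subgroup G := zpowers t ⊔ (UU 24).map j

theorem Fr.mem_T0 (h : Fr j t) {g : G} : g ∈ T0 j t ↔ ∃ u ∈ UU 24, g = j u ∨ g = t * j u := by
  have : T0 j t = h.sub (UU 24) := by
    refine le_antisymm (sup_le (zpowers_le.2 ⟨1, one_mem _, .inr (by simp)⟩) ?_) ?_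
    · rintro _ ⟨a, ha, rfl⟩; exact ⟨a, ha, .inl rfl⟩
    · rintro _ ⟨a, ha, rfl | rfl⟩
      · exact mem_sup_right (mem_map_of_mem j ha)
      · exact mul_mem (mem_sup_left (mem_zpowers t)) (mem_sup_right (mem_map_of_mem j ha))
  rw [this]; rfl

theorem Fr.pT0 (h : Fr j t) : IsPGroup 2 (T0 j t) := isPGroup_iff.2 fun g hg => by
  obtain ⟨u, hu, e⟩ := h.mem_T0.1 hg
  obtain ⟨k, hk⟩ := isPGroup_iff.1 syl_U.pgrp u hu
  refine ⟨k + 1, ?_⟩
  rcases e with rfl | rfl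
  · rw [← map_pow, pow_succ, pow_mul, hk, one_pow, map_one]
  · rw [(show Commute t (j u) from h.tj u).mul_pow, ← map_pow, pow_succ 2, pow_mul u, hk, pow_mul',
      pow_two t, h.tt]
    simp

theorem Fr.comm_T0 (h : Fr j t) : ⁅T0 j t, T0 j t⁆ = ⁅UU 24, UU 24⁆.map j := by
  rw [map_commutator]
  refine le_antisymm (commutator_le.2 fun a ha b hb => ?_) (commutator_mono le_sup_right le_sup_right)
  obtain ⟨u, hu, e⟩ := h.mem_T0.1 ha
  obtain ⟨v, hv, e'⟩ := h.mem_T0.1 hb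
  have c : ∀ u (g : G), j u * (t * g) = t * (j u * g) := fun u g => by rw [← mul_assoc, ← h.tj, mul_assoc]
  have c' : ∀ g, t * (t * g) = g := fun g => by rw [← mul_assoc, h.tt, one_mul]
  have : ⁅a, b⁆ = ⁅j u, j v⁆ := by
    rcases e with rfl | rfl <;> rcases e' with rfl | rfl <;>
      simp only [commutatorElement_def, mul_inv_rev, h.t_inv, ← map_inv, ← h.tj, mul_assoc, c, c']
  rw [this]
  exact commutator_mem_commutator (mem_map_of_mem j hu) (mem_map_of_mem j hv)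

theorem Fr.syl_T0 [Finite G] (h : Fr j t) (hi : ∀ g, g * t = t * g → Inn j t g) :
    IsSyl 2 (T0 j t) (centralizer {t}) := by
  refine ⟨fun g hg => ?_, h.pT0, fun R hR h1 h2 g hg => ?_⟩
  · obtain ⟨u, -, e⟩ := h.mem_T0.1 hg
    exact mem_centralizer_singleton_iff.2 (h.inn_c ⟨u, e⟩)
  · have h3 := syl_U.max (R.comap j) (hR.comap_of_injective _ h.inj)
      (map_le_iff_le_comap.1 (le_sup_right.trans h1)) le_top
    obtain ⟨a, e⟩ := hi g (mem_centralizer_singleton_iff.1 (h2 hg))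
    refine h.mem_T0.2 ⟨a, h3 ?_, e⟩
    rcases e with rfl | rfl
    · exact hg
    · exact (mul_mem_cancel_left (h1 (mem_sup_left (mem_zpowers t)))).1 hg

theorem T0_dual : T0 (j.comp gam) t = T0 j t := by
  have : (UU 24).map gam = UU 24 := le_antisymm (map_le_iff_le_comap.2 fun _ => gam_U)
    fun a ha => ⟨gam a, gam_U ha, gam_gam a⟩
  rw [T0, T0, ← map_map, this]

end Cfsg.Agent.F42S
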