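import Cfsg.Agent.F42S.RlB
import Cfsg.Agent.S2175
import Cfsg.Agent.Class.FieldTransport

/-! Identification of `G₀` for the types `E₆(2)` and `F₄(4)`. -/

set_option autoImplicit false

namespace Cfsg.Agent.F42S

open Cfsg Cfsg.Lie Cfsg.Agent.Chev Cfsg.Agent.Comp Subgroup Cfsg.Agent.PLocal.Amb
open Cfsg.Agent.WG (el el_nil el_cons el_append)
open Cfsg.Agent.Class (GF4)

attribute [local instance] goodF4 goodE6

variable {G : Type*} [Group G] [Finite G] {j : L0 →* G} {t : G} {X : ℕ → ℕ → G}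

/-- Identification from a system of root elements of a Chevalley datum. -/
theorem Rl.idf_st {D : ChevalleyDatum} (hD : D ∈ [chevG2, chevB2, chevD4, chevF4, chevE6, chevE7, chevE8]) [Good D]
    (h2 : 2 < D.rank) {F : Type} [Field F] [Finite F] [CharP F 2] {ty : ℕ} (hty : ty < 4) (hf : Fr j t)
    (h : Rl j t ty X) {y : ℕ → F → G} (hy : IsSt0 D y) (e0 : Gs D y = SS ty X 0) (e1 : Us D y ≤ SS ty X 24)
    (hc : ∀ m : D.group F, m * m = 1 → m ≠ 1 → ∃ w : List ℕ, (∀ r ∈ w, r < D.nroots) ∧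
      IsConj m (el (fun r => xC D F r 1) w) ∧ ∃ a, a * a = 1 ∧ el (fun r => y r 1) w = j a) : Idf j ty X := by
  obtain ⟨T⟩ := exists_rootTable hD
  let z : ℕ → F → SS ty X 0 := fun r a => if hr : r < D.nroots then ⟨y r a, e0.le (mem_XS (S := {r | r < D.nroots}) hr a)⟩ else 1
  have hz : ∀ r < D.nroots, ∀ a, (z r a : G) = y r a := fun r hr a => by simp only [z, dif_pos hr]
  have hs := hy.codRestrict z hz T
  have top : Gs D z = ⊤ := map_injective (SS ty X 0).subtype_injective (by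
    rw [map_Gs, ← MonoidHom.range_eq_map, range_subtype]
    exact (XS_congr hz fun _ hr => hr).trans e0)
  have : Nontrivial (SS ty X 0) := ⟨⟨⟨_, h.j_mem (xx 0)⟩, 1, fun e =>
    Rl.j_ne hf (r := 0) (by omega) (congrArg Subtype.val e)⟩⟩
  obtain ⟨θ, hθ⟩ := hs.exists_hom hD (by rintro (rfl | rfl) <;> exact absurd h2 (by decide)) top
  refine h.idf hty hf θ (surjective_of_hom θ hθ) ((hs.isSt hD).ker_eq_center T θ hθ top).le (fun m hm => ?_) ?_
  · by_cases m1 : m = 1
    · refine ⟨1, mul_one _, ?_⟩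
      rw [m1, show (⟨j 1, h.j_mem 1⟩ : SS ty X 0) = 1 from Subtype.ext (map_one j), map_one]
    obtain ⟨w, hw, c, a, a2, e⟩ := hc m hm m1
    refine ⟨a, a2, ?_⟩
    have k : ∀ w : List ℕ, (∀ r ∈ w, r < D.nroots) → θ (el (fun r => z r 1) w) = el (fun r => xC D F r 1) w ∧
        ((el (fun r => z r 1) w : SS ty X 0) : G) = el (fun r => y r 1) w := fun w hw => by
      induction w with
      | nil => exact ⟨map_one θ, rfl⟩
      | cons r w ih =>
        rw [List.forall_mem_cons] at hw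
        rw [el_cons, el_cons, el_cons, map_mul, coe_mul, hθ r hw.1, hz r hw.1, (ih hw.2).1, (ih hw.2).2]
        exact ⟨rfl, rfl⟩
    rwa [show (⟨j a, h.j_mem a⟩ : SS ty X 0) = el (fun r => z r 1) w from Subtype.ext (e.symm.trans (k w hw).2.symm),
      (k w hw).1]
  · refine (Nat.odd_iff.2 (Nat.two_dvd_ne_zero.1 ((isND_xC T).not_dvd_index_Us isSt_xC Gs_xC 2
      (not_dvd_card_Hs 2)))).of_dvd_nat (index_dvd_of_le (XS_le.2 fun r hr a => ?_))
    refine ⟨z r a, mem_subgroupOf.2 ?_, hθ r hr.1 a⟩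
    rw [hz r hr.1]
    exact e1 (mem_XS hr a)

/-- The folding of the roots of type `E₆`. -/
def fo (r : ℕ) : ℕ := 0xbeeb6ca2cae7aa69299638a1a278267dd91d69895e71b8dc6626e13943564cc51344a5d548b49024f20738d30a18b2452040c70c2040 >>> (6 * r) % 64

/-- The coefficient attached to a root of type `E₆`. -/
def cf (r : ℕ) : ℕ := 0x57a779ebe67e59fe7af9ea75e9debe799f95 >>> (2 * r) % 4

/-- A summand orthogonal to the negative of the graph image. -/
def wa (r : ℕ) : ℕ := 0x24469801d0070d242a4c8901e3800d003060d000050f121c48a1c1c504062428d0e14204180c4060e1420206041850a0c184180c20208043830804101 >>> (7 * r) % 128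

/-- The other summand. -/
def wb (r : ℕ) : ℕ := 0x438900043010e23b87122428510044010e140000223b870e1407509f4486f60397afa03e70f5e3c74eddbc74f1cb86ed9a3246b55ac54b10a4469d019 >>> (7 * r) % 128

/-- The folded roots are independent. -/
def gd (r s : ℕ) : Prop := fo s ≠ fo r ∧ fo s ≠ 47 - fo r

instance instDecGd (r s : ℕ) : Decidable (gd r s) := inferInstanceAs (Decidable (_ ∧ _))

set_option synthInstance.maxSize 20000 in
theorem tab_fo : ∀ r < 72, fo r < 48 ∧ cf r < sz 0 (fo r) ∧ chevE6.neg r = 71 - r ∧ (36 ≤ r → 24 ≤ fo r) ∧ ∀ s < 72,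
    (gd r s → (cw 0 (fo r) (fo s) (cf r) (cf s)).filter (·.2 ≠ 0) = (oddW chevE6 r s).map fun k => (fo k, cf k)) ∧
    (fo s = fo r → oddW chevE6 r s = []) ∧ (fo s = 47 - fo r → s ≠ 71 - r → oddW chevE6 r s = [] ∧ wa r < 72 ∧ wb r < 72 ∧
      gd (wa r) (wb r) ∧ gd (wa r) s ∧ gd (wb r) s ∧ oddW chevE6 (wa r) (wb r) = [r] ∧ oddW chevE6 (wa r) s = [] ∧
      oddW chevE6 (wb r) s = []) := by decide +kernel

theorem tab_fo' : ∀ r < 48, ∀ c < sz 0 r, c = 0 ∨ (c = 1 ∧ sz 0 r = 4) ∨ ∃ k < 72, fo k = r ∧ cf k = c := by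
  decide +kernel

omit [Finite G] in
theorem ew_filter (h : ∀ r, X r 0 = 1) (w : List (ℕ × ℕ)) : ew X (w.filter (·.2 ≠ 0)) = ew X w := by
  induction w with
  | nil => rfl
  | cons p w ih =>
    rw [List.filter_cons, ew_cons, ← ih]
    by_cases e : p.2 = 0
    · simp [e, h]
    · simp [e, ew_cons]

omit [Finite G] in
theorem Lr.hom0 (h : Lr 0 X) : ∃ φ : chevE6.group (ZMod 2) →* G, ∀ r < 72, φ (xC chevE6 (ZMod 2) r 1) = X (fo r) (cf r) := by
  have k : ∀ r < 72, ∀ s < 72, gd r s → X (fo s) (cf s) * X (fo r) (cf r) =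
      X (fo r) (cf r) * X (fo s) (cf s) * ((oddW chevE6 r s).map fun k => X (fo k) (cf k)).prod := fun r hr s hs g => by
    obtain ⟨r1, r2, -, -, r3⟩ := tab_fo r hr
    obtain ⟨s1, s2, -⟩ := tab_fo s hs
    rw [h.com _ r1 _ s1 g.1 g.2 _ r2 _ s2, ← ew_filter h.zero, (r3 s hs).1 g, ew, List.map_map]
    rfl
  refine exists_hom_two (by simp) zm2 _ (fun r hr => h.sq (tab_fo r hr).1 (tab_fo r hr).2.1) fun r hr s hs _ k2 => ?_
  obtain ⟨r1, r2, r3, -, r4⟩ := tab_fo r hr
  obtain ⟨-, r4, r5⟩ := r4 s hs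
  by_cases e : fo s = fo r
  · rw [r4 e, List.map_nil, List.prod_nil, mul_one, e]
    exact h.cm r1 (e ▸ (tab_fo s hs).2.1) r2
  by_cases e' : fo s = 47 - fo r
  · obtain ⟨a1, a2, a3, a4, a5, a6, a7, a8, a9⟩ := r5 e' (r3 ▸ k2)
    have b1 := k _ a2 _ a3 a4
    have b2 := k _ a2 _ hs a5
    have b3 := k _ a3 _ hs a6
    simp only [a7, a8, a9, List.map_nil, List.prod_nil, mul_one, List.map_cons, List.prod_cons] at b1 b2 b3
    rw [a1, List.map_nil, List.prod_nil, mul_one, ← inv_mul_eq_iff_eq_mul.2 b1]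
    exact (Commute.mul_right (Commute.mul_right b2 b3).inv_right (Commute.mul_right b3 b2)).eq
  exact k r hr s hs ⟨e, e'⟩

theorem Rl.idf0 (hf : Fr j t) (h : Rl j t 0 X) : Idf j 0 X := by
  obtain ⟨φ, hφ⟩ := h.hom0
  have st := (isSt_xC (D := chevE6) (F := ZMod 2)).toIsSt0.map φ
  have m : ∀ {H : Subgroup G} {r}, r < 72 → X (fo r) (cf r) ∈ H → ∀ a, φ (xC chevE6 (ZMod 2) r a) ∈ H :=
    fun hr e a => by
      rcases zm2 a with rfl | rfl
      · rw [st.x_zero hr]; exact one_mem _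
      · rwa [hφ _ hr]
  refine h.idf_st (by simp) (by decide) (by omega) hf st (le_antisymm (XS_le.2 fun r hr => m hr ?_) ?_)
    (XS_le.2 fun r hr => m hr.1 ?_) fun a h2 h1 => ?_
  · exact X_mem (Nat.zero_le _) (tab_fo r hr).1 (tab_fo r hr).2.1
  · have k : ∀ r < 48, ∀ c < sz 0 r, ¬ (c = 1 ∧ sz 0 r = 4) → X r c ∈ Gs chevE6 fun r a => φ (xC chevE6 (ZMod 2) r a) :=
      fun r hr c hc n => by
        rcases tab_fo' r hr c hc with rfl | e | ⟨k, hk, rfl, rfl⟩
        · rw [h.zero]; exact one_mem _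
        · exact absurd e n
        · rw [← hφ k hk]; exact mem_XS (x := fun r a => φ (xC chevE6 (ZMod 2) r a)) (S := {r | r < 72}) hk 1
    refine SS_le fun r _ hr c hc => ?_
    by_cases n : c = 1 ∧ sz 0 r = 4
    · rw [n.1, ← show X r 2 * X r 3 = X r 1 from h.add r hr 2 (by omega) 3 (by omega)]
      exact mul_mem (k r hr 2 (by omega) (by omega)) (k r hr 3 (by omega) (by omega))
    · exact k r hr c hc n
  · obtain ⟨r1, r2, -, r3, -⟩ := tab_fo r hr.1
    exact X_mem (r3 ((rootTableE6.pos_iff r).1 hr).1) r1 r2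
  obtain ⟨y, hy, h3, g, hg, e⟩ := (S2175.result (F := ZMod 2)).2.1 a a.2 (by
    rw [Subgroup.orderOf_coe]; exact orderOf_eq_prime (by rw [pow_two, h2]) h1)
  have k : ∀ b : chevE6.group (ZMod 2), y.1 = b.1.1 → IsConj a b :=
    fun b hb => conj_sub.2 ⟨g, hg, e.trans (Units.ext hb)⟩
  have s4 : ∀ {r}, lg r = false → sz 0 r = 4 := fun e => if_neg (by simp [e])
  simp only [List.mem_cons, List.not_mem_nil, or_false] at h3
  rcases h3 with h3 | h3 | h3
  · refine ⟨[71], by decide, k _ (by simpa using h3), xx 47, xx_sq _, ?_⟩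
    rw [el_cons, el_nil, mul_one, hφ 71 (by omega), ← h.one 47 (by omega)]
    rfl
  · refine ⟨[68, 66], by decide, k _ (by simpa using h3), xx 44, xx_sq _, ?_⟩
    have := s4 (r := 44) (by decide +kernel)
    rw [el_cons, el_cons, el_nil, mul_one, hφ 68 (by omega), hφ 66 (by omega), ← h.one 44 (by omega)]
    exact h.add 44 (by omega) 3 (by omega) 2 (by omega)
  · refine ⟨[55, 65, 67], by decide, k _ (by simpa [mul_assoc] using h3), el xx [40, 43],
      (el_append _ _).symm.trans (Q_eq (v := []) (by decide +kernel)), ?_⟩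
    have := s4 (r := 40) (by decide +kernel)
    have e1 := h.com 40 (by omega) 43 (by omega) (by omega) (by omega) 2 (by omega) 1 (one_lt_sz _ _)
    rw [show cw 0 40 43 2 1 = [] by decide +kernel, ew_nil, mul_one] at e1
    rw [el_cons, el_cons, el_cons, el_nil, mul_one, hφ 55 (by omega), hφ 65 (by omega), hφ 67 (by omega), el_cons,
      el_cons, el_nil, mul_one, map_mul, ← h.one 40 (by omega), ← h.one 43 (by omega)]
    change X 40 3 * (X 43 1 * X 40 2) = _
    rw [e1, ← mul_assoc, h.add 40 (by omega) 3 (by omega) 2 (by omega)]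
    rfl

/-- The terms of the commutator formula in characteristic `2`. -/
def tm (r s : ℕ) : List (ℕ × ℕ × ℕ) :=
  if lg r = lg s then (if ip r s = (if lg r then 4 else 6) then [(ad r s, 1, 1)] else [])
  else if ip r s = 4 then [(ad r s, 1, 1), if lg r then (ad (ad r s) s, 1, 2) else (ad (ad r s) r, 2, 1)] else []

theorem tab_tm : ∀ r < 48, ∀ s < 48,
    ((chevF4.commTerms r s).filter fun c => c.2.1 % 2 = 1).map (fun c => (c.1, c.2.2)) = tm r s := by decide +kernel

/-- The code of an element of the field with four elements. -/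
def io (a : GF4) : ℕ := a.re.val + 2 * a.im.val

theorem tab_io : ∀ a : GF4, io a < 4 ∧ ∀ b : GF4, io (a + b) = io a ^^^ io b ∧ mu 2 (io a) (io b) = io (a ^ 1 * b ^ 1) ∧
    mu 2 (io a) (mu 2 (io b) (io b)) = io (a ^ 1 * b ^ 2) ∧ mu 2 (io b) (mu 2 (io a) (io a)) = io (a ^ 2 * b ^ 1) := by
  decide +kernel

theorem tab_io' : ∀ c < 4, ∃ a, io a = c := by decide +kernel

theorem cw_two (r s : ℕ) (a b : GF4) :
    cw 2 r s (io a) (io b) = (tm r s).map fun c => (c.1, io (a ^ c.2.1 * b ^ c.2.2)) := by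
  obtain ⟨-, h1, h2, h3⟩ := (tab_io a).2 b
  unfold cw tm
  simp only [lt_self_iff_false, if_false, and_false, h1, h2, h3]
  split_ifs <;> rfl

theorem charP_GF4 : CharP GF4 2 := (CharP.charP_iff_prime_eq_zero Nat.prime_two).2 (by decide +kernel)

attribute [local instance] charP_GF4

omit [Finite G] in
theorem word_io (h : ∀ r, X r 0 = 1) (a b : GF4) (l : List (ℕ × ℤ × ℕ × ℕ)) :
    word (fun r c => X r (io c)) (l.map fun c => (c.1, (c.2.1 : GF4) * (-a) ^ c.2.2.1 * b ^ c.2.2.2)) =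
      ew X (((l.filter fun c => c.2.1 % 2 = 1).map fun c => (c.1, c.2.2)).map
        fun c => (c.1, io (a ^ c.2.1 * b ^ c.2.2))) := by
  induction l with
  | nil => rfl
  | cons c l ih =>
    have e := CharP.intCast_eq_intCast_mod GF4 2 (a := c.2.1)
    rw [List.map_cons, word_cons, ih, List.filter_cons, e]
    rcases Int.emod_two_eq_zero_or_one c.2.1 with h0 | h0
    · simp [h0, show io 0 = 0 from rfl, h]
    · simp [h0, CharTwo.neg_eq, ew_cons]

theorem Rl.idf2 (hf : Fr j t) (h : Rl j t 2 X) : Idf j 2 X := by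
  have s4 : ∀ r, sz 2 r = 4 := fun r => if_neg (by simp)
  have lt : ∀ r a, io a < sz 2 r := fun r a => s4 r ▸ (tab_io a).1
  have st : IsSt0 chevF4 fun r c => X r (io c) :=
    ⟨fun r hr a b => by rw [h.add r hr _ (lt r a) _ (lt r b), ((tab_io a).2 b).1], fun r s hr hs k1 k2 a b => by
      rw [neg_eq hr] at k2
      rw [h.com r hr s hs k1 k2 _ (lt r a) _ (lt s b), ChevalleyDatum.commWord, word_io h.zero, tab_tm r hr s hs, cw_two]⟩
  refine h.idf_st memF4 (by decide) (by omega) hf st (le_antisymm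
    (XS_le.2 fun r hr a => X_mem (Nat.zero_le _) hr (lt r a)) (SS_le fun r _ hr c hc => ?_))
    (XS_le.2 fun r hr a => X_mem ((rootTableF4.pos_iff r).1 hr).1 hr.1 (lt r a)) fun a h2 h1 => ?_
  · obtain ⟨a, rfl⟩ := tab_io' c (s4 r ▸ hc)
    exact mem_XS (x := fun r c => X r (io c)) (S := {r | r < 48}) hr a
  obtain ⟨y, hy, h3, g, hg, e⟩ := (S2174.result (F := GF4)).2.1 a a.2 (by
    rw [Subgroup.orderOf_coe]; exact orderOf_eq_prime (by rw [pow_two, h2]) h1)
  have k : ∀ w : List ℕ, (∀ r ∈ w, r < 48) → Q (w ++ w) [] = true → y.1 = (el (fun r => xC chevF4 GF4 r 1) w).1.1 →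
      ∃ w : List ℕ, (∀ r ∈ w, r < chevF4.nroots) ∧ IsConj a (el (fun r => xC chevF4 GF4 r 1) w) ∧
        ∃ a, a * a = 1 ∧ el (fun r => X r (io 1)) w = j a := fun w hw hq hb =>
    ⟨w, hw, conj_sub.2 ⟨g, hg, e.trans (Units.ext hb)⟩, el xx w, (el_append _ _).symm.trans (Q_eq hq), by
      clear hq hb
      induction w with
      | nil => exact (map_one j).symm
      | cons r w ih =>
        rw [List.forall_mem_cons] at hw
        rw [el_cons, el_cons, map_mul, ih hw.2, ← h.one r hw.1]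
        rfl⟩
  simp only [List.mem_cons, List.not_mem_nil, or_false] at h3
  rcases h3 with h3 | h3 | h3 | h3
  · exact k [47] (by decide) (by decide +kernel) (by simpa using h3)
  · exact k [44] (by decide) (by decide +kernel) (by simpa using h3)
  · exact k [47, 44] (by decide) (by decide +kernel) (by simpa using h3)
  · exact k [39, 45] (by decide) (by decide +kernel) (by simpa using h3)

end Cfsg.Agent.F42S
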