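import Cfsg.Agent.F42S.RlB
import Cfsg.Agent.KSG.PresBN

/-! Bruhat decomposition for the type `²E₆(2)` from the relations alone. -/

set_option autoImplicit false
set_option synthInstance.maxSize 100000
set_option synthInstance.maxHeartbeats 400000

namespace Cfsg.Agent.F42S

open Cfsg Cfsg.Agent.Comp Subgroup Cfsg.Agent.PLocal.Amb
open Cfsg.Agent.WG (el el_nil el_cons el_append)
open scoped commutatorElement

variable {G : Type*} [Group G] {j : L0 →* G} {X : ℕ → ℕ → G}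

namespace I1

/-- Letters. -/
abbrev Lt : Type := ℕ × ℕ

/-- Insert a letter into a collected word. -/
noncomputable def ins (m : ℕ) (ok : Lt → Bool) (cf : Lt → Lt → List Lt) (f : ℕ) : Lt → List Lt → List Lt :=
  Nat.rec (fun a w => a :: w) (fun _ I a w => if a.2 = 0 then w else
    List.rec (motive := fun _ => List Lt) [a] (fun b t _ => if ok a && ok b then
      if a.1 = b.1 then I (a.1, a.2 ^^^ b.2) t else
        if b.1 < a.1 ∧ a.1 + b.1 ≠ m then b :: I a ((cf b a).foldr I t) else a :: b :: t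
      else a :: b :: t) w) f

theorem ew_nil : ew X [] = 1 := rfl

theorem ew_cons (a : Lt) (w : List Lt) : ew X (a :: w) = X a.1 a.2 * ew X w := by simp [ew]

theorem ew_append (v w : List Lt) : ew X (v ++ w) = ew X v * ew X w := by simp [ew]

theorem ew_foldr {I : Lt → List Lt → List Lt} (h : ∀ a w, ew X (I a w) = X a.1 a.2 * ew X w) (v w : List Lt) :
    ew X (v.foldr I w) = ew X v * ew X w := by
  induction v with
  | nil => simp [ew_nil]
  | cons a v ih => rw [List.foldr_cons, h, ih, ew_cons, mul_assoc]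

theorem ins_ok {m : ℕ} {ok : Lt → Bool} {cf : Lt → Lt → List Lt} (h0 : ∀ r, X r 0 = 1)
    (h1 : ∀ r c d, ok (r, c) = true → ok (r, d) = true → X r c * X r d = X r (c ^^^ d))
    (h2 : ∀ a b, ok a = true → ok b = true → a.1 ≠ b.1 → a.1 + b.1 ≠ m →
      X a.1 a.2 * X b.1 b.2 = X b.1 b.2 * X a.1 a.2 * ew X (cf b a)) (f : ℕ) :
    ∀ a w, ew X (ins m ok cf f a w) = X a.1 a.2 * ew X w := by
  induction f with
  | zero => exact ew_cons
  | succ f ih =>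
    intro a w
    change ew X (if a.2 = 0 then w else _) = _
    split_ifs with e
    · rw [e, h0, one_mul]
    cases w with
    | nil => exact ew_cons a []
    | cons b t =>
      change ew X (if ok a && ok b then if a.1 = b.1 then ins m ok cf f _ t else if _ then
        b :: ins m ok cf f a ((cf b a).foldr (ins m ok cf f) t) else _ else _) = _
      split_ifs with e1 e2 e3
      · rw [Bool.and_eq_true] at e1
        rw [ih, ew_cons, ← mul_assoc, ← e2, h1 _ _ _ e1.1 (e2 ▸ e1.2)]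
      · rw [Bool.and_eq_true] at e1
        rw [ew_cons, ih, ew_foldr ih, ew_cons, ← mul_assoc (X a.1 a.2) (X b.1 b.2), h2 a b e1.1 e1.2 e2 e3.2]
        group
      exacts [ew_cons _ _, ew_cons _ _]

/-- The letter is in range. -/
def ok1 (a : Lt) : Bool := a.1 < 48 && a.2 < sz 1 a.1

/-- The collector. -/
noncomputable def nf1 (w : List Lt) : List Lt :=
  w.foldr (ins 47 ok1 (fun b a => cw 1 b.1 a.1 b.2 a.2) 20) []

/-- Conjugation by a letter. -/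
noncomputable def cj1 (a : Lt) (w : List Lt) : List Lt :=
  nf1 (w.flatMap fun p => if ok1 p = true ∧ p.1 ≠ a.1 ∧ p.1 + a.1 ≠ 47 then p :: cw 1 a.1 p.1 a.2 p.2
    else [a, p, a])

/-- The twist of the reflection. -/
def tw (i c : ℕ) : ℕ := if i < 2 then br c else c

theorem ok1_iff {a : Lt} : ok1 a = true ↔ a.1 < 48 ∧ a.2 < sz 1 a.1 := by simp [ok1]

theorem tab_wn : ∀ i < 4, ∀ r < 48, r ≠ sm i → r ≠ 47 - sm i → ∀ c < sz 1 r,
    cj1 (sm i, 1) (cj1 (47 - sm i, 1) (cj1 (sm i, 1) [(r, c)])) = nf1 [(sr i r, tw i c)] := by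
  decide +kernel

theorem tab_tor : ∀ i < 2, ∀ c < 4, c ≠ 0 → ∀ r < 48, r ≠ sm i → r ≠ 47 - sm i → ∃ l < 4, l ≠ 0 ∧
    (lg r = true → l = 1) ∧ ∀ e < sz 1 r, cj1 (sm i, c) (cj1 (47 - sm i, c) (cj1 (sm i, c)
      [(sr i r, tw i e)])) = nf1 [(r, mu 1 l e)] := by
  decide +kernel

/-- `r = p + q` in terms of the collector. -/
def Dec (p q r : ℕ) : Prop := ∀ l < 4, ∀ e < 4, nf1 [(p, l), (q, e), (p, l), (q, e)] = nf1 [(r, br (mu 1 l e))]

noncomputable instance (p q r : ℕ) : Decidable (Dec p q r) := by unfold Dec; infer_instance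

theorem tab_dec : ∀ i < 2, ∀ r < 48, r = sm i ∨ r = 47 - sm i → sz 1 r = 4 ∧ lg r = false ∧ ∃ p < 48, ip p r = 10 ∧
    ∃ q < 48, q = ad r (47 - p) ∧ p ≠ sm i ∧ p ≠ 47 - sm i ∧ q ≠ sm i ∧ q ≠ 47 - sm i ∧ sz 1 p = 4 ∧ sz 1 q = 4 ∧
      Dec p q r ∧ Dec (sr i p) (sr i q) (sr i r) := by
  decide +kernel

theorem tab_F : ∀ c < 4, br c < 4 ∧ br (br c) = c ∧ mu 1 1 c = c ∧ (br c = 0 → c = 0) ∧ c ^^^ c = 0 ∧
    (c < 2 → br c = c) ∧ ∀ l < 4, mu 1 l c < 4 ∧ (l ≠ 0 → c ≠ 0 → mu 1 l c ≠ 0) ∧ c ^^^ l < 4 ∧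
    (l ≠ 0 → mu 1 l (mu 1 (mu 1 l l) c) = c) ∧ br (mu 1 l (br c)) = mu 1 (br l) c ∧
    ∀ m < 4, mu 1 l (mu 1 m c) = mu 1 (mu 1 l m) c ∧
      br (mu 1 l (mu 1 m (br c))) = mu 1 (br (mu 1 l m)) c := by decide +kernel

theorem tab_S : ∀ i < 4, 24 ≤ sm i ∧ sr i (sm i) = 47 - sm i ∧ sz 1 (47 - sm i) = sz 1 (sm i) ∧
    (2 ≤ i → sz 1 (sm i) = 2) ∧ Q (nr (sm i) ++ nr (sm i)) [] = true ∧ ∀ r < 48, 24 ≤ r → r ≠ sm i →
      24 ≤ sr i r ∧ ∀ c < sz 1 r, ∀ d < sz 1 (sm i), ∀ p ∈ cw 1 (sm i) r d c,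
        24 ≤ p.1 ∧ p.1 ≠ sm i ∧ ok1 p = true := by decide +kernel

theorem sz_cases (r : ℕ) : lg r = true ∧ sz 1 r = 2 ∨ lg r = false ∧ sz 1 r = 4 := by
  cases e : lg r <;> simp [sz, e]

theorem sz_le (r : ℕ) : 2 ≤ sz 1 r ∧ sz 1 r ≤ 4 := by rcases sz_cases r with h | h <;> omega

theorem sz_congr {r s : ℕ} (e : lg r = lg s) : sz 1 r = sz 1 s := by rw [sz, sz, e]

theorem br_lt {r c : ℕ} (h : c < sz 1 r) : br c < sz 1 r := by
  have := tab_F c (by have := sz_le r; omega)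
  rcases sz_cases r with e | e
  · rwa [this.2.2.2.2.2.1 (by omega)]
  · omega

theorem tw_lt {i r c : ℕ} (h : c < sz 1 r) : tw i c < sz 1 r := by
  unfold tw; split_ifs; exacts [br_lt h, h]

theorem tw_tw (i : ℕ) {c : ℕ} (h : c < 4) : tw i (tw i c) = c := by
  unfold tw; split_ifs; exacts [(tab_F c h).2.1, rfl]

theorem mu_lt {r c l : ℕ} (h : c < sz 1 r) (h1 : l < 4) (h2 : lg r = true → l = 1) : mu 1 l c < sz 1 r := by
  have := tab_F c (by have := sz_le r; omega)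
  rcases sz_cases r with e | e
  · rwa [h2 e.1, this.2.2.1]
  · have := (this.2.2.2.2.2.2 l h1).1; omega

theorem sg_append (v w : List ℕ) : sg (v ++ w) = sg v ++ sg w := by
  induction v with
  | nil => rfl
  | cons i v ih => rw [List.cons_append, sg_cons, sg_cons, ih, List.append_assoc]

theorem sg_rev (w : List ℕ) : sg w.reverse = (sg w).reverse := by
  induction w with
  | nil => rfl
  | cons i w ih => rw [List.reverse_cons, sg_append, ih, sg_cons i w, List.reverse_append]; rfl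

theorem aw_tab {w : List ℕ} (hw : ∀ i ∈ w, i < 4) {r : ℕ} (hr : r < 48) :
    lg (aw w r) = lg r ∧ aw w (47 - r) = 47 - aw w r := by
  induction w with
  | nil => exact ⟨rfl, rfl⟩
  | cons i w ih =>
    rw [List.forall_mem_cons] at hw
    have := tab_sr i hw.1 _ (aw_lt hw.2 hr)
    rw [aw_cons, aw_cons, (ih hw.2).2, this.2.2.1, this.2.2.2.1]
    exact ⟨(ih hw.2).1, rfl⟩

end I1

open I1

theorem Lr.nf1 (h : Lr 1 X) (w : List Lt) : ew X (nf1 w) = ew X w := by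
  rw [I1.nf1, ew_foldr (ins_ok h.zero (fun r c d a b => h.add r (ok1_iff.1 a).1 c (ok1_iff.1 a).2 d (ok1_iff.1 b).2)
    (fun a b k1 k2 k3 k4 => h.com _ (ok1_iff.1 k2).1 _ (ok1_iff.1 k1).1 k3 (by have := (ok1_iff.1 k2).1; omega)
      _ (ok1_iff.1 k2).2 _ (ok1_iff.1 k1).2) 20), ew_nil, mul_one]

theorem Lr.sqI (h : Lr 1 X) {r c : ℕ} (hr : r < 48) (hc : c < sz 1 r) : X r c * X r c = 1 := by
  rw [h.add r hr c hc c hc, Nat.xor_self, h.zero]

theorem Lr.cjI (h : Lr 1 X) {r s c d : ℕ} (hr : r < 48) (hs : s < 48) (hc : c < sz 1 r) (hd : d < sz 1 s)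
    (e1 : s ≠ r) (e2 : s + r ≠ 47) : X r c * X s d * (X r c)⁻¹ = X s d * ew X (cw 1 r s c d) := by
  rw [inv_eq_of_mul_eq_one_right (h.sqI hr hc), mul_assoc, h.com r hr s hs e1 (by omega) c hc d hd, ← mul_assoc,
    ← mul_assoc, h.sqI hr hc, one_mul]

theorem Lr.cj1 (h : Lr 1 X) {r c : ℕ} (hr : r < 48) (hc : c < sz 1 r) (w : List Lt) :
    ew X (cj1 (r, c) w) = X r c * ew X w * (X r c)⁻¹ := by
  rw [I1.cj1, h.nf1]
  induction w with
  | nil => simp [ew_nil]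
  | cons p w ih =>
    rw [List.flatMap_cons, ew_append, ih, ew_cons, ← conj_mul]
    congr 1
    split_ifs with e
    · rw [ew_cons, h.cjI hr (ok1_iff.1 e.1).1 hc (ok1_iff.1 e.1).2 e.2.1 e.2.2]
    · simp [ew, inv_eq_of_mul_eq_one_right (h.sqI hr hc), mul_assoc]

theorem Lr.eq_of_nfI (h : Lr 1 X) {v w : List Lt} (e : I1.nf1 v = I1.nf1 w) : ew X v = ew X w := by
  rw [← h.nf1, e, h.nf1]

theorem Lr.decI (h : Lr 1 X) {p q r : ℕ} (k : Dec p q r) {l e : ℕ} (hl : l < 4) (he : e < 4) :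
    X r (br (mu 1 l e)) = X p l * X q e * X p l * X q e := by
  simpa [ew, mul_assoc] using (h.eq_of_nfI (k l hl e he)).symm

theorem Lr.cj3 (h : Lr 1 X) {i c r e r' e' : ℕ} (hi : i < 4) (hc : c < sz 1 (sm i))
    (k : I1.cj1 (sm i, c) (I1.cj1 (47 - sm i, c) (I1.cj1 (sm i, c) [(r, e)])) = I1.nf1 [(r', e')]) :
    X (sm i) c * X (47 - sm i) c * X (sm i) c * X r e * (X (sm i) c * X (47 - sm i) c * X (sm i) c)⁻¹ =
      X r' e' := by
  have := congrArg (ew X) k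
  rw [h.nf1, h.cj1 (tab_sm i hi).1 hc, h.cj1 (by omega) ((tab_S i hi).2.2.1 ▸ hc), h.cj1 (tab_sm i hi).1 hc] at this
  simpa [ew, mul_assoc] using this

/-- The elements acting on every root group by a scalar. -/
def Tor (X : ℕ → ℕ → G) (g : G) : Prop :=
  ∀ r < 48, ∃ l < 4, l ≠ 0 ∧ (lg r = true → l = 1) ∧ ∀ c < sz 1 r, g * X r c * g⁻¹ = X r (mu 1 l c)

/-- The torus. -/
def TT (X : ℕ → ℕ → G) : Subgroup G where
  carrier := {g | Tor X g}
  one_mem' := fun r _ => ⟨1, by omega, by omega, fun _ => rfl, fun c hc => by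
    rw [(tab_F c (by have := sz_le r; omega)).2.2.1]; simp⟩
  mul_mem' := fun {a b} ha hb r hr => by
    obtain ⟨l, l1, l2, l3, l4⟩ := ha r hr
    obtain ⟨m, m1, m2, m3, m4⟩ := hb r hr
    have := (tab_F m m1).2.2.2.2.2.2 l l1
    refine ⟨mu 1 l m, this.1, this.2.1 l2 m2, fun e => by rw [l3 e, m3 e]; rfl, fun c hc => ?_⟩
    rw [← (((tab_F c (by have := sz_le r; omega)).2.2.2.2.2.2 l l1).2.2.2.2.2 m m1).1, ← l4 _ (mu_lt hc m1 m3),
      ← m4 c hc]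
    group
  inv_mem' := fun {a} ha r hr => by
    obtain ⟨l, l1, l2, l3, l4⟩ := ha r hr
    have := (tab_F l l1).2.2.2.2.2.2 l l1
    have e : lg r = true → mu 1 l l = 1 := fun e => by rw [l3 e]; rfl
    refine ⟨mu 1 l l, this.1, this.2.1 l2 l2, e, fun c hc => ?_⟩
    have k := l4 _ (mu_lt hc this.1 e)
    rw [((tab_F c (by have := sz_le r; omega)).2.2.2.2.2.2 l l1).2.2.2.1 l2] at k
    rw [← k]; group

variable (h : Lr 1 X) (h1 : ∀ r < 48, X r 1 = j (xx r))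
include h h1

theorem Lr.wn {i r c : ℕ} (hi : i < 4) (hr : r < 48) (hc : c < sz 1 r) :
    j (el xx (nr (sm i))) * X r c * (j (el xx (nr (sm i))))⁻¹ = X (sr i r) (tw i c) := by
  have s := (tab_sm i hi).1
  have k : ∀ r < 48, r ≠ sm i → r ≠ 47 - sm i → ∀ c < sz 1 r,
      j (el xx (nr (sm i))) * X r c * (j (el xx (nr (sm i))))⁻¹ = X (sr i r) (tw i c) := fun r hr a b c hc => by
    rw [← h.cj3 hi (by have := sz_le (sm i); omega) (tab_wn i hi r hr a b c hc), h1 _ s, h1 _ (by omega)]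
    simp [nr, mul_assoc]
  by_cases e : r = sm i ∨ r = 47 - sm i
  swap
  · exact k r hr (fun a => e (.inl a)) (fun a => e (.inr a)) c hc
  by_cases i2 : i < 2
  · obtain ⟨r1, -, p, hp, -, q, hq, -, p1, p2, q1, q2, p3, q3, d1, d2⟩ := tab_dec i i2 r hr e
    have t := tab_F c (r1 ▸ hc)
    have e1 := h.decI d1 (l := 1) (by omega) t.1
    have e2 := h.decI d2 (l := 1) (by omega) (r1 ▸ hc)
    rw [(tab_F _ t.1).2.2.1, t.2.1] at e1
    rw [t.2.2.1] at e2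
    rw [e1, ← conj_mul, ← conj_mul, ← conj_mul, k p hp p1 p2 1 (by omega), k q hq q1 q2 _ (by omega)]
    simp only [tw, if_pos i2, e2, t.2.1]; rfl
  have : c < 2 := by
    have := tab_S i hi
    rcases e with rfl | rfl <;> omega
  rw [tw, if_neg i2]
  interval_cases c
  · simp [h.zero]
  · rw [h1 r hr, h1 _ (tab_sr i hi r hr).1, ← nn_conj hi hr]; simp

omit h h1 in
theorem nn_sqI {i : ℕ} (hi : i < 4) : j (el xx (nr (sm i))) * j (el xx (nr (sm i))) = 1 := by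
  rw [← map_mul, ← el_append, Q_eq (tab_S i hi).2.2.2.2.1, el_nil, map_one]

theorem Lr.tor {i c : ℕ} (hi : i < 4) (hc : c < sz 1 (sm i)) (h0 : c ≠ 0) :
    X (sm i) c * X (47 - sm i) c * X (sm i) c * j (el xx (nr (sm i))) ∈ TT X := by
  have s := (tab_sm i hi).1
  by_cases i2 : i < 2
  swap
  · obtain rfl : c = 1 := by have := (tab_S i hi).2.2.2.1 (by omega); omega
    rw [h1 _ s, h1 _ (by omega), ← map_mul, ← map_mul, show xx (sm i) * xx (47 - sm i) * xx (sm i) =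
      el xx (nr (sm i)) by simp [nr, mul_assoc], nn_sqI hi]
    exact one_mem _
  generalize hg : X (sm i) c * X (47 - sm i) c * X (sm i) c * j (el xx (nr (sm i))) = g
  have k : ∀ r < 48, r ≠ sm i → r ≠ 47 - sm i → ∃ l < 4, l ≠ 0 ∧ (lg r = true → l = 1) ∧
      ∀ c < sz 1 r, g * X r c * g⁻¹ = X r (mu 1 l c) := fun r hr a b => by
    obtain ⟨l, l1, l2, l3, l4⟩ := tab_tor i i2 c (by have := sz_le (sm i); omega) h0 r hr a b
    refine ⟨l, l1, l2, l3, fun e he => ?_⟩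
    rw [← h.cj3 hi hc (l4 e he), ← h.wn h1 hi hr he, ← hg]; group
  intro r hr
  by_cases e : r = sm i ∨ r = 47 - sm i
  swap
  · exact k r hr (fun a => e (.inl a)) (fun a => e (.inr a))
  obtain ⟨r1, r2, p, hp, -, q, hq, -, p1, p2, q1, q2, p3, q3, d1, -⟩ := tab_dec i i2 r hr e
  obtain ⟨l, l1, l2, -, l4⟩ := k p hp p1 p2
  obtain ⟨m, m1, m2, -, m4⟩ := k q hq q1 q2
  have u := (tab_F m m1).2.2.2.2.2.2 l l1
  refine ⟨br (mu 1 l m), (tab_F _ u.1).1, fun a => u.2.1 l2 m2 ((tab_F _ u.1).2.2.2.1 a),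
    fun a => by simp [r2] at a, fun c hc => ?_⟩
  have t := tab_F c (r1 ▸ hc)
  have e1 := h.decI d1 (l := 1) (by omega) t.1
  rw [(tab_F _ t.1).2.2.1, t.2.1] at e1
  rw [← ((t.2.2.2.2.2.2 l l1).2.2.2.2.2 m m1).2, h.decI d1 l1 ((tab_F _ t.1).2.2.2.2.2.2 m m1).1]
  nth_rewrite 1 [e1]
  rw [← conj_mul, ← conj_mul, ← conj_mul, l4 1 (by omega), m4 _ (by omega),
    (by decide : ∀ l < 4, mu 1 l 1 = l) l l1]

theorem Lr.wnw {w : List ℕ} (hw : ∀ i ∈ w, i < 4) {r : ℕ} (hr : r < 48) {c : ℕ} (hc : c < sz 1 r) :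
    ∃ d < sz 1 (aw w r), j (el xx (sg w)) * X r c * (j (el xx (sg w)))⁻¹ = X (aw w r) d := by
  induction w with
  | nil => exact ⟨c, hc, by simp [sg_nil, aw_nil]⟩
  | cons i w ih =>
    rw [List.forall_mem_cons] at hw
    obtain ⟨d, hd, e⟩ := ih hw.2
    have l := aw_lt hw.2 hr
    refine ⟨tw i d, by rw [aw_cons, sz_congr (tab_sr i hw.1 _ l).2.2.1]; exact tw_lt hd, ?_⟩
    rw [aw_cons, ← h.wn h1 hw.1 l hd, ← e, sg_cons, el_append, map_mul]; group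

theorem Lr.nn_TT {i : ℕ} (hi : i < 4) {k : G} (hk : k ∈ TT X) :
    j (el xx (nr (sm i))) * k * (j (el xx (nr (sm i))))⁻¹ ∈ TT X := fun r hr => by
  obtain ⟨r1, r2, r3, -⟩ := tab_sr i hi r hr
  obtain ⟨l, l1, l2, l3, l4⟩ := hk _ r1
  have z := sz_congr r3
  refine ⟨tw i l, by unfold tw; split_ifs; exacts [(tab_F l l1).1, l1],
    by unfold tw; split_ifs; exacts [fun a => l2 ((tab_F l l1).2.2.2.1 a), l2],
    fun a => by rw [l3 (r3 ▸ a)]; unfold tw; split_ifs <;> rfl, fun c hc => ?_⟩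
  have e := h.wn h1 hi r1 (mu_lt (z ▸ tw_lt (i := i) hc) l1 l3)
  rw [← l4 _ (z ▸ tw_lt hc), ← h.wn h1 hi hr hc, r2, inv_eq_of_mul_eq_one_right (nn_sqI hi)] at e
  rw [show mu 1 (tw i l) c = tw i (mu 1 l (tw i c)) by
    unfold tw; split_ifs
    exacts [((tab_F c (by have := sz_le r; omega)).2.2.2.2.2.2 l l1).2.2.2.2.1.symm, rfl], ← e,
    mul_inv_rev, mul_inv_rev, inv_inv, inv_eq_of_mul_eq_one_right (nn_sqI hi)]
  group

omit h h1 in
theorem conj_SSI {k : ℕ} {g u : G} {K : Subgroup G}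
    (H : ∀ r, k ≤ r → r < 48 → ∀ c < sz 1 r, g * X r c * g⁻¹ ∈ K) (hu : u ∈ SS 1 X k) : g * u * g⁻¹ ∈ K :=
  (closure_le (K.comap (MulAut.conj g).toMonoidHom)).2 (by rintro _ ⟨r, c, a, b, d, rfl⟩; exact H r a b c d) hu

omit h h1 in
theorem TT_SS {k u : G} (hk : k ∈ TT X) (hu : u ∈ SS 1 X 24) : k * u * k⁻¹ ∈ SS 1 X 24 :=
  conj_SSI (fun r a b c d => by
    obtain ⟨l, l1, -, l3, l4⟩ := hk r b
    exact l4 c d ▸ X_mem a b (mu_lt d l1 l3)) hu

theorem Lr.bruhat (ht : SS 1 X 0 = ⊤) (g : G) : ∃ b ∈ SS 1 X 24 ⊔ TT X, ∃ k ∈ TT X, ∃ w : List ℕ,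
    ∃ b' ∈ SS 1 X 24 ⊔ TT X, (∀ i ∈ w, i < 4) ∧ g = b * (k * j (el xx (sg w))) * b' := by
  have nT : ∀ w : List ℕ, (∀ i ∈ w, i < 4) → ∀ k ∈ TT X, j (el xx (sg w)) * k * (j (el xx (sg w)))⁻¹ ∈ TT X := by
    intro w hw k hk
    induction w with
    | nil => simpa [sg_nil] using hk
    | cons i w ih =>
      rw [List.forall_mem_cons] at hw
      convert h.nn_TT h1 hw.1 (ih hw.2) using 1
      rw [sg_cons, el_append, map_mul]; group
  let N : Subgroup G :=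
    { carrier := {g | ∃ k ∈ TT X, ∃ w : List ℕ, (∀ i ∈ w, i < 4) ∧ g = k * j (el xx (sg w))}
      one_mem' := ⟨1, one_mem _, [], by simp, by simp [sg_nil]⟩
      mul_mem' := by
        rintro _ _ ⟨k, hk, w, hw, rfl⟩ ⟨k', hk', w', hw', rfl⟩
        exact ⟨_, mul_mem hk (nT w hw k' hk'), w ++ w', List.forall_mem_append.2 ⟨hw, hw'⟩, by
          rw [sg_append, el_append, map_mul]; group⟩
      inv_mem' := by
        rintro _ ⟨k, hk, w, hw, rfl⟩
        have hw' : ∀ i ∈ w.reverse, i < 4 := by simpa using hw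
        exact ⟨_, nT _ hw' _ (inv_mem hk), _, hw', by rw [sg_rev, el_rev, map_inv]; group⟩ }
  have s := fun i : Fin 4 => (tab_sm i i.2).1
  let A : Fin 4 → Subgroup G := fun i =>
    { carrier := {g | ∃ c < sz 1 (sm i), g = X (sm i) c}
      one_mem' := ⟨0, by have := sz_le (sm i); omega, (h.zero _).symm⟩
      mul_mem' := by
        rintro _ _ ⟨c, hc, rfl⟩ ⟨d, hd, rfl⟩
        refine ⟨_, ?_, h.add _ (s i) c hc d hd⟩
        rcases sz_cases (sm i) with e | e <;> rw [e.2] at hc hd ⊢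
        exacts [Nat.xor_lt_two_pow (n := 1) hc hd, Nat.xor_lt_two_pow (n := 2) hc hd]
      inv_mem' := by
        rintro _ ⟨c, hc, rfl⟩
        exact ⟨c, hc, inv_eq_of_mul_eq_one_right (h.sqI (s i) hc)⟩ }
  have nX : ∀ n ∈ N, ∃ π : ℕ → ℕ, ∀ r < 48, π r < 48 ∧ π (47 - r) = 47 - π r ∧
      ∀ c < sz 1 r, ∃ d < sz 1 (π r), n * X r c * n⁻¹ = X (π r) d := by
    rintro _ ⟨k, hk, w, hw, rfl⟩
    refine ⟨aw w, fun r hr => ⟨aw_lt hw hr, (aw_tab hw hr).2, fun c hc => ?_⟩⟩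
    obtain ⟨d, hd, e⟩ := h.wnw h1 hw hr hc
    obtain ⟨l, l1, -, l3, l4⟩ := hk _ (aw_lt hw hr)
    exact ⟨_, mu_lt hd l1 l3, by rw [← l4 d hd, ← e]; group⟩
  suffices H : ∃ b ∈ SS 1 X 24 ⊔ TT X, ∃ n ∈ N, ∃ b' ∈ SS 1 X 24 ⊔ TT X, g = b * n * b' by
    obtain ⟨b, hb, _, ⟨k, hk, w, hw, rfl⟩, b', hb', e⟩ := H
    exact ⟨b, hb, k, hk, w, b', hb', hw, e⟩
  refine KSG.BN.bruhat (U := SS 1 X 24) (H := TT X) (N := N) (A := A)
    (s := fun i => j (el xx (nr (sm i)))) (by rintro i _ ⟨c, hc, rfl⟩; exact X_mem (tab_S i i.2).1 (s i) hc)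
    (fun k hk u => TT_SS hk) (by
      rintro i k hk _ ⟨c, hc, rfl⟩
      obtain ⟨l, l1, -, l3, l4⟩ := hk _ (s i)
      exact ⟨_, mu_lt hc l1 l3, l4 c hc⟩)
    (fun k hk => ⟨k, hk, [], by simp, by simp [sg_nil]⟩)
    (fun i => ⟨1, one_mem _, [i], by simp, by simp [sg_cons, sg_nil]⟩) (fun i => nn_sqI (j := j) i.2 ▸ one_mem _)
    (fun i u hu => ?_) ?_ (fun i n hn => ?_) (fun K k1 _ k3 => ?_) g
  · have t := (tab_S i i.2).2.2.2.2.2
    let V := closure {g | ∃ r c, 24 ≤ r ∧ r ≠ sm i ∧ ok1 (r, c) = true ∧ g = X r c}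
    have cV : ∀ {g u : G} {K : Subgroup G}, (∀ r < 48, 24 ≤ r → r ≠ sm i → ∀ c < sz 1 r, g * X r c * g⁻¹ ∈ K) →
        u ∈ V → g * u * g⁻¹ ∈ K := fun {g u K} H hu => (closure_le (K.comap (MulAut.conj g).toMonoidHom)).2 (by
      rintro _ ⟨r, c, a, b, d, rfl⟩; exact H r (ok1_iff.1 d).1 a b c (ok1_iff.1 d).2) hu
    obtain ⟨v, hv, x, hx, rfl⟩ := KSG.BN.exists_mul_of_conj (A := A i) (K := V) (by
      rintro _ ⟨d, hd, rfl⟩ v
      refine cV fun r hr a b c hc => ?_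
      rw [h.cjI (s i) hr hd hc b (by have := (tab_S i i.2).1; omega)]
      refine mul_mem (subset_closure ⟨r, c, a, b, ok1_iff.2 ⟨hr, hc⟩, rfl⟩) (list_prod_mem fun y hy => ?_)
      obtain ⟨p, hp, rfl⟩ := List.mem_map.1 hy
      have := (t r hr a b).2 c hc d hd p hp
      exact subset_closure ⟨_, _, this.1, this.2.1, this.2.2, rfl⟩) ((closure_le _).2 (by
        rintro _ ⟨r, c, a, b, d, rfl⟩
        by_cases e : r = sm i
        · exact mem_sup_right ⟨c, e ▸ d, by rw [e]⟩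
        · exact mem_sup_left (subset_closure ⟨r, c, a, e, ok1_iff.2 ⟨b, d⟩, rfl⟩)) hu)
    refine ⟨v, cV (fun r hr a b c hc => ?_) hv, x, hx, rfl⟩
    have := tab_sr i i.2 r hr
    rw [h.wn h1 i.2 hr hc]
    exact X_mem (t r hr a b).1 this.1 (sz_congr this.2.2.1 ▸ tw_lt hc)
  · rintro i _ ⟨c, hc, rfl⟩ c1
    have c4 : c < 4 := by have := sz_le (sm i); omega
    have c2 := tw_lt (i := i) hc
    refine ⟨_, ⟨_, c2, rfl⟩, _, h.tor h1 i.2 c2 fun e => c1 ?_, _, ⟨_, c2, rfl⟩, ?_⟩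
    · rw [← tw_tw i c4, e, show tw i 0 = 0 by unfold tw; split_ifs <;> rfl, h.zero]
    · rw [h.wn h1 i.2 (s i) hc, (tab_S i i.2).2.1, mul_assoc (X _ _), mul_assoc _ (j _), nn_sqI i.2, mul_one,
        ← mul_assoc, ← mul_assoc, h.sqI (s i) c2, one_mul, mul_assoc, h.sqI (s i) c2, mul_one]
  · obtain ⟨π, hπ⟩ := nX _ (inv_mem hn)
    simp only [inv_inv] at hπ
    by_cases e : 24 ≤ π (sm i)
    · left
      rintro _ ⟨c, hc, rfl⟩
      obtain ⟨d, hd, k⟩ := (hπ _ (s i)).2.2 c hc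
      exact k ▸ X_mem e (hπ _ (s i)).1 hd
    · right
      rintro _ ⟨c, hc, rfl⟩
      obtain ⟨d, hd, k⟩ := (hπ (47 - sm i) (by omega)).2.2 _ ((tab_S i i.2).2.2.1 ▸ tw_lt (i := i) hc)
      rw [h.wn h1 i.2 (s i) hc, (tab_S i i.2).2.1, k]
      exact X_mem (by rw [(hπ _ (s i)).2.1]; omega) (hπ _ (by omega)).1 hd
  · refine top_le_iff.1 (ht ▸ (closure_le _).2 ?_)
    rintro _ ⟨r, c, -, hr, hc, rfl⟩
    have l : ∀ r < 48, ∃ u < 48, 24 ≤ u ∧ lg u = lg r := by decide +kernel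
    obtain ⟨u, u1, u2, u3⟩ := l r hr
    refine ind1 (P := fun r => ∀ c < sz 1 r, X r c ∈ K) (fun i hi r hr p c hc => ?_) u1 hr u3
      (fun c hc => k1 (X_mem u2 u1 hc)) c hc
    rw [sz_congr (tab_sr i hi r hr).2.2.1] at hc
    rw [← tw_tw i (c := c) (by have := sz_le r; omega), ← h.wn h1 hi hr (tw_lt hc)]
    exact mul_mem (mul_mem (k3 ⟨i, hi⟩) (p _ (tw_lt hc))) (inv_mem (k3 ⟨i, hi⟩))

end Cfsg.Agent.F42S
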