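import Cfsg.Agent.F42S.RelC2

/-! Both root lengths are doubled.  `ŷ_l = Y' (gm l)` for long `l`; every lemma on `(j, Y)` applies to the dual frame `(j.comp gam, Y')`
(Fr.dual; `gam (gam a) = a`), and every lemma on `(j, Y, Y')` applies to `(j.comp gam, Y', Y)`.  For transport use `Sy.tr w` on `(j, Y)` and
`Sy.tr (w.map (3 - ·))` on the dual frame (tab_gm, tab_sm). -/

set_option autoImplicit false

namespace Cfsg.Agent.F42S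

open Cfsg Cfsg.Agent.Comp Subgroup Cfsg.Agent.PLocal.Amb
open Cfsg.Agent.WG (el el_nil el_cons el_append)
open scoped commutatorElement

variable {G : Type*} [Group G] {j : L0 →* G} {t : G} {Y Y' : ℕ → G} {e e' : ℕ}

namespace RC

open RH Lt
open List (replicate)

/-- The word of `X_r(c)`. -/
def ph (k r c : ℕ) : List Lt := (if c / 2 = 1 then z r :: replicate (if lg r then k else 0) (x r) else []) ++
  if c % 2 = 1 then [x r] else []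

/-- The right side of the commutator relation. -/
def rs (ty k r s c d : ℕ) : List Lt := ph k r c ++ ph k s d ++ (cw ty r s c d).flatMap fun p => ph k p.1 p.2

theorem ph_si (k c : ℕ) {i r : ℕ} (hi : i < 4) (hr : r < 48) :
    (ph k r c).flatMap (si 0 0 i) = ph k (sr i r) c := by
  unfold ph
  rw [(tab_sr i hi r hr).2.2.1]
  split_ifs <;> simp [si, hr, List.flatMap_replicate]

theorem rs_si (k c d : ℕ) {ty i r s : ℕ} (ht : ¬ ty < 2) (hi : i < 4) (hr : r < 48) (hs : s < 48)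
    (h : s ≠ 47 - r) : (rs ty k r s c d).flatMap (si 0 0 i) = rs ty k (sr i r) (sr i s) c d := by
  have e : ∀ r s, cw ty r s c d = (cm r s).zip
      [mu ty c d, if lg r then mu ty c (mu ty d d) else mu ty d (mu ty c c)] := fun r s => by
    unfold cw cm
    split_ifs <;> simp_all
  have e1 : ∀ i < 4, ∀ r < 48, ∀ s < 48, cm (sr i r) (sr i s) = (cm r s).map (sr i) := by decide +kernel
  simp only [rs, List.flatMap_append, ph_si _ _ hi hr, ph_si _ _ hi hs, e, e1 i hi r hr s hs,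
    (tab_sr i hi r hr).2.2.1, List.zip_map_left, List.flatMap_map, List.flatMap_assoc]
  congr 1
  exact List.flatMap_congr fun p hp => ph_si _ _ hi (tab_cm r hr s hs h _ (List.of_mem_zip hp).1).1

set_option synthInstance.maxSize 4000 in
theorem fc : ∀ k < 2, ∀ k' < 2, ∀ ρ < 2, ρ = k ^^^ k' → (∀ r < 48,
    nf (C6 ρ ρ k k' ρ ρ) [] (ph k' r 2 ++ .t :: ph k' r 2) = nf (C6 ρ ρ k k' ρ ρ) [] [.t, x r] ∧ ∀ c < 4, ∀ d < 4,
      nf (C6 ρ ρ k k' ρ ρ) [] (ph k' r c ++ ph k' r d) = nf (C6 ρ ρ k k' ρ ρ) [] (ph k' r (c ^^^ d))) ∧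
    ∀ p ∈ dom, p.2 ≠ 47 - p.1 → ∀ c < 3, ∀ d < 3,
      nf (C6 ρ ρ k k' ρ ρ) [(z p.1, 0), (x p.1, 1), (z p.2, 2), (x p.2, 3)] (ph k' p.2 d ++ ph k' p.1 c) =
      nf (C6 ρ ρ k k' ρ ρ) [(z p.1, 0), (x p.1, 1), (z p.2, 2), (x p.2, 3)] (rs (3 - ρ) k' p.1 p.2 c d) := by
  decide +kernel

set_option synthInstance.maxSize 4000 in
theorem exDom : ∀ r < 48, ∀ s < 48, s ≠ 47 - r → ∃ p ∈ dom, p.1 < 48 ∧ p.2 < 48 ∧ lg p.1 = lg r ∧
    lg p.2 = lg s ∧ ip p.1 p.2 = ip r s ∧ p.2 ≠ 47 - p.1 := by decide +kernel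

theorem mkDb (hf : Fr j t) (h : Sy j t Y e) (h' : Sy (j.comp gam) t Y' e') : ∃ ρ ρ', Db j t Y Y' e e' ρ ρ' :=
  let ⟨ρ, a⟩ := h.ra hf
  let ⟨ρ', a'⟩ := h'.ra hf.dual
  ⟨ρ, ρ', hf, h, h', a, a'⟩

end RC

open RC

/-- PROOF.  `k = (y₄₄ ŷ₄₇)²` centralises `t` and the list of c45, so `k ∈ ⟨t, x₄₄, x₄₇⟩`, and commutes with `y₄₄`: `k ∈ ⟨x₄₄, x₄₇⟩`; so for all `45°` pairs.  `y₄₄ x₄₄^e = y₄₀ y₄₀^{x₃₃}` (x120),
`ŷ₄₇` commutes with `x₃₃` and `[ŷ₄₇, y₄₀] ∈ ⟨x₄₀, x₄₇⟩`: so `k ∈ ⟨x₄₄⟩`.  Dually (`46, 24`) `k ∈ ⟨x₄₇⟩`. -/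
theorem Sy.c45' (hf : Fr j t) (h : Sy j t Y e) (h' : Sy (j.comp gam) t Y' e') {a l : ℕ} (hr : a < 48)
    (hs : l < 48) (h1 : lg a = false) (h2 : lg l = true) (h3 : ip a l = 12) :
    Y a * Y' (gm l) = Y' (gm l) * Y a := by
  obtain ⟨ρ, ρ', D⟩ := mkDb hf h h'
  have k : ∀ a < 48, ∀ l < 48, Mx a l 12 → ∀ e e' ρ ρ', C2 e e' ρ ρ' (.z a) (.z l) = some [.z a] := by
    intro a ha l hl m e e' ρ ρ'
    simp [C2, C1, alt, C0, dl, du, mx, rt, m, m.1, m.2.1, ha, hl, tab_gm a ha]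
  have := D.ok2.cj _ _ _ (k a hr l hs ⟨h1, h2, hr, hs, h3⟩ _ _ _ _)
  have q := D.ok2.sq (.z l)
  rw [ev_cons, ev_nil, mul_one, zs hr h1, zl hs h2] at this
  rw [zl hs h2] at q
  rw [← mul_one (Y' _ * _), ← q, ← mul_assoc, this]

/-- PROOF.  (i) `e = e' = 1` is impossible: the dual of x135 gives `ŷ₄₁ x₂₉ ŷ₄₁ = x₂₉ ŷ₄₇ x₄₄^q`; conjugate `y₄₄ x₂₉ y₄₄ x₂₉ = x₄₇` by `ŷ₄₁` (commutes with `y₄₄`, c45'; so does `ŷ₄₇`):
`x₄₇ = ŷ₄₁ x₄₇ ŷ₄₁ = x₄₇ x₄₄`.  (ii) `e = 0, e' = 1` is impossible: `w = y₄₄ y₂₉ x₄₁ y₂₉ x₄₁` sends `t` to `t x₄₇` and centralises the list of cU and `x₃₆, x₃₈, x₃₉, x₄₀`; `k = ŷ₄₇ w ∈ C(t)` centralises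
`x₄₂..x₄₇`, so `k = t^i j a` (pin), `a` commutes with `x₄₂..x₄₇` and `a x₃₀ a⁻¹ = x₃₀ x₄₀`; no such `a` exists (no40).  (iii) dual of (ii). -/
theorem Sy.e_zero (hf : Fr j t) (h : Sy j t Y e) (h' : Sy (j.comp gam) t Y' e') : e = 0 ∧ e' = 0 := by
  obtain ⟨ρ, ρ', D⟩ := mkDb hf h h'
  have := h.le
  have := h'.le
  interval_cases e <;> interval_cases e'
  exacts [⟨rfl, rfl⟩, D.n01.elim, D.dual.n01.elim, D.n11.elim]

/-- PROOF.  `ρ, ρ'` from Sy.ra for the two frames; c90 for both; c45'.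
(1) `x₄₁ y₂₉ x₄₁ = y₂₉ y₄₄ ŷ₄₇ κ` (same action on `t`), `κ` pinned by cU, commutes with `x₂₉`, no `t` (involution), fixed by `x₄₁` (apply twice): `κ = x₄₄^m x₄₇^k`.  Conjugating `y₂₉` by
`n = x₄₁ x₆ x₄₁` step by step and comparing with `n y₂₉ n⁻¹ = y₄₄` (transport so that `l = 25 = sm 2`, or write `n` as `sg w`, wn') gives `m = 0`; `k` is independent of the pair (ind2, wn with `e = e' = 0`).  Dually
`ŷ_l^{x_a} = ŷ_l ŷ_{2a+l} y_{a+l} x_{a+l}^{k'}`.  Replace `Y' r` by `Y' r * (j.comp gam) (xx r)^{k'}` (again `Sy _ 0`); then `k' = 0`.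
(2) short `⊥` long commute: `y₂₈` commutes with `y₂₉, y₄₄, x₄₁, x₄₇`, hence with `ŷ₄₇` by (1).
(3) `ŷ₄₁ y₂₉ ŷ₄₁ = y₂₉ y₄₄ ŷ₄₇^{1+k} κ` (action on `t`), `κ` pinned by cU, no `t` (commutes with `y₄₄`), commutes with `x₂₉`; by the dual statement `κ ∈ ⟨x₄₁,x₄₄,x₄₇⟩` too: `κ = x₄₄^p x₄₇^{p'}`.
(4) Conjugate `y₂₉ y₃₃ y₂₉ = y₃₃ y₃₆ x₃₆^ρ` by `x₃₀` (`33 + 30 = 37`, `2·33 + 30 = 41`, `36 + 30 = 40`, `2·36 + 30 = 47`, `36 + 37 = 44`) before the normalisation: exponent of `y₄₄`: `k + k' = ρ`, dually `= ρ'`; after it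
`k = p = p' = ρ = ρ'`.  (5) `ty = 3 - ρ`; `com` by cases as in Sy.lg_one. -/
theorem Sy.lg_zero (hf : Fr j t) (h : Sy j t Y 0) (h' : Sy (j.comp gam) t Y' 0) :
    ∃ ty Z, (ty = 2 ∨ ty = 3) ∧ Lg ty (mkX j Z) ∧ ∀ r < 48, Z r * t * Z r = t * j (xx r) := by
  obtain ⟨ρ, ρ', D⟩ := mkDb hf h h'
  obtain ⟨k, hk, o⟩ := D.ok3
  obtain ⟨k', hk', o'⟩ := D.dual.ok3
  obtain ⟨e1, o6⟩ := D.ok6 hk hk' o o'
  obtain rfl : ρ' = ρ := by
    rw [e1, Nat.xor_comm]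
    exact (D.dual.ok6 hk' hk o' (by simpa only [gg] using o)).1
  have hρ := D.a.le
  obtain ⟨f1, f2⟩ := fc k hk k' hk' ρ' (by omega) e1
  have X : ∀ r c, mkX j (fun r => ev (lv j t Y Y') (ph k' r 2)) r c = ev (lv j t Y Y') (ph k' r c) := by
    intro r c
    by_cases h1 : c / 2 = 1 <;> by_cases h2 : c % 2 = 1 <;> simp [mkX, ph, h1, h2, mul_assoc]
  have sz4 : ∀ r, sz (3 - ρ') r = 4 := fun r => if_neg fun q => by omega
  refine ⟨3 - ρ', fun r => ev (lv j t Y Y') (ph k' r 2), by omega, ⟨fun r => by simp [mkX],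
    fun r hr c hc d hd => ?_, fun r hr s hs _ n2 c hc d hd c3 d3 => ?_⟩, fun r hr => ?_⟩
  · rw [X, X, X, ← ev_app]
    exact o6.eq _ ((f1 r hr).2 c (sz4 r ▸ hc) d (sz4 r ▸ hd))
  · obtain ⟨p, hp, p1, p2, p3, p4, p5, p6⟩ := exDom r hr s hs n2
    rw [sz4] at hc hd
    have := (ind2 (P := fun r s => s ≠ 47 - r ∧ ev (lv j t Y Y') (ph k' s d ++ ph k' r c) =
      ev (lv j t Y Y') (rs (3 - ρ') k' r s c d)) (fun i hi r hr s hs q => ⟨fun q' => q.1 ?_, ?_⟩) p1 p2 hr hs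
      p3 p4 p5 ⟨p6, o6.eq _ (f2 p hp p6 c (by omega) d (by omega))⟩).2
    · rw [X, X, ← ev_app, this, rs, ev_app, ev_app]
      congr 1
      generalize cw (3 - ρ') r s c d = w
      induction w with
      | nil => rfl
      | cons a w ih => simpa [ew, X] using ih
    · rw [← (tab_sr i hi s hs).2.1, q', ← (tab_sr i hi r hr).2.2.2.1, (tab_sr i hi _ (by omega)).2.1]
    · have := D.wev hi q.2
      rwa [rs_si _ _ _ (by omega) hi hr hs q.1, List.flatMap_append, ph_si _ _ hi hr, ph_si _ _ hi hs] at this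
  · simpa [mul_assoc] using o6.eq _ (f1 r hr).1

end Cfsg.Agent.F42S
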