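import Cfsg.Agent.F42S.St0A

/-! Rigidity: the swapping element can be chosen to centralise most of `P₄`. -/

set_option autoImplicit false

namespace Cfsg.Agent.F42S

open Cfsg Cfsg.Agent.Comp Subgroup Cfsg.Agent.PLocal.Amb
open Cfsg.Agent.WG (el el_nil el_cons el_append)
open scoped commutatorElement

variable {G : Type*} [Group G] {j : L0 →* G} {t : G}

/-- `g` swaps `t` and `t z_s` and fixes `z_s`. -/
def Gd (j : L0 →* G) (t g : G) : Prop :=
  g * t * g⁻¹ = t * j (xx 44) ∧ g * j (xx 44) * g⁻¹ = j (xx 44)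

theorem jsq (j : L0 →* G) (r : ℕ) : j (xx r) * j (xx r) = 1 := by rw [← map_mul, xx_sq, map_one]

theorem Gd.inv {g : G} (hg : Gd j t g) : Gd j t g⁻¹ := by
  have e : g * (t * j (xx 44)) * g⁻¹ = t := by rw [← conj_mul, hg.1, hg.2, mul_assoc, jsq, mul_one]
  exact ⟨by rw [← e]; nth_rw 2 [e]; group, by nth_rw 1 [← hg.2]; group⟩

theorem Gd.mul (h : Fr j t) {g : G} (hg : Gd j t g) {p : L0} (hp : p ∈ UU 15) : Gd j t (j p * g) := by
  have e : j p * j (xx 44) * (j p)⁻¹ = j (xx 44) := by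
    rw [← map_mul, c44.2 hp, map_mul, mul_inv_cancel_right]
  refine ⟨?_, by rw [mul_inv_rev, ← mul_assoc, mul_assoc (j p), mul_assoc (j p), hg.2, e]⟩
  rw [mul_inv_rev, ← mul_assoc, mul_assoc (j p), mul_assoc (j p), hg.1, ← mul_assoc, ← h.tj,
    mul_assoc t, mul_assoc t, e]

theorem Gd.map (h : Fr j t) {g : G} (hg : Gd j t g) {p : L0} (hp : p ∈ UU 15) :
    ∃ q ∈ UU 15, g * j p * g⁻¹ = j q := by
  have k : ∀ p ∈ UU 15, ∃ a ∈ UU 15, g * j p * g⁻¹ = j a ∨ g * j p * g⁻¹ = t * j a := fun p hp => by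
    have e : j p * j (xx 44) = j (xx 44) * j p := by rw [← map_mul, c44.2 hp, map_mul]
    have e1 : g * j p * g⁻¹ * j (xx 44) = j (xx 44) * (g * j p * g⁻¹) := by
      rw [← hg.2, conj_mul, conj_mul, e]
    obtain ⟨a, ha, e2⟩ := h.pin (g := g * j p * g⁻¹) (l := [44]) (by
      have e3 : g * (t * j (xx 44)) * g⁻¹ = t := by
        rw [← conj_mul, hg.1, hg.2, mul_assoc, jsq, mul_one]
      nth_rw 1 [← e3]; nth_rw 2 [← e3]
      rw [conj_mul, conj_mul, ← mul_assoc (j p), ← h.tj, mul_assoc t, e, mul_assoc t])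
      (by simp) (by simpa using e1)
    exact ⟨a, c44.1 (ha 44 (by simp)), e2⟩
  have : ⁅UU 15, UU 15⁆ ≤ ((UU 15).map j).comap ((MulAut.conj g).toMonoidHom.comp j) :=
    commutator_le.2 fun a ha b hb => by
      obtain ⟨u, hu, e⟩ := k a ha
      obtain ⟨v, hv, e'⟩ := k b hb
      refine ⟨⁅u, v⁆, commutator_le_self _ (commutator_mem_commutator hu hv), ?_⟩
      have c : ∀ u (g : G), j u * (t * g) = t * (j u * g) := fun u g => by
        rw [← mul_assoc, ← h.tj, mul_assoc]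
      have c' : ∀ g, t * (t * g) = g := fun g => by rw [← mul_assoc, h.tt, one_mul]
      rw [map_commutatorElement, map_commutatorElement]
      change _ = ⁅g * j a * g⁻¹, g * j b * g⁻¹⁆
      rcases e with e | e <;> rcases e' with e' | e' <;> rw [e, e'] <;>
        simp only [commutatorElement_def, mul_inv_rev, h.t_inv, ← map_inv, ← h.tj, mul_assoc, c, c']
  rw [perf_P4] at this
  obtain ⟨q, hq, e⟩ := this hp
  exact ⟨q, hq, e.symm⟩

theorem Gd.fn (h : Fr j t) {g : G} (hg : Gd j t g) : ∃ θ : L0 → L0,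
    (∀ p ∈ UU 15, θ p ∈ UU 15 ∧ g * j p * g⁻¹ = j (θ p)) ∧
    ∀ p ∈ UU 15, ∀ q ∈ UU 15, θ (p * q) = θ p * θ q := by
  choose! θ h1 h2 using fun p hp => hg.map h (p := p) hp
  exact ⟨θ, fun p hp => ⟨h1 p hp, h2 p hp⟩, fun p hp q hq => h.inj (by
    rw [map_mul, ← h2 p hp, ← h2 q hq, ← h2 _ (mul_mem hp hq), map_mul, conj_mul])⟩

theorem Gd.long (h : Fr j t) {g : G} (hg : Gd j t g) (h1 : g * j (xx 47) * g⁻¹ = j (xx 47)) {v w : L0}
    (hv : v ∈ UU 41) (hc : IsConj (xx 47) v) (e : g * j v * g⁻¹ = j w) : IsConj (xx 47) w := by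
  rcases FV hv with rfl | rfl | ⟨p, hp, rfl⟩ | ⟨p, -, rfl⟩
  · exact absurd (isConj_one_left.1 hc) (xx_ne (by omega))
  · exact absurd hc ncls.1
  · obtain ⟨q, -, e1⟩ := hg.map h hp
    refine isConj_iff.2 ⟨q, h.inj ?_⟩
    rw [← e, map_mul, map_mul, map_mul, map_mul, map_inv, map_inv, ← e1]
    nth_rw 1 [← h1]
    group
  · exact absurd (hc.trans (isConj_iff.2 ⟨p, rfl⟩).symm) ncls.2.1

theorem Fr.gd1 [Finite G] (h : Fr j t) (hs : Sw j t) :
    ∃ g, Gd j t g ∧ ∀ v ∈ UU 41, g * j v * g⁻¹ = j v := by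
  obtain ⟨g₀, hg₀⟩ := hs
  obtain ⟨_, ⟨p, hp, rfl⟩, g, hn, rfl⟩ := ((syl_U.mono (UU_mono (show 15 ≤ 24 by omega)) le_top).map j).frattini
    (g := g₀) (mem_normalizer_of_cj_le (by
      rintro _ ⟨_, ⟨p, hp, rfl⟩, rfl⟩
      obtain ⟨q, hq, e⟩ := Gd.map h hg₀ hp
      exact ⟨q, hq, e.symm⟩))
  have hg : Gd j t g := by simpa using Gd.mul h hg₀ (inv_mem hp)
  have hT : g ∈ 𝐍[T0 j t] := mem_normalizer_of_cj_le (map_le_iff_le_comap.2 (sup_le
    (zpowers_le.2 (h.mem_T0.2 ⟨_, xx_mem_UU (by omega), .inr hg.1⟩)) fun a ha =>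
      mem_sup_right (PLocal.Amb.conj_mem_of_mem_normalizer hn ha)))
  have h1 : g * j (xx 47) * g⁻¹ = j (xx 47) := by
    rcases (h.nz hT).1 with k | k
    · exact k.1
    · exact absurd (h.inj (k.2.symm.trans hg.2)) fun e => ncls.1 (e ▸ IsConj.refl _)
  have h1' : g⁻¹ * j (xx 47) * g⁻¹⁻¹ = j (xx 47) := by nth_rw 1 [← h1]; group
  obtain ⟨θ, h2, h3⟩ := hg.fn h
  have m : UU 41 ≤ UU 15 := UU_mono (by omega)
  have h4 : ∀ v ∈ UU 41, θ v ∈ UU 41 := fun v hv => by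
    obtain ⟨w, hw, e⟩ := h.normV hT h1 hv
    rwa [h.inj ((h2 v (m hv)).2.symm.trans e)]
  obtain ⟨q, hq, e⟩ := witt θ h4 (fun u hu v hv => h3 u (m hu) v (m hv))
    (h.inj ((h2 _ (xx_mem_UU (by omega))).2.symm.trans hg.2)) fun v hv =>
      ⟨fun c => hg.inv.long h h1' (h4 v hv) c (by rw [← (h2 v (m hv)).2]; group),
        fun c => hg.long h h1 hv c (h2 v (m hv)).2⟩
  refine ⟨_, hg.mul h (inv_mem hq), fun v hv => ?_⟩
  calc _ = j q⁻¹ * (g * j v * g⁻¹) * (j q⁻¹)⁻¹ := by group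
    _ = _ := by rw [(h2 v (m hv)).2, e v hv]; simp [mul_assoc]

theorem rig_c (h : Fr j t) {g : G} {k : ℕ} (hn : UU 15 ≤ 𝐍[UU k]) (hg : ∀ v ∈ UU k, g * j v * g⁻¹ = j v)
    {p q : L0} (hp : p ∈ UU 15) (e : g * j p * g⁻¹ = j q) (r : ℕ) (hr : k ≤ r) :
    q * p⁻¹ * xx r = xx r * (q * p⁻¹) := by
  have h1 := hg _ (inv_conj_mem_of_mem_normalizer (hn hp) (xx_mem_UU hr))
  apply h.inj
  simp only [map_mul, map_inv] at h1 ⊢
  rw [← e]
  nth_rw 2 [← hg _ (xx_mem_UU hr)]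
  calc _ = g * j p * g⁻¹ * ((j p)⁻¹ * j (xx r) * j p) * (j p)⁻¹ := by group
    _ = _ := by rw [← h1]; group

theorem Fr.gd2 [Finite G] (h : Fr j t) (hs : Sw j t) :
    ∃ g, Gd j t g ∧ ∀ v ∈ UU 33, g * j v * g⁻¹ = j v := by
  obtain ⟨g, hg, hV⟩ := h.gd1 hs
  obtain ⟨θ, h2, h3⟩ := hg.fn h
  have hc : ∀ p ∈ UU 15, ∃ c ∈ UU 33, θ p = c * p := fun p hp =>
    ⟨θ p * p⁻¹, cV fun r hr _ => rig_c h norm_V hV hp (h2 p hp).2 r hr, by group⟩
  have m40 : xx 40 ∈ UU 15 := xx_mem_UU (by omega)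
  have z : xx 44 ∈ UU 41 := xx_mem_UU (by omega)
  have ha : θ (xx 40) ∈ UU 33 := by
    obtain ⟨c, hc, e⟩ := hc _ m40
    rw [e]; exact mul_mem hc (xx_mem_UU (by omega))
  have h4 : θ (xx 40) ∈ UU 40 := spin ha fun s h5 h6 => by
    have ms : xx s ∈ UU 15 := xx_mem_UU (by omega)
    obtain ⟨c, hc, e⟩ := hc _ ms
    have w := UU_comm (k := 40) (by omega) (xx_mem_UU h5) (xx_mem_UU le_rfl)
    have e1 : θ (xx s) * θ (xx 40) * (θ (xx s))⁻¹ * (θ (xx 40))⁻¹ = xx s * xx 40 * (xx s)⁻¹ * (xx 40)⁻¹ := by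
      apply h.inj
      rw [← hV _ w]
      simp only [map_mul, map_inv]
      rw [← (h2 _ ms).2, ← (h2 _ m40).2]; group
    rw [← e1, e] at w
    have w1 := inv_conj_mem_of_mem_normalizer (norm_V (UU_mono (by omega) hc)) (inv_mem w)
    have w2 : c⁻¹ * θ (xx 40) * c * (θ (xx 40))⁻¹ ∈ UU 41 := by
      rw [mul_assoc c⁻¹]
      rcases Q_comm ha hc with k | k <;> rw [k]
      · simpa using one_mem _
      · simpa [mul_assoc] using PLocal.Amb.conj_mem_of_mem_normalizer (norm_V (UU_mono (by omega) ha)) z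
    convert mul_mem (inv_mem w2) w1 using 1
    nth_rw 2 [← xx_inv s]
    group
  have h5 : xx 40 * θ (xx 40) ∈ UU 41 := (UU_step (by omega) h4).resolve_left fun k => by
    have := (hV _ k).trans (h2 _ m40).2.symm
    rw [mul_left_inj, mul_right_inj] at this
    exact not_mem_UU (k := 40) (by omega) (by omega) (h.inj this ▸ k)
  have h6 := fixV h5 fun s hs => by
    have t1 : ∀ s ∈ [21, 22, 23, 24, 25, 26], 15 ≤ s ∧ Q [s, 40] [40, s] = true := by decide +kernel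
    have ms : xx s ∈ UU 15 := xx_mem_UU (t1 s hs).1
    have c1 : xx s * xx 40 = xx 40 * xx s := by simpa using Q_eq (t1 s hs).2
    obtain ⟨c, hc, e⟩ := hc _ ms
    have c2 : c * xx s * θ (xx 40) = θ (xx 40) * (c * xx s) := by rw [← e, ← h3 _ ms _ m40, c1, h3 _ m40 _ ms]
    generalize hv : xx 40 * θ (xx 40) = v at h5
    have e2 : θ (xx 40) = xx 40 * v := by rw [← hv, ← mul_assoc, xx_sq, one_mul]
    rw [e2, mul_assoc c, ← mul_assoc (xx s), c1, ← mul_assoc, ← mul_assoc, mul_assoc (xx 40) v,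
      ← mul_assoc v, ← V_comm hc h5, ← mul_assoc, ← mul_assoc, mul_assoc, mul_assoc _ v] at c2
    rcases Q_comm hc (xx_mem_UU (r := 40) (by omega)) with k | k <;> rw [k] at c2
    · rw [mul_right_inj] at c2
      exact .inl (by rw [c2, mul_assoc v, xx_sq, mul_one, V_sq h5])
    · rw [mul_assoc _ (xx 44), mul_right_inj, ← eq_inv_mul_iff_mul_eq, xx_inv] at c2
      exact .inr (by rw [c2, mul_assoc (xx 44), mul_assoc v, xx_sq, mul_one, mul_assoc, V_sq h5, mul_one])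
  have h7 : ∀ r, ∃ f : Bool, 33 ≤ r → r ≤ 40 → θ (xx r) = xx r * (if f then xx 44 else 1) := fun r => by
    by_cases hr : 33 ≤ r ∧ r ≤ 40
    swap
    · exact ⟨false, fun a b => absurd ⟨a, b⟩ hr⟩
    obtain ⟨p, hp, e⟩ := spin_orb hr.1 hr.2
    obtain ⟨c, hc, e1⟩ := hc _ hp
    have e2 : ∀ w, w = 1 ∨ w = xx 44 → xx 40 * θ (xx 40) = w → θ (xx r) = c * xx r * c⁻¹ * w := fun w hw e3 => by
      have e4 : θ (xx 40) = xx 40 * w := by rw [← e3, ← mul_assoc, xx_sq, one_mul]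
      have e5 : θ (xx r) * θ p = θ p * θ (xx 40) := by
        rw [← h3 _ (xx_mem_UU (by omega)) _ hp, ← h3 _ hp _ m40, ← e, inv_mul_cancel_right]
      have e6 : θ p * w = w * θ p := by
        rcases hw with rfl | rfl
        · simp
        · exact c44.2 (h2 p hp).1
      rw [← eq_mul_inv_iff_mul_eq, e4] at e5
      have e7 : w * (θ p)⁻¹ = (θ p)⁻¹ * w := by rw [mul_inv_eq_iff_eq_mul, mul_assoc, ← e6]; simp
      rw [e5, mul_assoc, mul_assoc, e7, e1, ← e]; group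
    have e3 := e2 _ h6 rfl
    have zz := xx_sq 44
    rcases Q_comm hc (xx_mem_UU hr.1) with k | k <;> rw [k] at e3
    · rcases h6 with k1 | k1 <;> rw [k1] at e3
      · exact ⟨false, fun _ _ => by simpa using e3⟩
      · exact ⟨true, fun _ _ => by simpa using e3⟩
    · rw [mul_assoc (xx r), mul_assoc (xx r), V_comm hc z, mul_inv_cancel_right] at e3
      rcases h6 with k1 | k1 <;> rw [k1] at e3
      · exact ⟨true, fun _ _ => by simpa using e3⟩
      · exact ⟨false, fun _ _ => by simpa [mul_assoc, zz] using e3⟩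
  choose f hf using h7
  obtain ⟨q, hq, e⟩ := nondeg f
  refine ⟨_, hg.mul h (inv_mem (UU_mono (by omega) hq)), fun v hv => ?_⟩
  rw [mul_inv_eq_iff_eq_mul, eq_comm]
  refine closure_comm (S := j '' {g | ∃ r ∈ up 33, g = xx r}) ?_ (MonoidHom.map_closure j _ ▸ mem_map_of_mem j hv)
  rintro _ ⟨_, ⟨r, hr, rfl⟩, rfl⟩
  rw [mem_up] at hr
  rw [eq_comm, ← mul_inv_eq_iff_eq_mul]
  calc _ = j q⁻¹ * (g * j (xx r) * g⁻¹) * (j q⁻¹)⁻¹ := by group
    _ = _ := by
      by_cases h8 : r ≤ 40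
      · rw [(h2 _ (xx_mem_UU (by omega))).2, hf r hr.1 h8, ← e r hr.1 h8]; simp [mul_assoc]
      · have := xx_mem_UU (k := 41) (r := r) (by omega)
        rw [hV _ this, ← map_mul, V_comm (inv_mem hq) this]; simp

set_option synthInstance.maxSize 2000 in
theorem tab_yd : (∀ r < 33, 15 ≤ r → ∀ s < 33, 15 ≤ s → s ≠ 47 - r → ∀ k ∈ cm r s, 15 ≤ k) ∧
    (∀ s < 48, Mo 44 s → 33 ≤ s ∨ (15 ≤ s ∧ s ≤ 32 ∧ lg s = true)) ∧ (∀ s < 48, Mo 44 s → 15 ≤ s) ∧
    ∀ s < 48, lg s = false → ip 44 s = 8 → 15 ≤ s ∧ s ≤ 32 ∧ 15 ≤ ad 44 s ∧ ad 44 s < 48 := by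
  decide +kernel

theorem Fr.gd3 [Finite G] (h : Fr j t) (hs : Sw j t) : ∃ g, ∃ e ≤ 1, Gd j t g ∧
    (∀ s < 48, Mo 44 s → g * j (xx s) * g⁻¹ = j (xx s)) ∧
    ∀ s < 48, lg s = false → ip 44 s = 8 → g * j (xx s) * g⁻¹ = j (xx s) * j (xx (ad 44 s)) ^ e := by
  obtain ⟨g, hg, hQ⟩ := h.gd2 hs
  obtain ⟨θ, h2, h3⟩ := hg.fn h
  have m : ∀ {s}, 15 ≤ s → xx s ∈ UU 15 := xx_mem_UU
  have e0 : ∀ s, θ (xx s) * xx s * xx s = θ (xx s) := fun s => by rw [mul_assoc, xx_sq, mul_one]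
  have e1 : ∀ l : List ℕ, (∀ k ∈ l, 15 ≤ k) → j (el (fun k => θ (xx k)) l) = g * j (el xx l) * g⁻¹ := by
    intro l hl
    induction l with
    | nil => simp
    | cons a l ih =>
      rw [el_cons, el_cons, map_mul, map_mul, ih fun k hk => hl k (by simp [hk]),
        ← (h2 _ (m (hl a (by simp)))).2, conj_mul]
  obtain ⟨v, hv, e, he, h4⟩ := cocy (fun s => θ (xx s) * xx s) (fun s h5 _ => cQ fun r hr _ => by
      simpa only [xx_inv] using rig_c h norm_Q hQ (m h5) (h2 _ (m h5)).2 r hr)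
    (fun s h5 _ => h.inj (by rw [e0, map_mul, ← (h2 _ (m h5)).2, conj_mul, jsq]; simp))
    fun r s a b c d k => h.inj (by
      simp only [e0, map_mul]
      rw [e1 _ (tab_yd.1 r (by omega) a s (by omega) c k), ← (h2 _ (m a)).2, ← (h2 _ (m c)).2, conj_mul,
        conj_mul, conj_mul, ← map_mul, ← map_mul, ← map_mul, xx_comm (by omega) (by omega) k])
  have e2 : ∀ s, 15 ≤ s → s ≤ 32 → j v⁻¹ * g * j (xx s) * (j v⁻¹ * g)⁻¹ =
      j (xx s * (if lg s then 1 else xx (ad 44 s) ^ e)) := fun s a b => by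
    calc _ = j v⁻¹ * (g * j (xx s) * g⁻¹) * (j v⁻¹)⁻¹ := by group
      _ = _ := by rw [(h2 _ (m a)).2, ← e0, h4 s a b, map_mul, map_mul, map_inv]; group
  refine ⟨_, e, he, hg.mul h (inv_mem (UU_mono (by omega) hv)), fun s a b => ?_, fun s a b c => ?_⟩
  · rcases tab_yd.2.1 s a b with k | k
    · calc _ = j v⁻¹ * (g * j (xx s) * g⁻¹) * (j v⁻¹)⁻¹ := by group
        _ = _ := by rw [hQ _ (xx_mem_UU k), ← map_mul, ← V_comm (xx_mem_UU k) (inv_mem hv)]; simp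
    · rw [e2 s k.1 k.2.1, k.2.2]; simp
  · have k := tab_yd.2.2.2 s a b c
    rw [e2 s k.1 k.2.1, b]; simp

theorem Fr.yd [Finite G] (h : Fr j t) (hs : Sw j t) : ∃ y e, Yd j t y e := by
  obtain ⟨g, e, he, hg, h1, h2⟩ := h.gd3 hs
  have key : ∀ y, y * y = 1 → (∀ a, y * a * y⁻¹ = g * a * g⁻¹ ∨ ¬ (a * t = t * a)) → Yd j t y e :=
    fun y y2 k => by
      have yi : y⁻¹ = y := inv_eq_of_mul_eq_one_right y2
      refine ⟨he, y2, ?_, fun s a b => ?_, fun s a b c => ?_⟩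
      · rw [← hg.1, ← (k t).resolve_right (by simp), yi]
      · rw [← mul_inv_eq_iff_eq_mul, (k _).resolve_right (by simp [h.tj]), h1 s a b]
      · rw [← h2 s a b c, ← (k _).resolve_right (by simp [h.tj]), yi]
  have e1 : g * (t * j (xx 44)) * g⁻¹ = t := by rw [← conj_mul, hg.1, hg.2, mul_assoc, jsq, mul_one]
  obtain ⟨a, h3, h4⟩ := h.pin (g := g * g) (l := (List.range 48).filter (Mo 44 ·)) (by
      rw [← mul_inv_eq_iff_eq_mul]; nth_rw 2 [← e1]; rw [← hg.1]; group) ⟨44, by decide, by omega⟩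
    fun s hs => by
      rw [List.mem_filter, List.mem_range, decide_eq_true_eq] at hs
      have := mul_inv_eq_iff_eq_mul.1 (h1 s hs.1 hs.2)
      rw [mul_assoc, this, ← mul_assoc, this, mul_assoc]
  have h5 := cenP (r := 44) (by omega) fun s a b => h3 s (by simp [a, b])
  have h6 : g * j a * g⁻¹ = j a := by
    rcases h5 with rfl | rfl
    · simp
    · exact hg.2
  have h7 : g * g = j a := h4.resolve_right fun k => by
    have : g * (t * j a) * g⁻¹ = t * j a := by rw [← k]; group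
    rw [← conj_mul, hg.1, h6, mul_left_inj, mul_eq_left, ← map_one j] at this
    exact xx_ne (by omega) (h.inj this)
  rcases h5 with rfl | rfl
  · exact ⟨g, e, key g (by simpa using h7) fun _ => .inl rfl⟩
  · refine ⟨g * t, e, key _ ?_ fun a => or_not.imp_left fun k => ?_⟩
    · calc _ = g * t * g⁻¹ * (g * g) * t := by group
        _ = _ := by rw [hg.1, h7, mul_assoc t, jsq, mul_one, h.tt]
    · rw [mul_assoc g t, ← k]; group

theorem Yd.mul_z {y : G} {e : ℕ} (h : Fr j t) (hy : Yd j t y e) (k : ℕ) : Yd j t (y * j (xx 44) ^ k) e := by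
  induction k with
  | zero => simpa using hy
  | succ k hy =>
    rw [pow_succ, ← mul_assoc]
    generalize y * j (xx 44) ^ k = y at hy
    have c : ∀ s, 15 ≤ s → j (xx 44) * j (xx s) = j (xx s) * j (xx 44) := fun s hs => by
      rw [← map_mul, ← map_mul, c44.2 (xx_mem_UU hs)]
    have c0 := hy.cm 44 (by omega) (by decide)
    have c1 : ∀ a, a * j (xx 44) = j (xx 44) * a →
        y * j (xx 44) * a * (y * j (xx 44)) = y * a * y := fun a ha => by
      rw [mul_assoc y, ← ha, c0, mul_assoc, mul_assoc, ← mul_assoc (j _), jsq, one_mul, mul_assoc]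
    refine ⟨hy.le, by simpa [hy.sq] using c1 1 (by simp), by rw [c1 t (h.tj _), hy.ct],
      fun s a b => ?_, fun s a b d => ?_⟩
    · rw [mul_assoc, c s (tab_yd.2.2.1 s a b), ← mul_assoc, hy.cm s a b, mul_assoc]
    · rw [c1 _ (c s (tab_yd.2.2.2 s a b d).1).symm, hy.or s a b d]

theorem aw_tab {w : List ℕ} (hw : ∀ i ∈ w, i < 4) {r s : ℕ} (hr : r < 48) (hs : s < 48) :
    lg (aw w r) = lg r ∧ ip (aw w r) (aw w s) = ip r s ∧
      (ad r s < 48 → ad (aw w r) (aw w s) = aw w (ad r s)) := by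
  induction w with
  | nil => exact ⟨rfl, rfl, fun _ => rfl⟩
  | cons i w ih =>
    have h' : ∀ k ∈ w, k < 4 := fun k hk => hw k (by simp [hk])
    have := ih h'
    have t := tab_sr i (hw i (by simp)) _ (aw_lt h' hr)
    have t' := t.2.2.2.2 _ (aw_lt h' hs)
    simp only [aw_cons]
    exact ⟨t.2.2.1.trans this.1, t'.1.trans this.2.1, fun k => by
      rw [t'.2.1 (by rw [this.2.2 k]; exact aw_lt h' k), this.2.2 k]⟩

theorem aw_surj {w : List ℕ} (hw : ∀ i ∈ w, i < 4) {s : ℕ} (hs : s < 48) : ∃ r < 48, aw w r = s := by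
  induction w generalizing s with
  | nil => exact ⟨s, hs, rfl⟩
  | cons i w ih =>
    have t := tab_sr i (hw i (by simp)) s hs
    obtain ⟨r, hr, e⟩ := ih (fun k hk => hw k (by simp [hk])) t.1
    exact ⟨r, hr, by rw [aw_cons, e, t.2.1]⟩

/-- Words moving `44` to the short roots. -/
def tw (r : ℕ) : List ℕ := [[], [], [], [0, 1, 2, 3, 1, 2, 0, 1, 2, 3, 0, 1, 2, 1, 0], [], [], [], [1, 2, 3, 1, 2, 0, 1, 2, 3, 0, 1, 2, 1, 0], [2, 3, 1, 2, 0, 1, 2, 3, 0, 1, 2, 1, 0], [3, 1, 2, 0, 1, 2, 3, 0, 1, 2, 1, 0], [1, 2, 0, 1, 2, 3, 0, 1, 2, 1, 0], [3, 2, 0, 1, 2, 3, 0, 1, 2, 1, 0], [2, 0, 1, 2, 3, 0, 1, 2, 1, 0], [0, 1, 2, 3, 0, 1, 2, 1, 0], [0, 1, 2, 3, 1, 2, 1, 0], [], [], [], [3, 2, 1, 2, 3, 0, 1, 2, 1, 0], [2, 1, 2, 3, 0, 1, 2, 1, 0], [1, 2, 3, 0, 1, 2, 1, 0], [], [], [], [], [], [], [2, 3, 0, 1, 2, 1, 0], [3, 0, 1, 2, 1, 0], [0, 1, 2, 1, 0], [], [], [], [1, 2, 3, 1, 2, 1, 0], [2, 3, 1, 2, 1, 0], [3, 1, 2, 1, 0],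 [1, 2, 1, 0], [3, 2, 1, 0], [2, 1, 0], [1, 0], [0]].getD r []

theorem tab_tw : ∀ r < 48, lg r = false → (∀ i ∈ tw r, i < 4) ∧ aw (tw r) 44 = r ∧ ∀ i < 4,
    ∃ p ∈ [[], [1], [2], [3]], Q (sg (i :: tw r)) (sg (tw (sr i r)) ++ sg p) = true ∧
      ((tw r).countP (· < 2) + (tw (sr i r)).countP (· < 2) + p.countP (· < 2) + if i < 2 then 1 else 0) % 2 = 0 := by
  decide +kernel

theorem Yd.sy {y : G} {e : ℕ} (h : Fr j t) (hy : Yd j t y e) : ∃ Y, Sy j t Y e := by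
  have n0 : ∀ p ∈ [[], [1], [2], [3]], j (el xx (sg p)) * y * (j (el xx (sg p)))⁻¹ =
      y * j (xx 44) ^ (e * p.countP (· < 2)) ∧ j (el xx (sg p)) * j (xx 44) = j (xx 44) * j (el xx (sg p)) := by
    have c : ∀ a b, Mo 44 a → Mo 44 b → a < 48 → b < 48 → j (el xx [a, b, a]) * y = y * j (el xx [a, b, a]) :=
      fun a b h1 h2 h3 h4 => by
        simp only [el_cons, el_nil, map_mul, mul_one, mul_assoc]
        rw [← hy.cm a h3 h1, ← mul_assoc (j (xx b)), ← hy.cm b h4 h2, ← mul_assoc, ← mul_assoc,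
          ← hy.cm a h3 h1]
        simp only [mul_assoc]
    intro p hp
    refine ⟨?_, by
      rw [← map_mul, ← map_mul, c44.2 (el_mem fun r hr => xx_mem_UU (by revert r p; decide))]⟩
    simp only [List.mem_cons, List.not_mem_nil, or_false] at hp
    rcases hp with rfl | rfl | rfl | rfl
    · simp [sg_nil]
    · have a := hy.or 27 (by omega) (by decide) (by decide)
      have b := hy.or 20 (by omega) (by decide) (by decide)
      have yy : ∀ g, y * (y * g) = g := fun g => by rw [← mul_assoc, hy.sq, one_mul]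
      have d : y * j (el xx [27, 20, 27]) * y = j (xx 44) ^ e * j (el xx [27, 20, 27]) := by
        calc _ = y * j (xx 27) * y * (y * j (xx 20) * y) * (y * j (xx 27) * y) := by simp [mul_assoc, yy]
          _ = _ := by
            rw [a, b]
            rcases Nat.le_one_iff_eq_zero_or_eq_one.1 hy.le with rfl | rfl
            · simp [mul_assoc]
            · simpa [mul_assoc] using congrArg j (Q_eq (u := [27, ad 44 27, 20, ad 44 20, 27, ad 44 27])
                (v := [44, 27, 20, 27]) (by decide +kernel))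
      change j (el xx [27, 20, 27]) * y * (j (el xx [27, 20, 27]))⁻¹ = y * j (xx 44) ^ (e * 1)
      rw [mul_inv_eq_iff_eq_mul, mul_one, mul_assoc, ← d, mul_assoc, yy]
    · exact (mul_inv_eq_iff_eq_mul.2 (c 25 22 (by decide) (by decide) (by omega) (by omega))).trans (by simp)
    · exact (mul_inv_eq_iff_eq_mul.2 (c 24 23 (by decide) (by decide) (by omega) (by omega))).trans (by simp)
  have nc : ∀ {w : List ℕ}, (∀ i ∈ w, i < 4) → ∀ {s}, s < 48 →
      j (el xx (sg w)) * j (xx s) * (j (el xx (sg w)))⁻¹ = j (xx (aw w s)) := fun hw _ hs => by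
    rw [← sg_conj hw hs, map_mul, map_mul, map_inv]
  refine ⟨fun r => j (el xx (sg (tw r))) * (y * j (xx 44) ^ (e * (tw r).countP (· < 2))) *
    (j (el xx (sg (tw r))))⁻¹, hy.le, fun r a b => ?_, fun r a b => ?_, fun r a b s c d => ?_,
    fun r a b s c d f => ?_, fun i hi r a b => ?_⟩ <;> obtain ⟨t1, t2, t3⟩ := tab_tw r a b
  · rw [conj_mul, (hy.mul_z h _).sq]; simp
  · have := nc t1 (s := 44) (by omega)
    rw [t2] at this
    have e1 : t = j (el xx (sg (tw r))) * t * (j (el xx (sg (tw r))))⁻¹ := by rw [← h.tj]; simp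
    rw [← this, e1, conj_mul, conj_mul, conj_mul, (hy.mul_z h _).ct]
  · obtain ⟨s, hs, rfl⟩ := aw_surj t1 c
    have k := aw_tab t1 (r := 44) (by omega) hs
    rw [← nc t1 hs, conj_mul, conj_mul, (hy.mul_z h _).cm s hs (by
      rw [t2] at k
      rwa [Mo, k.2.1, k.1, (aw_tab t1 hs hs).1] at d)]
  · obtain ⟨s, hs, rfl⟩ := aw_surj t1 c
    have k := aw_tab t1 (r := 44) (by omega) hs
    rw [(aw_tab t1 hs hs).1] at d
    rw [t2] at k
    rw [k.2.1] at f
    have m := (tab_yd.2.2.2 s hs d f).2.2.2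
    rw [k.2.2 m, ← nc t1 hs, ← nc t1 m, conj_mul, conj_mul, (hy.mul_z h _).or s hs d f, conj_pow, conj_mul]
  · obtain ⟨p, hp, q, k⟩ := t3 i hi
    have t4 := tab_sr i hi r a
    obtain ⟨u1, u2, -⟩ := tab_tw _ t4.1 (t4.2.2.1.trans b)
    have e1 := congrArg j (Q_eq q)
    rw [sg_cons, el_append, el_append, map_mul, map_mul] at e1
    have e2 := nc u1 (s := 44) (by omega)
    rw [u2] at e2
    obtain ⟨e3, e4⟩ := n0 p hp
    have e5 : ∀ a b, (a + b) % 2 = 0 → j (xx 44) ^ a = j (xx 44) ^ b := fun a b hab => by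
      rw [pow_eq_pow_mod a (n := 2) (by rw [pow_two, jsq]), pow_eq_pow_mod b (n := 2) (by rw [pow_two, jsq])]
      congr 1; omega
    rw [← e2, conj_pow, conj_mul]
    calc _ = j (el xx (nr (sm i))) * j (el xx (sg (tw r))) * (y * j (xx 44) ^ (e * (tw r).countP (· < 2))) *
          (j (el xx (nr (sm i))) * j (el xx (sg (tw r))))⁻¹ := by group
      _ = j (el xx (sg (tw (sr i r)))) * (j (el xx (sg p)) * y * (j (el xx (sg p)))⁻¹ *
          (j (el xx (sg p)) * j (xx 44) * (j (el xx (sg p)))⁻¹) ^ (e * (tw r).countP (· < 2))) *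
          (j (el xx (sg (tw (sr i r)))))⁻¹ := by rw [e1, conj_pow]; group
      _ = _ := by
        rw [e3, e4, mul_inv_cancel_right, mul_assoc y, mul_assoc y, ← pow_add, ← pow_add, e5]
        rcases Nat.le_one_iff_eq_zero_or_eq_one.1 hy.le with rfl | rfl <;> split_ifs at k ⊢ <;> omega

end Cfsg.Agent.F42S
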