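import Cfsg.Agent.F42S.Frm

/-! Relations between doubled root elements at `60°` and `120°`.

Notation `x_r = j (xx r)`, `y_r = Y r`, `a^b = b a b` (all involutions).  TRANSPORT: `Sy.tr` reindexes the whole frame by a word `w`, so a
lemma proved for one configuration of roots (with existential exponents) holds for all `W`-conjugate configurations (orb2; `ad` is equivariant,
tab_sr).  PINNING: a word `k` in the `x, y` that centralises `t` and the `x_s` of a list is pinned by `Fr.pin` + cA / cU / c45 to few elements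
`t^i j (el xx (bw l m))`. -/

set_option autoImplicit false

namespace Cfsg.Agent.F42S

open Cfsg Cfsg.Agent.Comp Subgroup Cfsg.Agent.PLocal.Amb
open Cfsg.Agent.WG (el el_nil el_cons el_append)
open scoped commutatorElement

variable {G : Type*} [Group G] {j : L0 →* G} {t : G} {Y : ℕ → G} {e : ℕ}

namespace RH

theorem rp {a b e : G} (h : a * b = e) : a * b = e ∧ ∀ z, a * (b * z) = e * z :=
  ⟨h, fun z => by rw [← mul_assoc, h]⟩

theorem aw_tab {w : List ℕ} (hw : ∀ i ∈ w, i < 4) {r : ℕ} (hr : r < 48) : lg (aw w r) = lg r ∧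
    ∀ s < 48, ip (aw w r) (aw w s) = ip r s ∧ (ad r s < 48 → ad (aw w r) (aw w s) = aw w (ad r s)) := by
  induction w with
  | nil => exact ⟨rfl, fun _ _ => ⟨rfl, fun _ => rfl⟩⟩
  | cons i w ih =>
    have h' : ∀ k ∈ w, k < 4 := fun k hk => hw k (by simp [hk])
    have k := tab_sr i (hw i (by simp)) _ (aw_lt h' hr)
    refine ⟨k.2.2.1.trans (ih h').1, fun s hs => ?_⟩
    have k1 := k.2.2.2.2 _ (aw_lt h' hs)
    have k2 := (ih h').2 s hs
    refine ⟨k1.1.trans k2.1, fun p => ?_⟩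
    rw [aw_cons, aw_cons, aw_cons, k1.2.1 (by rw [k2.2 p]; exact aw_lt h' p), k2.2 p]

theorem aw_Mo {w : List ℕ} (hw : ∀ i ∈ w, i < 4) {r s : ℕ} (hr : r < 48) (hs : s < 48) :
    Mo (aw w r) (aw w s) ↔ Mo r s := by
  unfold Mo
  rw [((aw_tab hw hr).2 s hs).1, (aw_tab hw hr).1, (aw_tab hw hs).1]

theorem jc {w : List ℕ} (hw : ∀ i ∈ w, i < 4) {r : ℕ} (hr : r < 48) :
    (j.comp (MulAut.conj (el xx (sg w))).toMonoidHom) (xx r) = j (xx (aw w r)) := by
  rw [← sg_conj hw hr]; rfl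

theorem x2 (j : L0 →* G) (r : ℕ) : j (xx r) * j (xx r) = 1 := by rw [← map_mul, xx_sq, map_one]

theorem xp2 (j : L0 →* G) (r n : ℕ) : j (xx r) ^ n * j (xx r) ^ n = 1 := by
  rw [← (Commute.refl _).mul_pow, x2, one_pow]

theorem tab_Mo : ∀ r < 48, ∀ s < 48, Mo r s → s ≠ 47 - r ∧ cm r s = [] := by decide +kernel

theorem xc0 (j : L0 →* G) {r s : ℕ} (h : r < 48 ∧ s < 48 ∧ s ≠ 47 - r ∧ cm r s = []) :
    j (xx s) * j (xx r) = j (xx r) * j (xx s) := by
  rw [← map_mul, xx_comm h.1 h.2.1 h.2.2.1, h.2.2.2, el_nil, mul_one, map_mul]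

theorem xMo (j : L0 →* G) {r s : ℕ} (hr : r < 48) (hs : s < 48) (h : Mo r s) :
    j (xx s) * j (xx r) = j (xx r) * j (xx s) := xc0 j ⟨hr, hs, tab_Mo r hr s hs h⟩

theorem xc1 (j : L0 →* G) {r s k : ℕ} (h : r < 48 ∧ s < 48 ∧ s ≠ 47 - r ∧ cm r s = [k]) :
    j (xx s) * j (xx r) = j (xx r) * (j (xx s) * j (xx k)) := by
  rw [← map_mul, xx_comm h.1 h.2.1 h.2.2.1, h.2.2.2, el_cons, el_nil, mul_one, map_mul, map_mul,
    mul_assoc]

theorem xc2 (j : L0 →* G) {r s k l : ℕ} (h : r < 48 ∧ s < 48 ∧ s ≠ 47 - r ∧ cm r s = [k, l]) :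
    j (xx s) * j (xx r) = j (xx r) * (j (xx s) * (j (xx k) * j (xx l))) := by
  rw [← map_mul, xx_comm h.1 h.2.1 h.2.2.1, h.2.2.2, el_cons, el_cons, el_nil, mul_one, map_mul,
    map_mul, map_mul, mul_assoc]

theorem xt (hf : Fr j t) (r : ℕ) : j (xx r) * t = t * j (xx r) := (hf.tj _).symm

theorem ty (h : Sy j t Y e) {r : ℕ} (hr : r < 48 ∧ lg r = false) :
    t * Y r = Y r * (t * j (xx r)) := by
  rw [← h.ct r hr.1 hr.2, ← mul_assoc, ← mul_assoc, h.sq r hr.1 hr.2, one_mul]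

theorem xy (h : Sy j t Y e) {r s : ℕ} (hr : r < 48 ∧ lg r = false ∧ s < 48 ∧ Mo r s) :
    j (xx s) * Y r = Y r * j (xx s) := (h.cm r hr.1 hr.2.1 s hr.2.2.1 hr.2.2.2).symm

theorem xne (hf : Fr j t) {u : List ℕ} (h : Q u [] = false) : j (el xx u) ≠ 1 := fun e =>
  Q_ne h (hf.inj (by rw [e, el_nil, map_one]))

theorem x1ne (hf : Fr j t) {r : ℕ} (hr : r < 48) : j (xx r) ≠ 1 := fun e =>
  xx_ne hr (hf.inj (by rw [e, map_one]))

theorem x2ne (hf : Fr j t) {r s : ℕ} (h : Q [r, s] [] = false) : j (xx r) * j (xx s) ≠ 1 := by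
  simpa using xne hf h

/-- two short roots at `120°` -/
def P6 (a b : ℕ) : Prop := a < 48 ∧ b < 48 ∧ lg a = false ∧ lg b = false ∧ ip a b = 6

instance (a b : ℕ) : Decidable (P6 a b) := inferInstanceAs (Decidable (_ ∧ _))

set_option synthInstance.maxSize 2048 in
theorem tab6 : ∀ a < 48, ∀ b < 48, lg a = false → lg b = false → ip a b = 6 → ad a b < 48 ∧
    lg (ad a b) = false ∧ ad b a = ad a b ∧ ip b a = 6 ∧ ip a (ad a b) = 10 ∧ Mo a a ∧ Mo a (ad a b) ∧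
    Mo (ad a b) a ∧ Mo (ad a b) (ad a b) ∧ b ≠ 47 - a ∧ cm a b = [ad a b] ∧
    Q [a, ad a b] [] = false := by decide +kernel

theorem P6.tab {a b : ℕ} (p : P6 a b) : ad a b < 48 ∧
    lg (ad a b) = false ∧ ad b a = ad a b ∧ ip b a = 6 ∧ ip a (ad a b) = 10 ∧ Mo a a ∧ Mo a (ad a b) ∧
    Mo (ad a b) a ∧ Mo (ad a b) (ad a b) ∧ b ≠ 47 - a ∧ cm a b = [ad a b] ∧
    Q [a, ad a b] [] = false := tab6 a p.1 b p.2.1 p.2.2.1 p.2.2.2.1 p.2.2.2.2

theorem P6.symm {a b : ℕ} (p : P6 a b) : P6 b a :=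
  ⟨p.2.1, p.1, p.2.2.2.1, p.2.2.1, p.tab.2.2.2.1⟩

/-- the visible relations of a `120°` configuration -/
structure Tri (t ya yb yc xa xb xc : G) : Prop where
  tt : t * t = 1
  aa : ya * ya = 1
  bb : yb * yb = 1
  cc : yc * yc = 1
  xaa : xa * xa = 1
  xbb : xb * xb = 1
  xcc : xc * xc = 1
  ta : t * ya = ya * (t * xa)
  tb : t * yb = yb * (t * xb)
  tc : t * yc = yc * (t * xc)
  xat : xa * t = t * xa
  xbt : xb * t = t * xb
  xct : xc * t = t * xc
  xaa' : xa * ya = ya * xa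
  xca : xc * ya = ya * xc
  xbb' : xb * yb = yb * xb
  xcb : xc * yb = yb * xc
  xac : xa * yc = yc * xa
  xbc : xb * yc = yc * xb
  xcc' : xc * yc = yc * xc
  ba : xb * xa = xa * (xb * xc)
  ab : xa * xb = xb * (xa * xc)
  ca : xc * xa = xa * xc
  cb : xc * xb = xb * xc
  n1 : xc ≠ 1
  n2 : xa * xc ≠ 1
  n3 : xa ≠ 1

theorem tri (hf : Fr j t) (h : Sy j t Y e) {a b : ℕ} (p : P6 a b) :
    Tri t (Y a) (Y b) (Y (ad a b)) (j (xx a)) (j (xx b)) (j (xx (ad a b))) := by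
  obtain ⟨c1, c2, c3, -, -, m1, m2, m3, m4, m5, m6, m7⟩ := p.tab
  obtain ⟨-, -, -, -, -, k1, k2, k3, -, k5, k6, -⟩ := p.symm.tab
  rw [c3] at k2 k3 k6
  obtain ⟨p1, p2, p3, p4, -⟩ := p
  exact ⟨hf.tt, h.sq _ p1 p3, h.sq _ p2 p4, h.sq _ c1 c2, x2 j _, x2 j _, x2 j _, ty h ⟨p1, p3⟩,
    ty h ⟨p2, p4⟩, ty h ⟨c1, c2⟩, xt hf _, xt hf _, xt hf _, xy h ⟨p1, p3, p1, m1⟩,
    xy h ⟨p1, p3, c1, m2⟩, xy h ⟨p2, p4, p2, k1⟩, xy h ⟨p2, p4, c1, k2⟩, xy h ⟨c1, c2, p1, m3⟩,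
    xy h ⟨c1, c2, p2, k3⟩, xy h ⟨c1, c2, c1, m4⟩, xc1 j ⟨p1, p2, m5, m6⟩, xc1 j ⟨p2, p1, k5, k6⟩,
    xMo j p1 c1 m2, xMo j p2 c1 k2, x1ne hf c1, x2ne hf m7, x1ne hf p1⟩

/-- `k ∈ ⟨t, x_a, x_c⟩` -/
def In3 (t xa xc k : G) : Prop :=
  ∃ τ α γ, (τ = 1 ∨ τ = t) ∧ (α = 1 ∨ α = xa) ∧ (γ = 1 ∨ γ = xc) ∧ k = τ * α * γ

theorem pin0 (hf : Fr j t) {g : G} (hg : g * t = t * g)
    (hL : ∀ s ∈ [21, 22, 23, 24, 25, 26, 41, 42, 43, 44, 45, 46, 47, 40], g * j (xx s) = j (xx s) * g) :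
    In3 t (j (xx 40)) (j (xx 44)) g := by
  obtain ⟨a, h1, h2⟩ := hf.pin hg ⟨21, by simp, by omega⟩ hL
  obtain ⟨m, hm, rfl⟩ := cA (g := a) fun r hr => h1 r (by simp only [List.mem_cons] at hr ⊢; tauto)
  have k : ∀ m < 8, Q (bw [33, 40, 44] m ++ [40]) (40 :: bw [33, 40, 44] m) = false ∨
      bw [33, 40, 44] m ∈ [[], [40], [44], [40, 44]] := by decide +kernel
  have k1 := (k m hm).resolve_left fun e => Q_ne e (by simpa using h1 40 (by simp))
  have : ∃ α γ, (α = 1 ∨ α = j (xx 40)) ∧ (γ = 1 ∨ γ = j (xx 44)) ∧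
      j (el xx (bw [33, 40, 44] m)) = α * γ := by
    simp only [List.mem_cons, List.not_mem_nil, or_false] at k1
    rcases k1 with e | e | e | e <;> rw [e]
    · exact ⟨1, 1, .inl rfl, .inl rfl, by simp⟩
    · exact ⟨_, 1, .inr rfl, .inl rfl, by simp⟩
    · exact ⟨1, _, .inl rfl, .inr rfl, by simp⟩
    · exact ⟨_, _, .inr rfl, .inr rfl, by simp⟩
  obtain ⟨α, γ, p1, p2, p3⟩ := this
  rcases h2 with e | e
  · exact ⟨1, α, γ, .inl rfl, p1, p2, by rw [e, p3, one_mul]⟩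
  · exact ⟨t, α, γ, .inr rfl, p1, p2, by rw [e, p3, mul_assoc]⟩

theorem orb6 {a b : ℕ} (p : P6 a b) : ∃ w : List ℕ, (∀ i ∈ w, i < 4) ∧ aw w 40 = a ∧ aw w 33 = b ∧
    aw w 44 = ad a b := by
  obtain ⟨w, hw, e1, e2⟩ := orb2 (r := 40) (s := 33) (by omega) (by omega) p.1 p.2.1
    (by rw [p.2.2.1]; decide +kernel) (by rw [p.2.2.2.1]; decide +kernel)
    (by rw [p.2.2.2.2]; decide +kernel)
  have e : ad 40 33 = 44 := by decide +kernel
  exact ⟨w, hw, e1, e2, by rw [← e1, ← e2, ((aw_tab hw (by omega)).2 33 (by omega)).2 (by omega), e]⟩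

theorem pin6 (hf : Fr j t) {a b : ℕ} (p : P6 a b) {g : G} (hg : g * t = t * g)
    (hL : ∀ s < 48, Mo a s → Mo b s → Mo (ad a b) s → g * j (xx s) = j (xx s) * g)
    (ha : g * j (xx a) = j (xx a) * g) : In3 t (j (xx a)) (j (xx (ad a b))) g := by
  obtain ⟨w, hw, e1, e2, e3⟩ := orb6 p
  have k : ∀ s ∈ [21, 22, 23, 24, 25, 26, 41, 42, 43, 44, 45, 46, 47, 40],
      s < 48 ∧ (s = 40 ∨ Mo 40 s ∧ Mo 33 s ∧ Mo 44 s) := by decide +kernel
  have := pin0 (hf.aut (el xx (sg w))) hg fun s hs => by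
    obtain ⟨k1, rfl | k2⟩ := k s hs
    · rwa [jc hw k1, e1]
    · rw [jc hw k1]
      exact hL _ (aw_lt hw k1) (e1 ▸ (aw_Mo hw (by omega) k1).2 k2.1)
        (e2 ▸ (aw_Mo hw (by omega) k1).2 k2.2.1) (e3 ▸ (aw_Mo hw (by omega) k1).2 k2.2.2)
  rwa [jc hw (by omega), jc hw (by omega), e1, e3] at this

theorem pw {x γ : G} (h : γ = 1 ∨ γ = x) : ∃ q ≤ 1, γ = x ^ q :=
  h.elim (fun e => ⟨0, by omega, by rw [e, pow_zero]⟩) fun e => ⟨1, le_rfl, by rw [e, pow_one]⟩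

namespace Tri

variable {ya yb yc xa xb xc : G} (T : Tri t ya yb yc xa xb xc)
include T

theorem symm : xb * xc ≠ 1 → xb ≠ 1 → Tri t yb ya yc xb xa xc := fun n2 n3 =>
  ⟨T.tt, T.bb, T.aa, T.cc, T.xbb, T.xaa, T.xcc, T.tb, T.ta, T.tc, T.xbt, T.xat, T.xct, T.xbb', T.xcb,
    T.xaa', T.xca, T.xbc, T.xac, T.xcc', T.ab, T.ba, T.cb, T.ca, T.n1, n2, n3⟩

theorem d1 : yc * ya * (xb * ya * xb) * t = t * (yc * ya * (xb * ya * xb)) := by
  simp only [mul_assoc, rp T.ta, rp T.tc, rp T.xbt.symm, rp T.xat, rp T.xct, rp T.xaa', rp T.xca,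
    rp T.ab, rp T.ca, rp T.cb, rp T.xaa, rp T.xcc, one_mul, mul_one]

theorem d2 : yc * ya * (xb * ya * xb) * xa = xa * (yc * ya * (xb * ya * xb)) := by
  simp only [mul_assoc, rp T.xac, rp T.xaa', rp T.xca,
    rp T.ab, rp T.ca, rp T.cb, rp T.xaa, rp T.xcc, one_mul, mul_one]

theorem dich (h : In3 t xa xc (yc * ya * (xb * ya * xb))) :
    (ya * yc = yc * ya ∧ ∃ q ≤ 1, xb * ya * xb = ya * yc * xc ^ q) ∨
      (ya * yc ≠ yc * ya ∧ ∃ q ≤ 1, xb * ya * xb = ya * yc * t * xa * xc ^ q) := by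
  obtain ⟨τ, α, γ, h1, h2, h3, e⟩ := h
  have w : xb * ya * xb = ya * yc * (τ * α * γ) := by
    rw [← e]; simp only [mul_assoc, rp T.aa, rp T.cc, one_mul]
  have E1 : ya * yc * (τ * α * γ) * (ya * yc * (τ * α * γ)) = 1 := by
    rw [← w]; simp only [mul_assoc, rp T.aa, rp T.xbb, one_mul]
  have E2 : ya * (ya * yc * (τ * α * γ) * (xb * yc * (τ * α * γ) * xb)) = 1 := by
    have : xb * (ya * yc * (τ * α * γ)) * xb = xb * ya * xb * (xb * yc * (τ * α * γ) * xb) := by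
      simp only [mul_assoc, rp T.xbb, one_mul]
    rw [← w] at this
    rw [← w, ← this]
    simp only [mul_assoc, rp T.aa, rp T.xbb, one_mul, mul_one]
  obtain ⟨q, hq, hγ⟩ := pw h3
  have n1 := T.n1
  rcases h1 with rfl | rfl <;> rcases h2 with rfl | rfl
  · refine Or.inl ⟨?_, q, hq, by rw [w, hγ, one_mul, one_mul]⟩
    rw [← mul_one (yc * ya), ← E1]
    rcases h3 with rfl | rfl <;>
    simp only [mul_assoc, rp T.aa, rp T.cc, rp T.xca, rp T.xcc', rp T.xcc, one_mul, mul_one]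
  · exfalso
    rcases h3 with rfl | rfl <;>
    simp only [mul_assoc, rp T.aa, rp T.cc, rp T.xac, rp T.xbc, rp T.xcc', rp T.ba, rp T.ca, rp T.cb,
      rp T.xaa, rp T.xbb, rp T.xcc, one_mul, mul_one] at E2 <;> exact n1 E2
  · exfalso
    rcases h3 with rfl | rfl <;>
    simp only [mul_assoc, rp T.aa, rp T.cc, rp T.tc, rp T.xbt, rp T.xct, rp T.tt, rp T.xac, rp T.xbc,
      rp T.xcc', rp T.ba, rp T.ca, rp T.cb, rp T.xaa, rp T.xbb, rp T.xcc, one_mul, mul_one] at E2 <;>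
    exact n1 E2
  · refine Or.inr ⟨fun k => T.n2 ?_, q, hq, by rw [w, hγ]; simp only [mul_assoc]⟩
    rcases h3 with rfl | rfl <;>
    simpa only [mul_assoc, rp k.symm, rp T.aa, rp T.cc, rp T.ta, rp T.tc, rp T.xat, rp T.xct, rp T.tt,
      rp T.xaa', rp T.xca, rp T.xac, rp T.xcc', rp T.ca, rp T.xaa, rp T.xcc, one_mul, mul_one] using E1

variable {ε : G} (he : ε = 1 ∨ ε = xc) (ac : yc * ya = ya * yc) (bc : yc * yb = yb * yc)
  (x1 : xb * ya * xb = ya * yc * ε) (x2 : xa * yb * xa = yb * yc * ε)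
include he ac bc x1 x2

theorem r1 : xb * ya = ya * (yc * (xb * ε)) := by
  rw [← mul_one (xb * ya), ← T.xbb, ← mul_assoc, x1]
  rcases he with rfl | rfl <;> simp only [mul_assoc, rp T.cb, one_mul, mul_one]

theorem r2 : xa * yb = yb * (yc * (xa * ε)) := by
  rw [← mul_one (xa * yb), ← T.xaa, ← mul_assoc, x2]
  rcases he with rfl | rfl <;> simp only [mul_assoc, rp T.ca, one_mul, mul_one]

theorem y1 : ∀ z, z = t ∨ z = xa ∨ z = xb →
    yc * ya * (yb * ya * yb) * z = z * (yc * ya * (yb * ya * yb)) := by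
  have r1 := T.r1 he ac bc x1 x2
  have r2 := T.r2 he ac bc x1 x2
  rintro z (rfl | rfl | rfl) <;> rcases he with rfl | rfl <;>
  simp only [mul_assoc, r1, r2, rp r1, rp r2, rp ac, rp bc, rp T.ta, rp T.tb, rp T.tc, rp T.xat, rp T.xbt,
    rp T.xct, rp T.tt, rp T.xaa', rp T.xca, rp T.xbb', rp T.xcb, rp T.xac, rp T.xbc, rp T.xcc',
    rp T.ba, rp T.ca, rp T.cb, rp T.cc, rp T.xaa, rp T.xbb, rp T.xcc, one_mul, mul_one]

theorem y2 (h : In3 t xa xc (yc * ya * (yb * ya * yb))) :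
    ∃ ρ ≤ 1, yb * ya * yb = ya * yc * xc ^ ρ := by
  obtain ⟨τ, α, γ, h1, h2, h3, e⟩ := h
  have k1 := T.y1 he ac bc x1 x2 xb (.inr (.inr rfl))
  have k2 : yc * (yc * ya * (yb * ya * yb)) * yc * (yc * ya * (yb * ya * yb))⁻¹ = 1 := by
    rw [mul_inv_eq_one]
    simp only [mul_assoc, rp ac, rp bc, rp T.cc, mul_one]
  rw [e] at k1 k2
  obtain ⟨q, hq, hγ⟩ := pw h3
  have n1 := T.n1
  have it := inv_eq_of_mul_eq_one_right T.tt
  have ia := inv_eq_of_mul_eq_one_right T.xaa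
  have ic := inv_eq_of_mul_eq_one_right T.xcc
  rcases h1 with rfl | rfl
  · rcases h2 with rfl | rfl
    · refine ⟨q, hq, ?_⟩
      rw [← hγ, ← one_mul γ, ← one_mul (1 : G), ← e]
      simp only [mul_assoc, rp T.aa, rp T.cc, one_mul]
    · exfalso
      refine n1 (mul_left_cancel (a := α * γ * xb) ?_)
      rw [mul_one, ← one_mul α, k1]
      rcases h3 with rfl | rfl <;>
      simp only [mul_assoc, rp T.ba, rp T.ca, rp T.cb, rp T.xcc, one_mul, mul_one] at k1 ⊢ <;>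
      exact absurd (by simpa using k1) n1
  · exfalso
    rcases h2 with rfl | rfl <;> rcases h3 with rfl | rfl <;>
    simp only [mul_inv_rev, it, ia, ic, inv_one, mul_assoc, rp T.cc, rp T.tc, rp T.xat, rp T.xct,
      rp T.tt, rp T.xac, rp T.xcc', rp T.ca, rp T.xaa, rp T.xcc, one_mul, mul_one] at k2 <;>
    exact n1 k2

theorem y3 {ρ : G} (hρ : ρ = 1 ∨ ρ = xc) (e1 : ε = xc)
    (h : yb * xb * (ya * xa) * (yb * xb) = ya * xa * (yc * xc) * ρ) : yb * ya * yb = ya * yc * ρ := by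
  have r1 := T.r1 he ac bc x1 x2
  have r2 := T.r2 he ac bc x1 x2
  subst e1
  refine mul_right_cancel (b := xa * ε) ?_
  rcases hρ with rfl | rfl <;>
  simpa only [mul_assoc, r1, r2, rp r1, rp r2, rp bc, rp T.xaa', rp T.xca, rp T.xbb', rp T.xcb,
    rp T.xac, rp T.xbc, rp T.xcc', rp T.ba, rp T.ca, rp T.cb, rp T.cc, rp T.xaa, rp T.xbb, rp T.xcc,
    one_mul, mul_one] using h

end Tri

theorem dich (hf : Fr j t) (h : Sy j t Y e) {a b c : ℕ} (p : P6 a b) (hc : ad a b = c) :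
    (Y a * Y c = Y c * Y a ∧ ∃ q ≤ 1, j (xx b) * Y a * j (xx b) = Y a * Y c * j (xx c) ^ q) ∨
      (Y a * Y c ≠ Y c * Y a ∧
        ∃ q ≤ 1, j (xx b) * Y a * j (xx b) = Y a * Y c * t * j (xx a) * j (xx c) ^ q) := by
  subst hc
  have T := tri hf h p
  refine T.dich (pin6 hf p T.d1 (fun s hs m1 m2 m3 => ?_) T.d2)
  have k1 := xy h ⟨p.1, p.2.2.1, hs, m1⟩
  have k2 := xy h ⟨p.tab.1, p.tab.2.1, hs, m3⟩
  have k3 := xMo j p.2.1 hs m2
  simp only [mul_assoc, rp k1, rp k2, rp k3]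

end RH

open RH

/-- PROOF. induction on `w` (wn; `n_i` maps `x_r` to `x_{sr i r}`). -/
theorem Sy.wn' (h : Sy j t Y e) {w : List ℕ} (hw : ∀ i ∈ w, i < 4) {r : ℕ} (hr : r < 48) (hs : lg r = false) :
    j (el xx (sg w)) * Y r * (j (el xx (sg w)))⁻¹ =
      Y (aw w r) * j (xx (aw w r)) ^ (e * (w.filter (· < 2)).length) := by
  induction w with
  | nil => simp [sg_nil, aw_nil]
  | cons i w ih =>
    have h' : ∀ k ∈ w, k < 4 := fun k hk => hw k (by simp [hk])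
    have hi := hw i (by simp)
    have k1 := h.wn i hi _ (aw_lt h' hr) ((aw_tab h' hr).1.trans hs)
    have k2 : j (el xx (nr (sm i))) * j (xx (aw w r)) * (j (el xx (nr (sm i))))⁻¹ =
        j (xx (sr i (aw w r))) := by rw [← nn_conj hi (aw_lt h' hr)]; simp
    rw [sg_cons, aw_cons, el_append, map_mul, mul_inv_rev, ← mul_assoc, mul_assoc (j _) (j _),
      mul_assoc (j _), ih h', ← conj_mul, k1, ← conj_pow, k2, mul_assoc, ← pow_add]
    congr 2
    by_cases e : i < 2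
    · rw [List.filter_cons_of_pos (by simpa using e), if_pos e, List.length_cons]; ring
    · rw [List.filter_cons_of_neg (by simpa using e), if_neg e, zero_add]

/-- PROOF. `n = el xx (sg w)`; `(j.comp (conj n)) (xx r) = j (xx (aw w r))` (sg_conj); ip, lg, ad, Mo are invariant (tab_sr).  wn: conjugate
`wn` by `j n` and use wn' twice (`aw w (sr i r)`; the factors `x^(e σ w)` cancel). -/
theorem Sy.tr (h : Sy j t Y e) {w : List ℕ} (hw : ∀ i ∈ w, i < 4) :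
    Sy (j.comp (MulAut.conj (el xx (sg w))).toMonoidHom) t (fun r => Y (aw w r)) e := by
  have l := fun {r} (hr : r < 48) (hs : lg r = false) => (aw_tab hw hr).1.trans hs
  have a8 : ∀ r < 48, lg r = false → ∀ s < 48, lg s = false → ip r s = 8 → ad r s < 48 := by
    decide +kernel
  refine ⟨h.le, fun r hr hs => h.sq _ (aw_lt hw hr) (l hr hs), fun r hr hs => ?_,
    fun r hr hs s k m => ?_, fun r hr hs s k ks m => ?_, fun i hi r hr hs => ?_⟩
  · rw [jc hw hr]; exact h.ct _ (aw_lt hw hr) (l hr hs)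
  · rw [jc hw k]; exact h.cm _ (aw_lt hw hr) (l hr hs) _ (aw_lt hw k) ((aw_Mo hw hr k).2 m)
  · rw [jc hw k, jc hw (a8 r hr hs s k ks m), ← ((aw_tab hw hr).2 s k).2 (a8 r hr hs s k ks m)]
    exact h.or _ (aw_lt hw hr) (l hr hs) _ (aw_lt hw k) (l k ks) (((aw_tab hw hr).2 s k).1.trans m)
  · have ta := tab_sr i hi r hr
    have k : ∀ r < 48, lg r = false → Y (aw w r) = j (el xx (sg w)) *
        (Y r * j (xx r) ^ (e * (w.filter (· < 2)).length)) * (j (el xx (sg w)))⁻¹ := fun r hr hs => by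
      rw [← conj_mul, h.wn' hw hr hs, ← conj_pow, ← map_inv, ← map_mul, ← map_mul, sg_conj hw hr,
        mul_assoc, xp2, mul_one]
    have k2 : j (el xx (nr (sm i))) * j (xx r) * (j (el xx (nr (sm i))))⁻¹ = j (xx (sr i r)) := by
      rw [← nn_conj hi hr]; simp
    rw [k r hr hs, k _ ta.1 (ta.2.2.1.trans hs)]
    simp only [MonoidHom.comp_apply, MulEquiv.coe_toMonoidHom, MulAut.conj_apply, map_mul, map_inv,
      conj_pow]
    rw [conj_mul (a := Y (sr i r) * _), mul_assoc (Y (sr i r)), ← pow_add,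
      add_comm, pow_add, ← mul_assoc (Y (sr i r)), ← h.wn i hi r hr hs, ← k2, conj_pow]
    group

namespace RH

theorem pw' {x : G} {q : ℕ} (h : q ≤ 1) : x ^ q = 1 ∨ x ^ q = x := by
  interval_cases q <;> simp

theorem wn0 (h : Sy j t Y e) {i r : ℕ} (hi : i < 4) (hr : r < 48) (hs : lg r = false) :
    MulAut.conj (j (el xx (nr (sm i)))) (Y r) =
      Y (sr i r) * j (xx (sr i r)) ^ (if i < 2 then e else 0) := h.wn i hi r hr hs

theorem wnx (j : L0 →* G) {i r : ℕ} (hi : i < 4) (hr : r < 48) :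
    MulAut.conj (j (el xx (nr (sm i)))) (j (xx r)) = j (xx (sr i r)) := by
  rw [← nn_conj hi hr]; simp

theorem c60_of (h : Sy j t Y e) {a b : ℕ} (ha : a < 48) (hb : b < 48) (h1 : lg a = false)
    (h2 : lg b = false) (h3 : ip a b = 10) (hc : Y a * Y b = Y b * Y a) :
    ∀ r < 48, ∀ s < 48, lg r = false → lg s = false → ip r s = 10 → Y r * Y s = Y s * Y r := by
  intro r hr s hs k1 k2 k3
  refine ind2 (P := fun r s => lg r = false → lg s = false → ip r s = 10 → Y r * Y s = Y s * Y r)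
    (fun i hi r hr s hs p q1 q2 q3 => ?_) ha hb hr hs (h1.trans k1.symm) (h2.trans k2.symm)
    (h3.trans k3.symm) (fun _ _ _ => hc) k1 k2 k3
  have ta := tab_sr i hi r hr
  have tb := tab_sr i hi s hs
  have k := congrArg (MulAut.conj (j (el xx (nr (sm i))))) (p (ta.2.2.1 ▸ q1) (tb.2.2.1 ▸ q2)
    ((ta.2.2.2.2 s hs).1 ▸ q3))
  rw [map_mul, map_mul, wn0 h hi hr (ta.2.2.1 ▸ q1), wn0 h hi hs (tb.2.2.1 ▸ q2)] at k
  have m : ∀ r < 48, ∀ s < 48, ip r s = 10 → Mo r s ∧ Mo s r := by decide +kernel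
  have m1 := m _ ta.1 _ tb.1 q3
  have c1 : Commute (j (xx (sr i s))) (Y (sr i r)) := xy h ⟨ta.1, q1, tb.1, m1.1⟩
  have c2 : Commute (j (xx (sr i r))) (Y (sr i s)) := xy h ⟨tb.1, q2, ta.1, m1.2⟩
  have c3 : Commute (j (xx (sr i s))) (j (xx (sr i r))) := xMo j ta.1 tb.1 m1.1
  rw [(c2.pow_left _).mul_mul_mul_comm, (c1.pow_left _).mul_mul_mul_comm, (c3.pow_pow _ _).eq] at k
  exact mul_right_cancel k

theorem xo (h : Sy j t Y e) {r s k : ℕ}
    (p : r < 48 ∧ s < 48 ∧ lg r = false ∧ lg s = false ∧ ip r s = 8 ∧ ad r s = k) :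
    j (xx s) * Y r = Y r * (j (xx s) * j (xx k) ^ e) := by
  obtain ⟨p1, p2, p3, p4, p5, rfl⟩ := p
  rw [← h.or r p1 p3 s p2 p4 p5, ← mul_assoc, ← mul_assoc, h.sq r p1 p3, one_mul]

theorem c60 (hf : Fr j t) (h : Sy j t Y e) :
    ∀ r < 48, ∀ s < 48, lg r = false → lg s = false → ip r s = 10 → Y r * Y s = Y s * Y r := by
  rcases dich hf h (a := 33) (b := 40) (c := 44) (by decide +kernel) (by decide +kernel) with
    ⟨k, -⟩ | ⟨-, q, hq, e1⟩
  · exact c60_of h (by omega) (by omega) (by decide +kernel) (by decide +kernel) (by decide +kernel) k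
  rcases dich hf h (a := 33) (b := 29) (c := 36) (by decide +kernel) (by decide +kernel) with
    ⟨k, -⟩ | ⟨-, q', hq', e2⟩
  · exact c60_of h (by omega) (by omega) (by decide +kernel) (by decide +kernel) (by decide +kernel) k
  refine c60_of h (a := 36) (b := 44) (by omega) (by omega) (by decide +kernel) (by decide +kernel)
    (by decide +kernel) ?_
  have r1 : j (xx 40) * Y 33 = Y 33 * Y 44 * t * j (xx 33) * j (xx 44) ^ q * j (xx 40) := by
    rw [← e1, mul_assoc, x2, mul_one]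
  have r2 : j (xx 29) * Y 33 = Y 33 * Y 36 * t * j (xx 33) * j (xx 36) ^ q' * j (xx 29) := by
    rw [← e2, mul_assoc, x2, mul_one]
  have k : j (xx 29) * (Y 33 * Y 44 * t * j (xx 33) * j (xx 44) ^ q * j (xx 40)) =
      j (xx 40) * (Y 33 * Y 36 * t * j (xx 33) * j (xx 36) ^ q' * j (xx 29)) := by
    rw [← r1, ← r2, ← mul_assoc, ← mul_assoc, xc0 j (r := 29) (s := 40) (by decide +kernel)]
  have o1 := xo h (r := 36) (s := 40) (k := 47) (by decide +kernel)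
  have o2 := xo h (r := 44) (s := 29) (k := 47) (by decide +kernel)
  have he := h.le
  interval_cases q <;> interval_cases q' <;> interval_cases e <;>
  simp only [pow_zero, pow_one, mul_one, mul_assoc] at r1 r2 o1 o2 k <;>
  simp only [mul_assoc, rp r1, rp r2, rp o1, rp o2, rp (ty h (r := 36) (by decide +kernel)),
    rp (ty h (r := 44) (by decide +kernel)), rp (xt hf _), rp hf.tt, rp (x2 j _),
    rp (xy h (r := 44) (s := 40) (by decide +kernel)), rp (xy h (r := 36) (s := 29) (by decide +kernel)),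
    rp (xy h (r := 44) (s := 33) (by decide +kernel)), rp (xy h (r := 36) (s := 33) (by decide +kernel)),
    rp (xy h (r := 44) (s := 36) (by decide +kernel)), rp (xy h (r := 36) (s := 36) (by decide +kernel)),
    rp (xy h (r := 44) (s := 44) (by decide +kernel)), rp (xy h (r := 36) (s := 44) (by decide +kernel)),
    rp (xy h (r := 44) (s := 47) (by decide +kernel)), rp (xy h (r := 36) (s := 47) (by decide +kernel)),
    rp (xc1 j (r := 33) (s := 40) (k := 44) (by decide +kernel)),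
    rp (xc1 j (r := 33) (s := 29) (k := 36) (by decide +kernel)),
    rp (xc0 j (r := 33) (s := 36) (by decide +kernel)), rp (xc0 j (r := 33) (s := 44) (by decide +kernel)),
    rp (xc0 j (r := 33) (s := 47) (by decide +kernel)), rp (xc0 j (r := 29) (s := 36) (by decide +kernel)),
    rp (xc0 j (r := 29) (s := 40) (by decide +kernel)), rp (xc0 j (r := 29) (s := 44) (by decide +kernel)),
    rp (xc0 j (r := 29) (s := 47) (by decide +kernel)), rp (xc0 j (r := 36) (s := 40) (by decide +kernel)),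
    rp (xc0 j (r := 36) (s := 44) (by decide +kernel)), rp (xc0 j (r := 36) (s := 47) (by decide +kernel)),
    rp (xc0 j (r := 40) (s := 44) (by decide +kernel)), rp (xc0 j (r := 40) (s := 47) (by decide +kernel)),
    rp (xc0 j (r := 44) (s := 47) (by decide +kernel)), one_mul, mul_one, mul_right_inj] at k <;>
  simpa only [← mul_assoc, mul_left_inj] using k

theorem xq (hf : Fr j t) (h : Sy j t Y e) {a b c : ℕ} (p : P6 a b) (hc : ad a b = c) :
    ∃ q ≤ 1, j (xx b) * Y a * j (xx b) = Y a * Y c * j (xx c) ^ q := by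
  subst hc
  exact ((dich hf h p rfl).resolve_right fun k =>
    k.1 (c60 hf h _ p.1 _ p.tab.1 p.2.2.1 p.tab.2.1 p.tab.2.2.2.2.1)).2

theorem x0 (hf : Fr j t) (h : Sy j t Y e) :
    j (xx 33) * Y 40 * j (xx 33) = Y 40 * Y 44 * j (xx 44) ^ e := by
  obtain ⟨q, hq, e1⟩ := xq hf h (a := 40) (b := 33) (c := 44) (by decide +kernel) (by decide +kernel)
  obtain ⟨q', hq', e2⟩ := xq hf h (a := 44) (b := 14) (c := 40) (by decide +kernel) (by decide +kernel)
  have k := h.wn 0 (by omega) 40 (by omega) (by decide +kernel)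
  rw [show sr 0 40 = 44 by decide +kernel, show nr (sm 0) = [33, 14, 33] by decide +kernel,
    if_pos (by omega), mul_inv_eq_iff_eq_mul] at k
  simp only [el_cons, el_nil, mul_one, map_mul] at k
  have r1 : j (xx 33) * Y 40 = Y 40 * Y 44 * j (xx 44) ^ q * j (xx 33) := by
    rw [← e1, mul_assoc, x2, mul_one]
  have r2 : j (xx 14) * Y 44 = Y 44 * Y 40 * j (xx 40) ^ q' * j (xx 14) := by
    rw [← e2, mul_assoc, x2, mul_one]
  have k1 : j (xx 33) * (j (xx 14) * (j (xx 33) * Y 40 * j (xx 33)) * j (xx 14)) * j (xx 33) =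
      Y 44 * j (xx 44) ^ e := by
    rw [← mul_left_inj (j (xx 33) * (j (xx 14) * j (xx 33))), ← k]
    simp only [mul_assoc, rp (x2 j _), one_mul, mul_one]
  have c := c60 hf h 44 (by omega) 40 (by omega) (by decide +kernel) (by decide +kernel)
    (by decide +kernel)
  have k2 : j (xx 14) * (Y 40 * Y 44 * j (xx 44) ^ q) * j (xx 14) =
      Y 44 * j (xx 40) ^ q' * (j (xx 44) * j (xx 40)) ^ q := by
    interval_cases q <;> interval_cases q' <;> simp only [pow_zero, pow_one, mul_one, mul_assoc] at r2 ⊢ <;>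
    simp only [mul_assoc, rp r2, rp c.symm, rp (h.sq 40 (by omega) (by decide +kernel)), rp (x2 j _),
      rp (xy h (r := 40) (s := 14) (by decide +kernel)),
      rp (xy h (r := 40) (s := 40) (by decide +kernel)),
      rp (xc1 j (r := 44) (s := 14) (k := 40) (by decide +kernel)),
      rp (xc0 j (r := 14) (s := 40) (by decide +kernel)).symm, one_mul, mul_one]
  rw [e1, k2] at k1
  rw [e1]
  have n1 := x1ne hf (r := 40) (by omega)
  have n2 := x1ne hf (r := 44) (by omega)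
  have n3 := x2ne hf (r := 40) (s := 44) (by decide +kernel)
  have he := h.le
  interval_cases q <;> interval_cases q' <;> interval_cases e <;> first
    | rfl
    | (simp only [pow_zero, pow_one, mul_assoc, rp (x2 j _),
        rp (xy h (r := 44) (s := 33) (by decide +kernel)),
        rp (xc1 j (r := 40) (s := 33) (k := 44) (by decide +kernel)),
        rp (xc0 j (r := 44) (s := 33) (by decide +kernel)),
        rp (xc0 j (r := 40) (s := 44) (by decide +kernel)), one_mul, mul_one, mul_right_inj,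
        mul_eq_left, left_eq_mul, mul_eq_right] at k1
       exact absurd k1 (by assumption))

end RH

/-- PROOF.  Configuration `a = 40, b = 33, c = a + b = 44`; `y_a, y_b, y_c, x_a, x_b, x_c` all commute with the `x_s` of cA, `D = ⟨x_a, x_b⟩` is dihedral with centre `x_c`.
(1) `k = (y_a y_c)²` centralises `t` (both orders send `t` to `t x_a x_c`), so `k ∈ ⟨t⟩ D`; it commutes with `x_a, x_c`, so `k ∈ ⟨t, x_a, x_c⟩`, `k² = 1`, hence `k` commutes
with `y_a`: `k = x_a^α x_c^β`.  (2) `y_a^{x_b} = y_a y_c k'`, `k' ∈ ⟨t⟩ D` (both sides send `t` to `t x_a x_c`); the left side commutes with `x_a, x_c`, so `k' = t^i x_a^p x_c^q`;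
it is an involution: `α = β = i`; applying `x_b` twice: `p = i`.  (3) `i = 0`: else (all `60°` pairs have `[y, y'] = x x'` or commute, each decided by its own `i`; transport by actual conjugation with
`wn'` shows `i` is the same for all pairs since `x, x'` commute with `y, y'`) put `u_r = y_r t` (`u_r² = x_r`); `u₃₃, u₃₆, u₄₄` commute pairwise, `x₄₀`: `u₃₃ ↦ u₃₃⁻¹ u₄₄^{±1}`, `u₃₆ ↦ u₃₆ x₄₇^e`,
`u₄₄` fixed; `x₂₉`: `u₃₃ ↦ u₃₃⁻¹ u₃₆^{±1}`, `u₄₄ ↦ u₄₄ x₄₇^e`, `u₃₆` fixed; `x₂₉, x₄₀` commute, which forces `u₃₆² = u₄₄²`, i.e. `x₃₆ = x₄₄`, false.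
(4) So `y_a^{x_b} = y_a y_{a+b} x_{a+b}^q` for every `120°` pair.  `q = e`: conjugate `y_a` by `n_b = x_b x_{-b} x_b` for `b = 33 = sm 0` step by step (pairs `(a,b)`, `(c,-b)`) and compare with wn:
`y_c x_c^q (x_a x_c)^{q+q'} = y_c x_c^e`.  Do this in the base frame, then transport.  (5) `y_b y_a y_b` sends `t` to `t x_a x_c` (use (4) for `(a,b)`, `(b,a)`), so it is `y_a y_c k`, `k ∈ ⟨t⟩ D` commuting with `y_c`
and `x_a`: `k ∈ ⟨x_a, x_c⟩`; symmetrically `(y_a y_b)² = y_c k'`, `k' ∈ ⟨x_b, x_c⟩`, and `(y_b y_a)² = y_c k` is its inverse: `k = x_c^ρ`.  `ρ` is the same for all pairs (ind2 with wn: for `e = 1`, `i < 2` expand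
`(y_a x_a)^{y_b x_b}` with (4)). -/
theorem Sy.ra (hf : Fr j t) (h : Sy j t Y e) : ∃ ρ, RA j Y e ρ := by
  have c := c60 hf h
  have x120 : ∀ a b, P6 a b → j (xx b) * Y a * j (xx b) = Y a * Y (ad a b) * j (xx (ad a b)) ^ e :=
    fun a b p => by
      obtain ⟨w, hw, e1, e2, e3⟩ := orb6 p
      have := x0 (hf.aut (el xx (sg w))) (h.tr hw)
      rwa [jc hw (by omega), jc hw (by omega), e1, e2, e3] at this
  have d : ∀ a b, P6 a b → Y (ad a b) * Y a = Y a * Y (ad a b) ∧ Y (ad a b) * Y b = Y b * Y (ad a b) ∧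
      j (xx a) * Y b * j (xx a) = Y b * Y (ad a b) * j (xx (ad a b)) ^ e := fun a b p => by
    have k := p.symm.tab.2.2.2.2.1
    have k1 := x120 b a p.symm
    rw [p.tab.2.2.1] at k k1
    exact ⟨(c _ p.1 _ p.tab.1 p.2.2.1 p.tab.2.1 p.tab.2.2.2.2.1).symm,
      (c _ p.2.1 _ p.tab.1 p.2.2.2.1 p.tab.2.1 k).symm, k1⟩
  have p0 : P6 40 33 := by decide +kernel
  have T0 := tri hf h p0
  have y1 := T0.y1 (pw' h.le) (d _ _ p0).1 (d _ _ p0).2.1 (x120 _ _ p0) (d _ _ p0).2.2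
  obtain ⟨ρ, hρ, e0⟩ := T0.y2 (pw' h.le) (d _ _ p0).1 (d _ _ p0).2.1 (x120 _ _ p0) (d _ _ p0).2.2
    (pin6 hf p0 (y1 t (.inl rfl)) (fun s hs m1 m2 m3 => by
      have k1 := xy h ⟨p0.1, p0.2.2.1, hs, m1⟩
      have k2 := xy h ⟨p0.tab.1, p0.tab.2.1, hs, m3⟩
      have k3 := xy h ⟨p0.2.1, p0.2.2.2.1, hs, m2⟩
      simp only [mul_assoc, rp k1, rp k2, rp k3]) (y1 _ (.inr (.inl rfl))))
  refine ⟨ρ, hρ, c, fun r hr s hs k1 k2 k3 => x120 r s ⟨hr, hs, k1, k2, k3⟩,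
    fun r hr s hs k1 k2 k3 => ?_⟩
  refine ind2 (P := fun r s => P6 r s → Y s * Y r * Y s = Y r * Y (ad r s) * j (xx (ad r s)) ^ ρ)
    (fun i hi r hr s hs p q => ?_) p0.1 p0.2.1 hr hs (p0.2.2.1.trans k1.symm)
    (p0.2.2.2.1.trans k2.symm) (p0.2.2.2.2.trans k3.symm) (fun _ => e0) ⟨hr, hs, k1, k2, k3⟩
  have ta := tab_sr i hi r hr
  have tb := tab_sr i hi s hs
  have q' : P6 r s := ⟨hr, hs, ta.2.2.1 ▸ q.2.2.1, tb.2.2.1 ▸ q.2.2.2.1,
    (ta.2.2.2.2 s hs).1 ▸ q.2.2.2.2⟩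
  have k := congrArg (MulAut.conj (j (el xx (nr (sm i))))) (p q')
  rw [map_mul, map_mul, map_mul, map_mul, map_pow, wn0 h hi hr q'.2.2.1, wn0 h hi hs q'.2.2.2.1,
    wn0 h hi q'.tab.1 q'.tab.2.1, wnx j hi q'.tab.1, ← (ta.2.2.2.2 s hs).2.1 q'.tab.1] at k
  by_cases e1 : (if i < 2 then e else 0) = 0
  · simpa only [e1, pow_zero, mul_one] using k
  · have e2 : e = 1 := by have := h.le; split_ifs at e1 <;> omega
    subst e2
    have e3 : (if i < 2 then 1 else 0) = 1 := by split_ifs at e1 ⊢ <;> omega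
    simp only [e3, pow_one] at k
    exact (tri hf h q).y3 (pw' h.le) (d _ _ q).1 (d _ _ q).2.1 (x120 _ _ q) (d _ _ q).2.2 (pw' hρ)
      (pow_one _) k

end Cfsg.Agent.F42S
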