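import Cfsg.Agent.F42S.RelA

/-! The twisted case `e = 1`.  Notation and methods as in RelA.  `B₂` configuration: `29 = e₂`, `44 = e₁` short, `41 = e₁ - e₂`, `47 = e₁ + e₂`
long; `y₂₉, y₄₄, x₄₁` commute with the `x_s` of cU except that `y₂₉ x₄₄ y₂₉ = x₄₄ x₄₇^e`. -/

set_option autoImplicit false

namespace Cfsg.Agent.F42S

open Cfsg Cfsg.Agent.Comp Subgroup Cfsg.Agent.PLocal.Amb
open Cfsg.Agent.WG (el el_nil el_cons el_append)
open scoped commutatorElement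

variable {G : Type*} [Group G] {j : L0 →* G} {t : G} {Y : ℕ → G} {e ρ : ℕ}

namespace RB

theorem r0 {a b : G} (h : a * b = b * a) (z : G) : a * (b * z) = b * (a * z) := by
  rw [← mul_assoc, h, mul_assoc]

theorem r1 {a b c : G} (ha : a * a = 1) (h : a * b * a = c) (z : G) : a * (b * z) = c * (a * z) := by
  rw [← h, mul_assoc, mul_assoc, ← mul_assoc a a, ha, one_mul]

theorem r2 {a b c : G} (hb : b * b = 1) (h : b * a * b = c) (z : G) : a * (b * z) = b * (c * z) := by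
  rw [← h, mul_assoc, mul_assoc, ← mul_assoc b b, hb, one_mul]

theorem sq {a : G} (h : a * a = 1) (z : G) : a * (a * z) = z := by rw [← mul_assoc, h, one_mul]

theorem jsq (j : L0 →* G) (r : ℕ) : j (xx r) * j (xx r) = 1 := by rw [← map_mul, xx_sq, map_one]

theorem js (j : L0 →* G) (r : ℕ) (z : G) : j (xx r) * (j (xx r) * z) = z := sq (jsq j r) z

theorem xr (j : L0 →* G) (s r : ℕ) (w : List ℕ) (h : Q [s, r] (r :: s :: w) = true) (z : G) :
    j (xx s) * (j (xx r) * z) = j (xx r) * (j (xx s) * (j (el xx w) * z)) := by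
  have := congrArg j (Q_eq h)
  simp only [el_cons, el_nil, mul_one, map_mul] at this
  rw [← mul_assoc, this, mul_assoc, mul_assoc]

theorem xc (j : L0 →* G) (s r : ℕ) (h : Q [s, r] [r, s] = true) (z : G) :
    j (xx s) * (j (xx r) * z) = j (xx r) * (j (xx s) * z) := by
  rw [xr j s r [] h, el_nil, map_one, one_mul]

theorem aw_tab {w : List ℕ} (hw : ∀ i ∈ w, i < 4) {r s : ℕ} (hr : r < 48) (hs : s < 48) :
    lg (aw w r) = lg r ∧ ip (aw w r) (aw w s) = ip r s ∧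
      (ad r s < 48 → ad (aw w r) (aw w s) = aw w (ad r s)) := by
  induction w with
  | nil => exact ⟨rfl, rfl, fun _ => rfl⟩
  | cons i w ih =>
    have h' : ∀ k ∈ w, k < 4 := fun k hk => hw k (by simp [hk])
    have k := tab_sr i (hw i (by simp)) _ (aw_lt h' hr)
    have k2 := k.2.2.2.2 _ (aw_lt h' hs)
    obtain ⟨i1, i2, i3⟩ := ih h'
    simp only [aw_cons]
    exact ⟨k.2.2.1.trans i1, k2.1.trans i2, fun h => by
      rw [k2.2.1 (by rw [i3 h]; exact aw_lt h' h), i3 h]⟩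

theorem jtr (j : L0 →* G) {w : List ℕ} (hw : ∀ i ∈ w, i < 4) {r : ℕ} (hr : r < 48) :
    (j.comp (MulAut.conj (el xx (sg w))).toMonoidHom) (xx r) = j (xx (aw w r)) := by
  rw [← sg_conj hw hr, MonoidHom.comp_apply, MulEquiv.coe_toMonoidHom, MulAut.conj_apply]

theorem ad_lt : ∀ r < 48, ∀ s < 48, lg r = false → lg s = false → ip r s = 6 → ad r s < 48 := by
  decide +kernel

theorem tr (h : RA j Y e ρ) {w : List ℕ} (hw : ∀ i ∈ w, i < 4) :
    RA (j.comp (MulAut.conj (el xx (sg w))).toMonoidHom) (fun r => Y (aw w r)) e ρ := by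
  refine ⟨h.le, fun r hr s hs h1 h2 h3 => ?_, fun r hr s hs h1 h2 h3 => ?_, fun r hr s hs h1 h2 h3 => ?_⟩
  all_goals
    have a := aw_tab hw hr hs
    have b := (aw_tab hw hs hs).1.trans h2
  · exact h.c60 _ (aw_lt hw hr) _ (aw_lt hw hs) (a.1.trans h1) b (a.2.1.trans h3)
  all_goals have c := ad_lt r hr s hs h1 h2 h3
  · rw [jtr j hw hs, jtr j hw c, ← a.2.2 c]
    exact h.x120 _ (aw_lt hw hr) _ (aw_lt hw hs) (a.1.trans h1) b (a.2.1.trans h3)
  · rw [jtr j hw c, ← a.2.2 c]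
    exact h.y120 _ (aw_lt hw hr) _ (aw_lt hw hs) (a.1.trans h1) b (a.2.1.trans h3)

theorem ys (h : Sy j t Y e) (r : ℕ) (hr : r < 48 ∧ lg r = false := by decide) (z : G) :
    Y r * (Y r * z) = z := sq (h.sq r hr.1 hr.2) z

theorem yx (h : Sy j t Y e) (r s : ℕ) (hr : r < 48 ∧ lg r = false ∧ s < 48 ∧ Mo r s := by decide)
    (z : G) : j (xx s) * (Y r * z) = Y r * (j (xx s) * z) :=
  r0 (h.cm r hr.1 hr.2.1 s hr.2.2.1 hr.2.2.2).symm z

theorem xo (h : Sy j t Y e) (r s k : ℕ)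
    (hr : r < 48 ∧ lg r = false ∧ s < 48 ∧ lg s = false ∧ ip r s = 8 ∧ ad r s = k := by decide)
    (z : G) : j (xx s) * (Y r * z) = Y r * (j (xx s) * (j (xx k) ^ e * z)) := by
  rw [r2 (h.sq r hr.1 hr.2.1) (h.or r hr.1 hr.2.1 s hr.2.2.1 hr.2.2.2.1 hr.2.2.2.2.1), mul_assoc,
    hr.2.2.2.2.2]

theorem yc (h : RA j Y e ρ) (r s : ℕ)
    (hr : r < 48 ∧ lg r = false ∧ s < 48 ∧ lg s = false ∧ ip r s = 10 := by decide) (z : G) :
    Y r * (Y s * z) = Y s * (Y r * z) := r0 (h.c60 r hr.1 s hr.2.2.1 hr.2.1 hr.2.2.2.1 hr.2.2.2.2) z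

theorem x6 (h : RA j Y e ρ) (r s k : ℕ)
    (hr : r < 48 ∧ lg r = false ∧ s < 48 ∧ lg s = false ∧ ip r s = 6 ∧ ad r s = k := by decide) (z : G) :
    j (xx s) * (Y r * z) = Y r * (Y k * (j (xx k) ^ e * (j (xx s) * z))) := by
  rw [r1 (jsq j s) (h.x120 r hr.1 s hr.2.2.1 hr.2.1 hr.2.2.2.1 hr.2.2.2.2.1), hr.2.2.2.2.2, mul_assoc,
    mul_assoc]

theorem y6 (h : Sy j t Y e) (ha : RA j Y e ρ) (r s k : ℕ)
    (hr : r < 48 ∧ lg r = false ∧ s < 48 ∧ lg s = false ∧ ip r s = 6 ∧ ad r s = k := by decide) (z : G) :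
    Y s * (Y r * z) = Y r * (Y k * (j (xx k) ^ ρ * (Y s * z))) := by
  rw [r1 (h.sq s hr.2.2.1 hr.2.2.2.1) (ha.y120 r hr.1 s hr.2.2.1 hr.2.1 hr.2.2.2.1 hr.2.2.2.2.1),
    hr.2.2.2.2.2, mul_assoc, mul_assoc]

theorem le1 {n : ℕ} (h : n ≤ 1) : n = 0 ∨ n = 1 := by omega

theorem c90 (h : Sy j t Y e) (ha : RA j Y e ρ) : Y 36 * Y 40 = Y 40 * Y 36 := by
  have k := x6 ha 14 44 40 (z := Y 36 * t)
  rcases le1 h.le with rfl | rfl <;> rcases le1 ha.le with rfl | rfl <;>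
  simpa only [pow_zero, pow_one, one_mul, x6 ha 14 44 40, y6 h ha 36 14 29, yc ha 14 40, yc ha 29 40,
    yx h 36 44, xo h 29 44 47, xo h 36 40 47, yx h 14 29, yx h 40 29, yx h 14 47, yx h 40 47,
    yx h 29 47, yx h 36 47, yx h 14 40, yx h 29 40, yx h 40 44, yx h 40 40,
    xc j 40 29 (by decide +kernel), xc j 44 29 (by decide +kernel), xc j 47 29 (by decide +kernel),
    xc j 44 40 (by decide +kernel), xc j 47 40 (by decide +kernel), xc j 47 44 (by decide +kernel),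
    show ∀ z, Y 36 * (Y 40 * z) = Y 40 * (Y 36 * z) ↔ Y 36 * Y 40 = Y 40 * Y 36 from fun z => by
      rw [← mul_assoc, ← mul_assoc, mul_left_inj]] using k

theorem ty (hf : Fr j t) (h : Sy j t Y e) (r : ℕ) (hr : r < 48 ∧ lg r = false := by decide) (z : G) :
    t * (Y r * z) = Y r * (t * (j (xx r) * z)) := by
  rw [r2 (h.sq r hr.1 hr.2) (h.ct r hr.1 hr.2), mul_assoc]

theorem xt (hf : Fr j t) (a : L0) (z : G) : j a * (t * z) = t * (j a * z) := r0 (hf.tj a).symm z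

theorem nz (hf : Fr j t) (u : List ℕ) (h : Q u [] = false) (z : G) : j (el xx u) * z = z ↔ False :=
  iff_false_intro fun k => Q_ne h (hf.inj (by rw [el_nil, map_one]; simpa using k))

theorem ny (hf : Fr j t) (h : Sy j t Y e) (r : ℕ) {a b : G} (k : Y r * a = b) (ha : a ∈ j.range)
    (hb : b ∈ j.range) (hr : r < 48 ∧ lg r = false := by decide) : False := by
  obtain ⟨c, hc⟩ : Y r ∈ j.range := by
    rw [eq_mul_inv_of_mul_eq k]; exact mul_mem hb (inv_mem ha)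
  have := h.ct r hr.1 hr.2
  rw [← hc, ← hf.tj, mul_assoc, hc, h.sq r hr.1 hr.2, mul_right_inj, ← map_one j] at this
  exact xx_ne hr.1 (hf.inj this).symm

theorem kt (hf : Fr j t) (h : Sy j t Y e) (z : G) :
    t * (Y 44 * (Y 29 * (j (xx 41) * (Y 29 * (j (xx 41) * z))))) =
      Y 44 * (Y 29 * (j (xx 41) * (Y 29 * (j (xx 41) * (t * (j (xx 47) ^ (e + 1) * z)))))) := by
  rcases le1 h.le with rfl | rfl <;>
  simp only [pow_zero, pow_one, one_mul, zero_add, pow_succ, mul_assoc, ty hf h 44, ty hf h 29,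
    (xt hf (xx 41) _).symm, xt hf (xx 29), xt hf (xx 44), xt hf (xx 47), yx h 29 29, xo h 29 44 47,
    yx h 29 47, xr j 29 41 [44, 47] (by decide +kernel), el_cons, el_nil, mul_one, map_mul, js,
    xc j 44 41 (by decide +kernel), xc j 47 41 (by decide +kernel), xc j 44 29 (by decide +kernel),
    xc j 47 29 (by decide +kernel), xc j 47 44 (by decide +kernel)]

theorem tab1 : ∀ m < 16, Q (bw [29, 41, 44, 47] m ++ [29]) (29 :: bw [29, 41, 44, 47] m) = true →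
    bw [29, 41, 44, 47] m ∈ [[], [47], [29], [44], [29, 44], [29, 47], [44, 47], [29, 44, 47]] := by
  decide +kernel

theorem base1 (hf : Fr j t) (h : Sy j t Y 1) (hc : Y 44 * Y 29 = Y 29 * Y 44) :
    ∃ q ≤ 1, j (xx 41) * Y 29 * j (xx 41) = Y 29 * Y 44 * j (xx 47) ^ q := by
  obtain ⟨a, ha, hk⟩ := hf.pin (g := Y 44 * (Y 29 * (j (xx 41) * (Y 29 * j (xx 41)))))
    (by simpa only [mul_one, mul_assoc, pow_succ, pow_zero, one_mul, jsq] using (kt hf h 1).symm)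
    (l := [29, 17, 22, 25, 30, 42, 43, 44, 45, 46, 47]) ⟨29, by simp, by omega⟩ fun s hs => by
      by_cases h1 : s = 29 ∨ s = 44
      · apply mul_right_cancel (b := t)
        rcases h1 with rfl | rfl <;>
        simp only [pow_one, mul_assoc, yx h 29 29, xo h 29 44 47, xo h 44 29 47, yx h 44 44,
          yx h 29 47, xr j 29 41 [44, 47] (by decide +kernel), el_cons, el_nil, mul_one, map_mul, js,
          xc j 44 41 (by decide +kernel), xc j 47 41 (by decide +kernel), xc j 44 29 (by decide +kernel),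
          xc j 47 29 (by decide +kernel), xc j 47 44 (by decide +kernel)]
      · have : ∀ s ∈ [29, 17, 22, 25, 30, 42, 43, 44, 45, 46, 47], ¬ (s = 29 ∨ s = 44) → s < 48 ∧
            Mo 29 s ∧ Mo 44 s ∧ Q [s, 41] [41, s] = true := by decide +kernel
        obtain ⟨k1, k2, k3, k4⟩ := this s hs h1
        apply mul_right_cancel (b := t)
        simp only [mul_assoc, yx h 29 s ⟨by decide, by decide, k1, k2⟩,
          yx h 44 s ⟨by decide, by decide, k1, k3⟩, xc j s 41 k4]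
  obtain ⟨m, hm, rfl⟩ := cU fun r hr => ha r (List.mem_cons_of_mem _ hr)
  have hu := tab1 m hm ((Q_iff _ _).2 (by simpa using ha 29 (by simp)))
  generalize bw [29, 41, 44, 47] m = u at hu hk
  have R : ∀ {k : G}, Y 44 * (Y 29 * (j (xx 41) * (Y 29 * j (xx 41)))) = k → ∀ z,
      j (xx 41) * (Y 29 * z) = Y 29 * (Y 44 * (k * (j (xx 41) * z))) := fun hk z => by
    simp only [← hk, mul_assoc, ys h 44, ys h 29, js]
  have n := fun u k => nz hf u k 1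
  have n1 := And.intro (n [47] (by decide +kernel)) (n [44] (by decide +kernel))
  have n2 := And.intro (n [29, 44] (by decide +kernel)) (n [29, 44, 47] (by decide +kernel))
  have n3 := And.intro (n [29] (by decide +kernel)) (n [29, 47] (by decide +kernel))
  simp only [List.mem_cons, List.not_mem_nil, or_false] at hu
  simp only [el_cons, el_nil, map_mul, map_one, mul_assoc, one_mul] at n1 n2 n3
  rcases hk with hk | hk <;> have R := R hk <;> have k1 := R (Y 29 * 1) <;>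
    have k2 := js j 41 (Y 29 * 1) <;> rcases hu with rfl | rfl | rfl | rfl | rfl | rfl | rfl | rfl <;>
    simp only [el_cons, el_nil, map_mul, map_one, mul_assoc, one_mul] at R <;>
    simp only [R, el_cons, el_nil, map_mul, map_one, mul_assoc, one_mul, pow_one, r0 hc, ys h 29, ys h 44,
      ty hf h 44, ty hf h 29, (xt hf (xx 41) _).symm, xt hf (xx 29), xt hf (xx 44), xt hf (xx 47),
      yx h 29 29, xo h 29 44 47, xo h 44 29 47, yx h 44 44, yx h 44 41, yx h 44 47, sq hf.tt,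
      yx h 29 47, xr j 29 41 [44, 47] (by decide +kernel), js, mul_right_inj, eq_comm (a := (1 : G)),
      xc j 44 41 (by decide +kernel), xc j 47 41 (by decide +kernel), xc j 44 29 (by decide +kernel),
      xc j 47 29 (by decide +kernel), xc j 47 44 (by decide +kernel), n1, n2, n3] at k1 k2
  · exact ⟨0, by omega, by simpa [jsq, mul_assoc] using R (j (xx 41))⟩
  · exact ⟨1, by omega, by simpa [jsq, mul_assoc] using R (j (xx 41))⟩

theorem c90' (h : Sy j t Y e) (ha : RA j Y e ρ) {r s : ℕ} (hr : r < 48) (hs : s < 48)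
    (h1 : lg r = false) (h2 : lg s = false) (h3 : ip r s = 8) : Y r * Y s = Y s * Y r := by
  obtain ⟨w, hw, rfl, rfl⟩ := orb2 (r := 36) (s := 40) (by omega) (by omega) hr hs
    (h1 ▸ by decide) (h2 ▸ by decide) (h3 ▸ by decide)
  exact c90 (h.tr hw) (tr ha hw)

theorem yo (h : Sy j t Y e) (ha : RA j Y e ρ) (r s : ℕ)
    (hr : r < 48 ∧ lg r = false ∧ s < 48 ∧ lg s = false ∧ ip r s = 8 := by decide) (z : G) :
    Y r * (Y s * z) = Y s * (Y r * z) :=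
  r0 (c90' h ha hr.1 hr.2.2.1 hr.2.1 hr.2.2.2.1 hr.2.2.2.2) z

/-- Transport of the sums `a + l`, `2a + l`. -/
theorem aw_ad {w : List ℕ} (hw : ∀ i ∈ w, i < 4) (a l b c : ℕ)
    (h : a < 48 ∧ l < 48 ∧ b < 48 ∧ c < 48 ∧ ad a l = b ∧ ad b a = c := by decide) :
    ad (aw w a) (aw w l) = aw w b ∧ ad (aw w b) (aw w a) = aw w c := by
  obtain ⟨h1, h2, h3, h4, rfl, rfl⟩ := h
  exact ⟨(aw_tab hw h1 h2).2.2 h3, (aw_tab hw h3 h1).2.2 h4⟩

theorem gen1 (hf : Fr j t) (h : Sy j t Y 1) (ha : RA j Y 1 ρ) (a l b c : ℕ)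
    (hr : a < 48 ∧ l < 48 ∧ lg a = false ∧ lg l = true ∧ ip a l = 4 ∧ ad a l = b ∧ ad b a = c := by
      decide) : ∃ q ≤ 1, ∀ z,
      j (xx l) * (Y a * z) = Y a * (Y b * (j (xx c) ^ q * (j (xx l) * z))) := by
  obtain ⟨hr, hs, h1, h2, h3, rfl, rfl⟩ := hr
  obtain ⟨w, hw, rfl, rfl⟩ := orb2 (r := 29) (s := 41) (by omega) (by omega) hr hs
    (h1 ▸ by decide) (h2 ▸ by decide) (h3 ▸ by decide)
  obtain ⟨q, hq, k⟩ := base1 (hf.aut _) (h.tr hw)
    (c90' (h.tr hw) (tr ha hw) (by omega) (by omega) (by decide) (by decide) (by decide))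
  rw [jtr j hw (by omega), jtr j hw (by omega)] at k
  rw [(aw_ad hw 29 41 44 47).1, (aw_ad hw 29 41 44 47).2]
  exact ⟨q, hq, fun z => by rw [r1 (jsq j _) k, mul_assoc, mul_assoc]⟩

theorem base2 (hf : Fr j t) (h : Sy j t Y 1) (ha : RA j Y 1 ρ) :
    j (xx 30) * Y 33 * j (xx 30) = Y 33 * Y 37 * j (xx 41) ^ (1 - ρ) := by
  obtain ⟨q1, h1, R1⟩ := gen1 hf h ha 33 30 37 41
  obtain ⟨q2, h2, R2⟩ := gen1 hf h ha 36 30 40 47
  obtain ⟨q3, h3, R3⟩ := gen1 hf h ha 29 41 44 47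
  suffices q1 = 1 - ρ by simpa [jsq, mul_assoc, this] using R1 (j (xx 30))
  have k := (yx h 29 30 (z := Y 33 * 1)).symm
  rcases le1 ha.le with rfl | rfl <;> rcases le1 h1 with rfl | rfl <;> try rfl
  all_goals rcases le1 h2 with rfl | rfl <;> rcases le1 h3 with rfl | rfl
  all_goals
    simp only [pow_zero, pow_one, one_mul] at R1 R2 R3
    simp only [pow_zero, pow_one, one_mul, R1, R2, R3, y6 h ha 33 29 36, y6 h ha 37 29 40,
      y6 h ha 37 36 44, yc ha 29 36, yc ha 29 40, yo h ha 44 29, yc ha 44 36, yc ha 44 40, yo h ha 40 36,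
      x6 ha 37 36 44, yx h 29 36, xo h 40 36 47, yx h 44 36, yx h 36 36, yx h 29 40, yx h 44 40,
      yx h 40 40, xo h 36 40 47, xo h 29 44 47, yx h 36 44, yx h 40 44, yx h 44 44, yx h 36 41,
      yx h 40 41, yx h 44 41, yx h 29 47, yx h 36 47, yx h 40 47, yx h 44 47, yx h 40 30, yx h 29 30,
      yx h 44 30, ys h 44, mul_right_inj] at k
    first | refine (ny hf h 44 k ?_ ?_).elim | refine (ny hf h 44 k.symm ?_ ?_).elim
    all_goals repeat' first | exact one_mem _ | exact ⟨_, rfl⟩ | apply mul_mem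

set_option synthInstance.maxSize 4000 in
theorem tab2 : ∀ r < 48, ∀ s < 48, s ≠ r → s ≠ 47 - r → ad s r = ad r s ∧ ip s r = ip r s ∧
    (lg r = false → lg s = false → (ip r s = 6 ∧ ad r s < 48 ∧ lg (ad r s) = false ∧
        ip (ad r s) s = 10 ∧ ip s (ad r s) = 10 ∧ cm s (ad r s) = [] ∧ ad r s ≠ 47 - s) ∨
      (ip r s = 8 ∧ ad r s < 48 ∧ ip s (ad r s) = 12) ∨ ip r s = 10) ∧
    (lg r = false → lg s = true → (ip r s = 4 ∧ ad r s < 48 ∧ lg (ad r s) = false ∧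
        ip (ad r s) s = 12 ∧ ad (ad r s) r < 48 ∧ lg (ad (ad r s) r) = true ∧
        ip s (ad (ad r s) r) = 8 ∧ ad (ad r s) r ≠ 47 - s) ∨ ip r s = 8 ∨ ip r s = 12) := by
  decide +kernel

theorem mk0 (r : ℕ) : mkX j Y r 0 = 1 := by simp [mkX]
theorem mk1 (r : ℕ) : mkX j Y r 1 = j (xx r) := by simp [mkX]
theorem mk2 (r : ℕ) : mkX j Y r 2 = Y r := by simp [mkX]
theorem mk3 (r : ℕ) : mkX j Y r 3 = Y r * j (xx r) := by simp [mkX]

theorem mk_add {r c d : ℕ} (h1 : Y r * Y r = 1) (h2 : Y r * j (xx r) = j (xx r) * Y r) (hc : c < 4)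
    (hd : d < 4) : mkX j Y r c * mkX j Y r d = mkX j Y r (c ^^^ d) := by
  apply mul_right_cancel (b := (1 : G))
  interval_cases c <;> interval_cases d <;>
    simp only [Nat.reduceXor, mk0, mk1, mk2, mk3, one_mul, mul_assoc, js, sq h1, r0 h2.symm]

theorem mk_add2 {r c d : ℕ} (hc : c < 2) (hd : d < 2) :
    mkX j Y r c * mkX j Y r d = mkX j Y r (c ^^^ d) := by
  interval_cases c <;> interval_cases d <;> simp [mk0, mk1, jsq]

theorem ew0 {X : ℕ → ℕ → G} (h : ∀ r, X r 0 = 1) {w : List (ℕ × ℕ)} (hw : ∀ p ∈ w, p.2 = 0) :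
    ew X w = 1 := List.prod_eq_one fun g hg => by
  obtain ⟨p, hp, rfl⟩ := List.mem_map.1 hg
  rw [hw p hp, h]

theorem cw0 {ty r s c d : ℕ} (h : c = 0 ∨ d = 0) : ∀ p ∈ cw ty r s c d, p.2 = 0 := by
  rcases h with rfl | rfl <;> unfold cw <;> split_ifs <;> simp [mu, br]

theorem com0 {X : ℕ → ℕ → G} (h : ∀ r, X r 0 = 1) {ty r s c d : ℕ} (hc : c = 0 ∨ d = 0) :
    X s d * X r c = X r c * X s d * ew X (cw ty r s c d) := by
  rw [ew0 h (cw0 hc)]
  rcases hc with rfl | rfl <;> simp [h]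

theorem com1 {ty r s : ℕ} (hr : r < 48) (hs : s < 48) (h : s ≠ 47 - r) :
    mkX j Y s 1 * mkX j Y r 1 = mkX j Y r 1 * mkX j Y s 1 * ew (mkX j Y) (cw ty r s 1 1) := by
  rw [mk1, mk1, ← map_mul, xx_comm hr hs h, map_mul, map_mul]
  congr 1
  have m : mu ty 1 1 = 1 := by simp [mu]
  have b : br 1 = 1 := rfl
  unfold cw cm
  rw [b, m]
  split_ifs <;> simp_all [ew, mk0, mk1]

theorem mo_self : ∀ r < 48, Mo r r := by decide +kernel

section
variable {ty r s : ℕ}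

theorem cw6 (X : ℕ → ℕ → G) (h : ty < 2) (lr : lg r = false) (ls : lg s = false) (p : ip r s = 6)
    (c d : ℕ) : ew X (cw ty r s c d) = X (ad r s) (br (mu ty c d)) := by simp [ew, cw, lr, ls, p, h]

theorem cw8 (X : ℕ → ℕ → G) (h : ty < 2) (lr : lg r = false) (ls : lg s = false) (p : ip r s = 8)
    (c d : ℕ) : ew X (cw ty r s c d) = X (ad r s) (mu ty c (br d) ^^^ mu ty (br c) d) := by
  simp [ew, cw, lr, ls, p, h]

theorem cw10 (X : ℕ → ℕ → G) (lr : lg r = false) (ls : lg s = false) (p : ip r s = 10)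
    (c d : ℕ) : ew X (cw ty r s c d) = 1 := by simp [ew, cw, lr, ls, p]

theorem cwm (X : ℕ → ℕ → G) (l : lg r ≠ lg s) (p : ip r s = 8 ∨ ip r s = 12)
    (c d : ℕ) : ew X (cw ty r s c d) = 1 := by rcases p with p | p <;> simp [ew, cw, l, p]

theorem cwl (X : ℕ → ℕ → G) (h : ty < 2) (lr : lg r = true) (ls : lg s = false) (p : ip r s = 4)
    (c d : ℕ) : ew X (cw ty r s c d) = X (ad r s) (mu ty c d) *
      X (ad (ad r s) s) (mu ty c (mu ty d (br d))) := by simp [ew, cw, lr, ls, p, h]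

theorem cws (X : ℕ → ℕ → G) (h : ty < 2) (lr : lg r = false) (ls : lg s = true) (p : ip r s = 4)
    (c d : ℕ) : ew X (cw ty r s c d) = X (ad r s) (mu ty c d) *
      X (ad (ad r s) r) (mu ty d (mu ty c (br c))) := by simp [ew, cw, lr, ls, p, h]

theorem mus (h : ρ ≤ 1) : br (mu (1 - ρ) 2 1) = 3 ∧ br (mu (1 - ρ) 1 2) = 3 ∧ mu (1 - ρ) 2 1 = 2 ∧
    mu (1 - ρ) 1 2 = 2 ∧ mu (1 - ρ) 1 (mu (1 - ρ) 2 (br 2)) = 1 - ρ ∧
    mu (1 - ρ) 1 (br 2) ^^^ mu (1 - ρ) (br 1) 2 = 1 ∧ mu (1 - ρ) 2 (br 1) ^^^ mu (1 - ρ) (br 2) 1 = 1 ∧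
    mu (1 - ρ) 2 (br 2) ^^^ mu (1 - ρ) (br 2) 2 = 0 ∧ br (mu (1 - ρ) 2 2) = 2 + ρ := by
  rcases le1 h with rfl | rfl <;> decide

theorem mkp (h : ρ ≤ 1) (r : ℕ) :
    mkX j Y r (1 - ρ) = j (xx r) ^ (1 - ρ) ∧ mkX j Y r (2 + ρ) = Y r * j (xx r) ^ ρ := by
  rcases le1 h with rfl | rfl <;> simp [mk0, mk1, mk2, mk3]

theorem xxc (j : L0 →* G) (hr : r < 48) (hs : s < 48) (h : s ≠ 47 - r) (k : cm r s = []) :
    Commute (j (xx s)) (j (xx r)) := by
  rw [Commute, SemiconjBy, ← map_mul, xx_comm hr hs h, k]; simp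

theorem mo (h : 8 < ip r s ∨ (ip r s = 8 ∧ lg s ≠ lg r)) : Mo r s := h

theorem com12 (h : Sy j t Y 1) (ha : RA j Y 1 ρ) (hr : r < 48) (hs : s < 48) (n1 : s ≠ r)
    (n2 : s ≠ 47 - r) (ls : lg s = false) (x : lg r = true → ip s r = 4 →
      j (xx r) * Y s * j (xx r) = Y s * Y (ad s r) * j (xx (ad (ad s r) s)) ^ (1 - ρ)) :
    mkX j Y s 2 * mkX j Y r 1 = mkX j Y r 1 * mkX j Y s 2 * ew (mkX j Y) (cw (1 - ρ) r s 1 2) := by
  obtain ⟨e1, e2, k1, -⟩ := tab2 r hr s hs n1 n2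
  have k2 := (tab2 s hs r hr n1.symm (by omega)).2.2.2 ls
  have ty : 1 - ρ < 2 := by omega
  obtain ⟨m1, m2, m3, m4, m5, m6, m7, m8, m9⟩ := mus ha.le
  rw [mk1, mk2]
  apply mul_right_cancel (b := (1 : G))
  cases lr : lg r
  · rcases k1 lr ls with ⟨p, -⟩ | ⟨p, q1, q2⟩ | p
    · rw [cw6 _ ty lr ls p, m2, mk3, mul_assoc, r2 (jsq j r) (ha.x120 s hs r hr ls lr (e2.trans p)), e1]
      simp only [mul_assoc, pow_one]
    · rw [cw8 _ ty lr ls p, m6, mk1, mul_assoc, r1 (h.sq s hs ls) (h.or s hs ls r hr lr (e2.trans p)), e1]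
      simp only [mul_assoc, pow_one, r0 (h.cm s hs ls _ q1 (mo (.inl (by omega))))]
    · rw [cw10 _ lr ls p, h.cm s hs ls r hr (mo (.inl (by omega))), mul_one, mul_one]
  · rcases k2 lr with ⟨p, -⟩ | p
    · rw [cwl _ ty lr ls (e2 ▸ p), m4, m5, mk2, (mkp ha.le _).1, mul_assoc, r2 (jsq j r) (x lr p), e1]
      simp only [mul_assoc]
    · rw [cwm _ (by simp [lr, ls]) (e2 ▸ p), h.cm s hs ls r hr (mo (p.symm.imp (by omega)
        fun k => ⟨k, by simp [lr, ls]⟩)), mul_one, mul_one]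

theorem com21 (h : Sy j t Y 1) (ha : RA j Y 1 ρ) (hr : r < 48) (hs : s < 48) (n1 : s ≠ r)
    (n2 : s ≠ 47 - r) (lr : lg r = false) (x : lg s = true → ip r s = 4 →
      j (xx s) * Y r * j (xx s) = Y r * Y (ad r s) * j (xx (ad (ad r s) r)) ^ (1 - ρ)) :
    mkX j Y s 1 * mkX j Y r 2 = mkX j Y r 2 * mkX j Y s 1 * ew (mkX j Y) (cw (1 - ρ) r s 2 1) := by
  obtain ⟨-, -, k1, k2⟩ := tab2 r hr s hs n1 n2
  have ty : 1 - ρ < 2 := by omega
  obtain ⟨m1, m2, m3, m4, m5, m6, m7, m8, m9⟩ := mus ha.le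
  rw [mk1, mk2]
  apply mul_right_cancel (b := (1 : G))
  cases ls : lg s
  · rcases k1 lr ls with ⟨p, q1, q2, q3, -, q5, q6⟩ | ⟨p, -⟩ | p
    · rw [cw6 _ ty lr ls p, m1, mk3, mul_assoc, r1 (jsq j s) (ha.x120 r hr s hs lr ls p)]
      simp only [mul_assoc, pow_one, r0 (xxc j hs q1 q6 q5).eq,
        r0 (h.cm _ q1 q2 s hs (mo (.inl (by omega))))]
    · rw [cw8 _ ty lr ls p, m7, mk1, mul_assoc, r2 (h.sq r hr lr) (h.or r hr lr s hs ls p)]
      simp only [mul_assoc, pow_one]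
    · rw [cw10 _ lr ls p, h.cm r hr lr s hs (mo (.inl (by omega))), mul_one, mul_one]
  · rcases k2 lr ls with ⟨p, q1, q2, q3, q4, q5, q6, q7⟩ | p
    · rw [cws _ ty lr ls p, m3, m5, mk2, (mkp ha.le _).1, mul_assoc, r1 (jsq j s) (x ls p)]
      simp only [mul_assoc, r0 ((xxc j hs q4 q7 (by simp [cm, ls, q5, q6])).pow_left _).eq,
        r0 (h.cm _ q1 q2 s hs (mo (.inl (by omega))))]
    · rw [cwm _ (by simp [lr, ls]) p, h.cm r hr lr s hs (mo (p.symm.imp (by omega)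
        fun k => ⟨k, by simp [lr, ls]⟩)), mul_one, mul_one]

theorem com22 (h : Sy j t Y 1) (ha : RA j Y 1 ρ) (hr : r < 48) (hs : s < 48) (n1 : s ≠ r)
    (n2 : s ≠ 47 - r) (lr : lg r = false) (ls : lg s = false) :
    mkX j Y s 2 * mkX j Y r 2 = mkX j Y r 2 * mkX j Y s 2 * ew (mkX j Y) (cw (1 - ρ) r s 2 2) := by
  obtain ⟨-, -, k1, -⟩ := tab2 r hr s hs n1 n2
  have ty : 1 - ρ < 2 := by omega
  obtain ⟨m1, m2, m3, m4, m5, m6, m7, m8, m9⟩ := mus ha.le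
  rw [mk2, mk2]
  rcases k1 lr ls with ⟨p, q1, q2, q3, q4, -⟩ | ⟨p, -⟩ | p
  · apply mul_right_cancel (b := (1 : G))
    rw [cw6 _ ty lr ls p, m9, (mkp ha.le _).2, mul_assoc, r1 (h.sq s hs ls) (ha.y120 r hr s hs lr ls p)]
    simp only [mul_assoc, r0 (ha.c60 _ q1 s hs q2 ls q3),
      r0 (Commute.pow_left (h.cm s hs ls _ q1 (mo (.inl (by omega)))).symm _).eq]
  · rw [cw8 _ ty lr ls p, m8, mk0, mul_one, c90' h ha hr hs lr ls p]
  · rw [cw10 _ lr ls p, mul_one, ha.c60 r hr s hs lr ls p]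

end

end RB

open RB

/-- PROOF (both `e`, no pinning).  Put `y₄₀ y₃₆ y₄₀ = y₃₆ κ`.  Conjugate `y₁₄ y₃₆ y₁₄ = y₃₆ y₂₉ x₂₉^ρ` (y120) by `x₄₄`: `y₃₆, x₂₉` are fixed,
`y₁₄ ↦ y₁₄ y₄₀ x₄₀^e` (x120), `y₂₉ ↦ y₂₉ x₄₇^e` (or).  The left side becomes `y₁₄ y₃₆ κ x₄₇^e y₁₄` (`x₄₀ y₃₆ x₄₀ = y₃₆ x₄₇^e`; `x₄₇` commutes with
`y₁₄, y₄₀`; `x₄₀` with `y₁₄, y₄₀`), so `κ = 1`.  Transport: ind2 with wn (the factors `x^e` cancel by or), or Sy.tr (RA transports too). -/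
theorem RA.c90 (hf : Fr j t) (h : Sy j t Y e) (ha : RA j Y e ρ) {r s : ℕ} (hr : r < 48) (hs : s < 48)
    (h1 : lg r = false) (h2 : lg s = false) (h3 : ip r s = 8) : Y r * Y s = Y s * Y r :=
  c90' h ha hr hs h1 h2 h3

/-- PROOF.  `x₄₁ y₂₉ x₄₁` and `y₂₉ y₄₄` both send `t` to `t x₂₉ x₄₄ x₄₇`, so `x₄₁ y₂₉ x₄₁ = y₂₉ y₄₄ k`, `k` pinned by cU; `k` commutes with `x₂₉`; the left side is an involution:
`k = (x₂₉ x₄₄)^p x₄₇^q`; applying `x₄₁` twice: `p = 0`.  So `y_a^{x_l} = y_a y_{a+l} x_{2a+l}^q` with `q = q(a, l)` for all pairs.  Conjugate `y₂₉ y₃₃ y₂₉ = y₃₃ y₃₆ x₃₆^ρ` by `x₃₀` (it commutes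
with `y₂₉`; `33 + 30 = 37`, `36 + 30 = 40`, `33 + 37 = 41`, `36 + 40 = 47`, `36 + 37 = 44`): comparing the exponent of `y₄₄` (`y₄₄ ∉ C(t)`) gives `q(33, 30) = 1 + ρ`. -/
theorem RA.x135 (hf : Fr j t) (h : Sy j t Y 1) (ha : RA j Y 1 ρ) {a l : ℕ} (hr : a < 48) (hs : l < 48)
    (h1 : lg a = false) (h2 : lg l = true) (h3 : ip a l = 4) :
    j (xx l) * Y a * j (xx l) = Y a * Y (ad a l) * j (xx (ad (ad a l) a)) ^ (1 - ρ) := by
  obtain ⟨w, hw, rfl, rfl⟩ := orb2 (r := 33) (s := 30) (by omega) (by omega) hr hs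
    (h1 ▸ by decide) (h2 ▸ by decide) (h3 ▸ by decide)
  have k := base2 (hf.aut _) (h.tr hw) (tr ha hw)
  rw [jtr j hw (by omega), jtr j hw (by omega)] at k
  rwa [(aw_ad hw 33 30 37 41).1, (aw_ad hw 33 30 37 41).2]

/-- PROOF.  `ty = 1 - ρ`, `X = mkX j Y`.  zero, add (`y_r` commutes with `x_r`: Mo r r), and `com` for `c, d ∈ {0,1,2}` by cases on `lg r, lg s, ip r s` (values: short-short `6, 8, 10`,
long-long `4, 8, 12`, mixed `4, 8, 12`; by decide) from xx_comm, Sy.cm/or, RA, c90, x135.  tc from ct. -/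
theorem Sy.lg_one (hf : Fr j t) (h : Sy j t Y 1) : ∃ ty < 2, Lg ty (mkX j Y) := by
  obtain ⟨ρ, ha⟩ := h.ra hf
  have ty : 1 - ρ < 2 := by omega
  have z : ∀ r c, c < sz (1 - ρ) r → c < 2 ∨ (lg r = false ∧ c < 4) := fun r c hc => by
    unfold sz at hc
    split_ifs at hc with k
    · exact .inl hc
    · exact .inr ⟨by simpa [ty] using k, hc⟩
  refine ⟨1 - ρ, ty, mk0, fun r hr c hc d hd => ?_, fun r hr s hs n1 n2 c hc d hd c3 d3 => ?_⟩
  · by_cases k : lg r = false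
    · exact mk_add (h.sq r hr k) (h.cm r hr k r hr (mo_self r hr))
        (by have := z r c hc; omega) (by have := z r d hd; omega)
    · exact mk_add2 ((z r c hc).resolve_right fun a => k a.1) ((z r d hd).resolve_right fun a => k a.1)
  by_cases h0 : c = 0 ∨ d = 0
  · exact com0 mk0 h0
  have z2 : ∀ r c, c < sz (1 - ρ) r → c ≠ 0 → c ≠ 3 → c = 1 ∨ (c = 2 ∧ lg r = false) :=
    fun r c hc k0 k3 => (z r c hc).elim (fun _ => .inl (by omega)) fun a =>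
      (show c = 1 ∨ c = 2 by omega).imp_right fun k => ⟨k, a.1⟩
  rcases z2 r c hc (fun k => h0 (.inl k)) c3 with rfl | ⟨rfl, lr⟩ <;>
    rcases z2 s d hd (fun k => h0 (.inr k)) d3 with rfl | ⟨rfl, ls⟩
  · exact com1 hr hs n2
  · exact com12 h ha hr hs n1 n2 ls fun k1 k2 => ha.x135 hf h hs hr ls k1 k2
  · exact com21 h ha hr hs n1 n2 lr fun k1 k2 => ha.x135 hf h hr hs lr k1 k2
  · exact com22 h ha hr hs n1 n2 lr ls

/-- PROOF.  `y₄₄ y₂₉ x₄₁ y₂₉ x₄₁` conjugates `t` to `t x₄₇` (innermost first: `t ↦ t ↦ t x₂₉ ↦ t x₂₉x₄₄x₄₇ ↦ t x₄₄ x₄₇ ↦ t x₄₇`). -/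
theorem Sy.conj_zero (hf : Fr j t) (h : Sy j t Y 0) : IsConj t (t * j (xx 47)) := by
  refine (isConj_iff.2 ⟨Y 44 * (Y 29 * (j (xx 41) * (Y 29 * j (xx 41)))), ?_⟩).symm
  rw [mul_inv_eq_iff_eq_mul]
  simpa [mul_assoc] using (kt hf h 1).symm

end Cfsg.Agent.F42S
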