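import Cfsg.Agent.F42S.RelB

/-! A collection calculus for words in the `x_r`, the doubled root elements `z_r` of both lengths, and `t`. -/

set_option autoImplicit false

namespace Cfsg.Agent.F42S.RC

open Cfsg Cfsg.Agent.Comp Subgroup RH
open Cfsg.Agent.WG (el el_nil el_cons el_append)
open List (replicate)

/-- The letters. -/
inductive Lt
  | x (r : ℕ)
  | z (r : ℕ)
  | t
  deriving DecidableEq

open Lt

/-- Tables of conjugation rules: `C a b = some w` says `b a b = w`. -/
abbrev Tb := Lt → Lt → Option (List Lt)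

variable {G : Type*} [Group G] {j : L0 →* G} {L : Lt → G} {C C' : Tb}

/-- The value of a word. -/
def ev (L : Lt → G) (w : List Lt) : G := (w.map L).prod

@[simp] theorem ev_nil : ev L [] = 1 := rfl
@[simp] theorem ev_cons (a : Lt) (u : List Lt) : ev L (a :: u) = L a * ev L u := by simp [ev]
@[simp] theorem ev_app (u v : List Lt) : ev L (u ++ v) = ev L u * ev L v := by simp [ev]
@[simp] theorem ev_rep (k : ℕ) (a : Lt) : ev L (replicate k a) = L a ^ k := by simp [ev]

/-- The table is valid. -/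
structure Ok (j : L0 →* G) (L : Lt → G) (C : Tb) : Prop where
  inj : Function.Injective j
  hx : ∀ r, L (x r) = j (xx r)
  sq : ∀ a, L a * L a = 1
  cj : ∀ a b w, C a b = some w → L b * L a * L b = ev L w

/-- Collection. -/
def col (C : Tb) (f : Lt → ℕ) : ℕ → List Lt → List Lt → List Lt
  | 0, d, w => d.reverse ++ w
  | _ + 1, d, [] => d.reverse
  | n + 1, [], b :: w => col C f n [b] w
  | n + 1, a :: d, b :: w => if a = b then col C f n d w else if f b < f a then
      match C a b with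
      | some u => col C f n d (b :: (u ++ w))
      | none => match C b a with
        | some u => col C f n d (u ++ a :: w)
        | none => col C f n (b :: a :: d) w
    else col C f n (b :: a :: d) w

/-- The order of the letters. -/
def rk (o : List (Lt × ℕ)) (a : Lt) : ℕ := (o.lookup a).getD
  (match a with | x r => 300 + r | z r => 100 + r | t => 200)

/-- The collected form. -/
def nf (C : Tb) (o : List (Lt × ℕ)) (w : List Lt) : List Lt := col C (rk o) 999 [] w

/-- The root of a letter. -/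
def rt : Lt → ℕ | x r => r | z r => r | t => 0

/-- A nontrivial word in the `x_r`. -/
noncomputable def xbad (n : List Lt) : Bool := decide (n = (n.map rt).map x) && !Q (n.map rt) []

/-- `u ≠ v` is visible. -/
noncomputable def bad (C : Tb) (o : List (Lt × ℕ)) (u v : List Lt) : Bool :=
  xbad (nf C o (u ++ v.reverse)) ||
    xbad (nf C o (t :: nf C o (u ++ v.reverse) ++ t :: (nf C o (u ++ v.reverse)).reverse))

/-- `k` commutes with `g`. -/
def cmu (C : Tb) (o : List (Lt × ℕ)) (k : List Lt) (g : Lt) : Prop :=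
  nf C ((g, 1000) :: o) (k ++ [g]) = nf C ((g, 1000) :: o) (g :: k)

instance (C : Tb) (o : List (Lt × ℕ)) (k : List Lt) (g : Lt) : Decidable (cmu C o k g) :=
  inferInstanceAs (Decidable (_ = _))

/-- Union of tables. -/
def alt (C C' : Tb) : Tb := fun a b => match C a b with | some w => some w | none => C' a b

/-- One rule. -/
def one (a b : Lt) (w : List Lt) : Tb := fun a' b' => if a' = a ∧ b' = b then some w else none

/-- A short and a long root. -/
def Mx (r l n : ℕ) : Prop := lg r = false ∧ lg l = true ∧ r < 48 ∧ l < 48 ∧ ip r l = n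

instance (r l n : ℕ) : Decidable (Mx r l n) := inferInstanceAs (Decidable (_ ∧ _))

/-- The rules for an orbit of mixed pairs. -/
def mx (cb : ℕ → Lt) (n : ℕ) (W : ℕ → ℕ → List Lt) : Tb := fun a b =>
  if a = z (rt a) ∧ b = cb (rt b) ∧ Mx (rt a) (rt b) n then some (W (rt a) (rt b)) else none

namespace Ok

variable (h : Ok j L C)
include h

theorem ev_rev (w : List Lt) : ev L w.reverse = (ev L w)⁻¹ := by
  induction w with
  | nil => simp
  | cons a w ih => simp [ih, inv_eq_of_mul_eq_one_right (h.sq a)]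

theorem ev_x (w : List ℕ) : ev L (w.map x) = j (el xx w) := by
  induction w with
  | nil => simp
  | cons a w ih => simp [ih, h.hx]

theorem ev_col (f : Lt → ℕ) (n : ℕ) (d w : List Lt) :
    ev L (col C f n d w) = ev L d.reverse * ev L w := by
  have s := fun a => (rp (h.sq a)).2
  fun_induction col C f n d w with
  | case1 => simp
  | case2 => simp
  | case3 _ _ _ ih => simp [ih]
  | case4 _ _ _ _ ih => simp [ih, mul_assoc, s]
  | case5 _ a _ b _ _ _ u e ih => simp [ih, ← h.cj a b u e, mul_assoc, s]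
  | case6 _ a _ b _ _ _ _ u e ih => simp [ih, ← h.cj b a u e, mul_assoc, s]
  | case7 _ _ _ _ _ _ _ _ _ ih => simp [ih, mul_assoc]
  | case8 _ _ _ _ _ _ _ ih => simp [ih, mul_assoc]

theorem ev_nf (o : List (Lt × ℕ)) (w : List Lt) : ev L (nf C o w) = ev L w := by
  simp [nf, h.ev_col]

theorem eq (o : List (Lt × ℕ)) {u v : List Lt} (e : nf C o u = nf C o v) : ev L u = ev L v := by
  rw [← h.ev_nf o u, e, h.ev_nf]

theorem sub (o : List (Lt × ℕ)) {u v u' v' : List Lt} (e : ev L u = ev L v) (p q : List Lt)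
    (k : nf C o u' = nf C o (p ++ u ++ q) ∧ nf C o (p ++ v ++ q) = nf C o v') : ev L u' = ev L v' := by
  rw [h.eq o k.1, ← h.eq o k.2]; simp [e]

theorem nxbad {n : List Lt} (e : ev L n = 1) : xbad n = false := by
  by_contra k
  simp only [xbad, Bool.not_eq_false, Bool.and_eq_true, decide_eq_true_eq, Bool.not_eq_true'] at k
  rw [k.1, h.ev_x, ← map_one j] at e
  exact Q_ne k.2 (h.inj e)

theorem nbad (o : List (Lt × ℕ)) {u v : List Lt} (e : ev L u = ev L v) : bad C o u v = false := by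
  have k : ev L (nf C o (u ++ v.reverse)) = 1 := by rw [h.ev_nf, ev_app, h.ev_rev, e, mul_inv_cancel]
  rw [bad, h.nxbad k, h.nxbad (by simp [h.ev_nf, h.ev_rev, e, h.sq])]; rfl

theorem cm {o : List (Lt × ℕ)} {k : List Lt} {g : Lt} (e : cmu C o k g) :
    ev L k * L g = L g * ev L k := by simpa using h.eq _ e

theorem alt (h' : ∀ a b w, C' a b = some w → L b * L a * L b = ev L w) : Ok j L (alt C C') :=
  ⟨h.inj, h.hx, h.sq, fun a b w e => by
    unfold RC.alt at e
    split at e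
    · exact h.cj a b w (by simp_all)
    · exact h' a b w e⟩

theorem one {a b : Lt} {w : List Lt} (e : ev L [b, a, b] = ev L w) : Ok j L (RC.alt (one a b w) C) :=
  Ok.alt ⟨h.inj, h.hx, h.sq, fun a' b' w' k => by
    unfold RC.one at k
    split_ifs at k with k1
    obtain ⟨rfl, rfl⟩ := k1
    simpa [← Option.some.inj k, mul_assoc] using e⟩ h.cj

theorem mx {cb : ℕ → Lt} {n : ℕ} {W : ℕ → ℕ → List Lt}
    (e : ∀ r l, Mx r l n → ev L [cb l, z r, cb l] = ev L (W r l)) : Ok j L (RC.alt C (mx cb n W)) :=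
  h.alt fun a b w k => by
    unfold RC.mx at k
    split_ifs at k with k1
    have := e _ _ k1.2.2
    rw [← k1.1, ← k1.2.1] at this
    simpa [← Option.some.inj k, mul_assoc] using this

end Ok

/-- `t^i x^m` -/
noncomputable def kap (l : List ℕ) (i m : ℕ) : List Lt := replicate i t ++ (bw l m).map x

/-- `x₄₄^p x₄₇^q` -/
def w47 (p q : ℕ) : List Lt := replicate p (x 44) ++ replicate q (x 47)

/-- The checks of a pinning argument. -/
def PG (C : Tb) (l s : List ℕ) (N : ℕ) (A : List Lt) (a b : Lt) (o : List (Lt × ℕ)) (T : List Lt) : Prop :=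
  (∃ r ∈ s, r < 48) ∧ (∀ g ∈ t :: s.map x ++ T, cmu C o (A.reverse ++ [b, a, b]) g) ∧ ∀ i < 2, ∀ m < N,
    (∃ g ∈ T, bad C [] (kap l i m ++ [g]) (g :: kap l i m) = true) ∨
    bad (alt (one a b (A ++ kap l i m)) C) [(b, 1000)] (b :: (A ++ kap l i m) ++ [b]) [a] = true ∨
    ∃ p < 2, ∃ q < 2, kap l i m = w47 p q

noncomputable instance (C : Tb) (l s : List ℕ) (N : ℕ) (A : List Lt) (a b : Lt) (o : List (Lt × ℕ))
    (T : List Lt) : Decidable (PG C l s N A a b o T) := inferInstanceAs (Decidable (_ ∧ _))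

theorem Ok.pin0 (h : Ok j L C) (hf : Fr j (L t)) {s : List ℕ} {k : List Lt} {o : List (Lt × ℕ)}
    (h1 : ∃ r ∈ s, r < 48) (h2 : ∀ g ∈ t :: s.map x, cmu C o k g) :
    ∃ a, (∀ r ∈ s, a * xx r = xx r * a) ∧ ∃ i < 2, ev L k = L t ^ i * j a := by
  obtain ⟨a, k1, k2⟩ := hf.pin (h.cm (h2 t (by simp))) h1 fun r hr => by
    rw [← h.hx]; exact h.cm (h2 _ (by simp [hr]))
  exact ⟨a, k1, k2.elim (fun e => ⟨0, by omega, by simp [e]⟩) fun e => ⟨1, by omega, by simp [e]⟩⟩

theorem Ok.pin (h : Ok j L C) (hf : Fr j (L t)) {l s : List ℕ} {N : ℕ} {A T : List Lt} {a b : Lt}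
    (hc : ∀ {g : L0}, (∀ r ∈ s, g * xx r = xx r * g) → ∃ m < N, g = el xx (bw l m))
    (o : List (Lt × ℕ)) (k : PG C l s N A a b o T) :
    ∃ p < 2, ∃ q < 2, ev L [b, a, b] = ev L (A ++ w47 p q) := by
  obtain ⟨g, k1, i, hi, e⟩ := h.pin0 hf k.1 fun g hg => k.2.1 g (List.mem_append_left _ hg)
  obtain ⟨m, hm, rfl⟩ := hc k1
  rw [← h.ev_x, ← ev_rep, ← ev_app, ← kap] at e
  have e1 : ev L [b, a, b] = ev L (A ++ kap l i m) := by
    rw [ev_app, ← e, ev_app, h.ev_rev, mul_inv_cancel_left]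
  rcases k.2.2 i hi m hm with ⟨g, hg, k2⟩ | k2 | ⟨p, hp, q, hq, k2⟩
  · rw [h.nbad _ (by simpa [← e] using h.cm (k.2.1 g (List.mem_append_right _ hg)))] at k2
    cases k2
  · rw [(h.one e1).nbad _ (by
      rw [List.cons_append, ev_cons, ev_app, ← e1]; simp [mul_assoc, rp (h.sq b)])] at k2
    cases k2
  · exact ⟨p, hp, q, hq, k2 ▸ e1⟩

variable {τ : G} {Y Y' : ℕ → G} {e e' ρ ρ' : ℕ}

/-- The values of the letters. -/
noncomputable def lv (j : L0 →* G) (τ : G) (Y Y' : ℕ → G) : Lt → G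
  | x r => j (xx r)
  | z r => if r < 48 then (if lg r then Y' (gm r) else Y r) else 1
  | t => τ

/-- The graph symmetry on letters. -/
def du : Lt → Lt
  | x r => x (if r < 48 then gm r else r)
  | z r => z (if r < 48 then gm r else r)
  | t => t

/-- The dual table. -/
def dl (C : Tb) : Tb := fun a b => (C (du a) (du b)).map (List.map du)

@[simp] theorem lx (r : ℕ) : lv j τ Y Y' (x r) = j (xx r) := rfl

@[simp] theorem lt' : lv j τ Y Y' t = τ := rfl

theorem zs {r : ℕ} (hr : r < 48) (h : lg r = false) : lv j τ Y Y' (z r) = Y r := by simp [lv, hr, h]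

theorem zl {r : ℕ} (hr : r < 48) (h : lg r = true) : lv j τ Y Y' (z r) = Y' (gm r) := by simp [lv, hr, h]

theorem du_du (a : Lt) : du (du a) = a := by
  rcases a with r | r | _ <;> try rfl
  all_goals by_cases hr : r < 48 <;> simp [du, hr, tab_gm r]

theorem lv_du (a : Lt) : lv (j.comp gam) τ Y' Y a = lv j τ Y Y' (du a) := by
  rcases a with r | r | _ <;> try rfl
  · by_cases hr : r < 48 <;> simp [du, lv, hr, gam_xx]
    rw [xx_ge (not_lt.1 hr), map_one]
  · by_cases hr : r < 48 <;> simp [du, lv, hr, tab_gm r]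
    cases lg r <;> simp

theorem ev_du (w : List Lt) : ev (lv (j.comp gam) τ Y' Y) w = ev (lv j τ Y Y') (w.map du) := by
  induction w with
  | nil => rfl
  | cons a w ih => simp [ih, lv_du]

theorem Ok.dl (h : Ok j (lv j τ Y Y') C) (h' : Ok (j.comp gam) (lv (j.comp gam) τ Y' Y) C') :
    Ok j (lv j τ Y Y') (RC.alt C (dl C')) := h.alt fun a b w k => by
  obtain ⟨u, k1, rfl⟩ := Option.map_eq_some_iff.1 k
  simpa only [lv_du, du_du, ev_du] using h'.cj _ _ u k1

/-- The relations of one frame. -/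
def C0 (e ρ : ℕ) : Tb
  | x s, x r => if r < 48 ∧ s < 48 ∧ s ≠ 47 - r then some (x s :: (cm r s).map x) else none
  | t, x _ => some [t]
  | t, z r => if lg r = false ∧ r < 48 then some [t, x r] else none
  | x s, z r => if lg r = false ∧ r < 48 ∧ s < 48 then (if Mo r s then some [x s] else
      if ip r s = 8 then some (x s :: replicate e (x (ad r s))) else none) else none
  | z r, x s => if lg r = false ∧ lg s = false ∧ r < 48 ∧ s < 48 ∧ ip r s = 6 then
      some (z r :: z (ad r s) :: replicate e (x (ad r s))) else none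
  | z r, z s => if lg r = false ∧ lg s = false ∧ r < 48 ∧ s < 48 then
      (if ip r s = 8 ∨ ip r s = 10 then some [z r] else
        if ip r s = 6 then some (z r :: z (ad r s) :: replicate ρ (x (ad r s))) else none) else none
  | _, _ => none

/-- Both lengths are doubled. -/
structure Db (j : L0 →* G) (τ : G) (Y Y' : ℕ → G) (e e' ρ ρ' : ℕ) : Prop where
  fr : Fr j τ
  s : Sy j τ Y e
  s' : Sy (j.comp gam) τ Y' e'
  a : RA j Y e ρ
  a' : RA (j.comp gam) Y' e' ρ'

theorem gg (j : L0 →* G) : (j.comp gam).comp gam = j := MonoidHom.ext fun a => congrArg j (gam_gam a)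

/-- The conjugate of a letter by `n_i`. -/
def si (e e' i : ℕ) : Lt → List Lt
  | x r => [x (if r < 48 then sr i r else r)]
  | z r => z (if r < 48 then sr i r else r) :: replicate
      (if lg r then (if 3 - i < 2 then e' else 0) else if i < 2 then e else 0) (x (if r < 48 then sr i r else r))
  | t => [t]

namespace Db

variable (D : Db j τ Y Y' e e' ρ ρ')
include D

theorem dual : Db (j.comp gam) τ Y' Y e' e ρ' ρ :=
  ⟨D.fr.dual, D.s', (gg j).symm ▸ D.s, D.a', (gg j).symm ▸ D.a⟩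

theorem dec {P : ℕ → ℕ → ℕ → ℕ → Prop} (h : ∀ e < 2, ∀ e' < 2, ∀ ρ < 2, ∀ ρ' < 2, P e e' ρ ρ') :
    P e e' ρ ρ' := h _ (Nat.lt_succ_of_le D.s.le) _ (Nat.lt_succ_of_le D.s'.le) _
  (Nat.lt_succ_of_le D.a.le) _ (Nat.lt_succ_of_le D.a'.le)

theorem ok0 : Ok j (lv j τ Y Y') (C0 e ρ) := by
  refine ⟨D.fr.inj, fun _ => rfl, fun a => ?_, fun a b w k => ?_⟩
  · rcases a with r | r | _
    · exact x2 j r
    · by_cases hr : r < 48
      · cases k : lg r
        · rw [zs hr k]; exact D.s.sq r hr k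
        · rw [zl hr k]; exact D.s'.sq _ (tab_gm r hr).1 (by rw [(tab_gm r hr).2.2.1, k]; rfl)
      · simp [lv, hr]
    · exact D.fr.tt
  have c : ∀ {a b : G}, b * b = 1 → b * a = a * b → b * a * b = a := fun h1 h2 => by
    rw [h2, mul_assoc, h1, mul_one]
  rcases a with s | r | _ <;> rcases b with r' | s' | _ <;> simp only [C0, reduceCtorEq] at k
  · split_ifs at k with k1
    have : ∀ w : List ℕ, ev (lv j τ Y Y') (w.map x) = j (el xx w) := fun w => by
      induction w <;> simp_all [lv]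
    rw [← Option.some.inj k, ev_cons, this]
    simp only [lv, ← map_mul, xx_conj k1.1 k1.2.1 k1.2.2]
  · split_ifs at k with k1 k2 k3 <;> rw [← Option.some.inj k, zs k1.2.1 k1.1]
    · simpa [lv] using c (D.s.sq _ k1.2.1 k1.1) (D.s.cm _ k1.2.1 k1.1 _ k1.2.2 k2)
    · simpa [lv] using D.s.or _ k1.2.1 k1.1 _ k1.2.2
        (by by_contra k4; exact k2 (.inr ⟨k3, by rwa [k1.1]⟩)) k3
  · split_ifs at k with k1
    obtain ⟨p1, p2, p3, p4, p5⟩ := k1
    have := tab6 _ p3 _ p4 p1 p2 p5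
    simpa [← Option.some.inj k, zs p3 p1, zs this.1 this.2.1, mul_assoc] using D.a.x120 _ p3 _ p4 p1 p2 p5
  · split_ifs at k with k1 k2 k3 <;> obtain ⟨p1, p2, p3, p4⟩ := k1
    · simp only [← Option.some.inj k, zs p3 p1, zs p4 p2, ev_cons, ev_nil, mul_one]
      exact c (D.s.sq _ p4 p2) (k2.elim (D.a.c90 D.fr D.s p3 p4 p1 p2) (D.a.c60 _ p3 _ p4 p1 p2)).symm
    · have := tab6 _ p3 _ p4 p1 p2 k3
      simpa [← Option.some.inj k, zs p3 p1, zs p4 p2, zs this.1 this.2.1, mul_assoc] using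
        D.a.y120 _ p3 _ p4 p1 p2 k3
  · simpa [← Option.some.inj k, lv] using c (x2 j _) (D.fr.tj _).symm
  · split_ifs at k with k1
    simpa [← Option.some.inj k, zs k1.2 k1.1] using D.s.ct _ k1.2 k1.1

theorem ok1 : Ok j (lv j τ Y Y') (alt (C0 e ρ) (dl (C0 e' ρ'))) := D.ok0.dl D.dual.ok0

theorem wn {i : ℕ} (hi : i < 4) (a : Lt) : MulAut.conj (j (el xx (nr (sm i)))) (lv j τ Y Y' a) =
    ev (lv j τ Y Y') (si e e' i a) := by
  rcases a with r | r | _
  · by_cases hr : r < 48
    · simpa [si, hr, lv] using wnx j hi hr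
    · simp [si, hr, lv, xx_ge (not_lt.1 hr)]
  · by_cases hr : r < 48
    · have ta := tab_sr i hi r hr
      have tg := tab_gm r hr
      cases k : lg r
      · simpa [si, hr, k, zs hr k, zs ta.1 (ta.2.2.1.trans k)] using wn0 D.s hi hr k
      · have k1 := wn0 D.s' (i := 3 - i) (by omega) tg.1 (by rw [tg.2.2.1, k]; rfl)
        have k2 : ∀ i < 4, (∀ a ∈ nr (sm (3 - i)), a < 48) ∧ (nr (sm (3 - i))).map gm = nr (sm i) := by
          decide +kernel
        rw [MonoidHom.comp_apply, MonoidHom.comp_apply, gam_el (k2 i hi).1, (k2 i hi).2,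
          ← tg.2.2.2.2.2 i hi, gam_xx (tab_gm _ ta.1).1, (tab_gm _ ta.1).2.1] at k1
        simpa [si, hr, k, zl hr k, zl ta.1 (ta.2.2.1.trans k)] using k1
    · simp [si, hr, lv, xx_ge (not_lt.1 hr)]
  · simp [si, lv, ← D.fr.tj]

theorem wev {i : ℕ} (hi : i < 4) {u v : List Lt} (h : ev (lv j τ Y Y') u = ev (lv j τ Y Y') v) :
    ev (lv j τ Y Y') (u.flatMap (si e e' i)) = ev (lv j τ Y Y') (v.flatMap (si e e' i)) := by
  have : ∀ w : List Lt, ev (lv j τ Y Y') (w.flatMap (si e e' i)) =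
      MulAut.conj (j (el xx (nr (sm i)))) (ev (lv j τ Y Y') w) := fun w => by
    induction w with
    | nil => simp
    | cons a w ih => rw [List.flatMap_cons, ev_app, ih, ev_cons, map_mul, D.wn hi]
  rw [this, this, h]

end Db

/-- The checks of a transport argument. -/
def TR (C : Tb) (e e' N : ℕ) (cb : ℕ → Lt) (n : ℕ) (W : ℕ → ℕ → List Lt) (a l : ℕ) (w : List Lt) : Prop :=
  Mx a l n ∧ w = W a l ∧ ∀ r < 48, ∀ s < 48, Mx r s n → ∀ i < 4,
    col C (rk []) N [] ((cb s :: z r :: cb s :: (W r s).reverse).flatMap (si e e' i)) =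
      col C (rk []) N [] (cb (sr i s) :: z (sr i r) :: cb (sr i s) :: (W (sr i r) (sr i s)).reverse)

instance (C : Tb) (e e' N : ℕ) (cb : ℕ → Lt) (n : ℕ) (W : ℕ → ℕ → List Lt) (a l : ℕ) (w : List Lt) :
    Decidable (TR C e e' N cb n W a l w) := inferInstanceAs (Decidable (_ ∧ _))

theorem Db.tr (D : Db j τ Y Y' e e' ρ ρ') (h : Ok j (lv j τ Y Y') C) (N : ℕ) {cb : ℕ → Lt} (n : ℕ)
    (W : ℕ → ℕ → List Lt) {a l : ℕ} {w : List Lt}
    (h0 : ev (lv j τ Y Y') [cb l, z a, cb l] = ev (lv j τ Y Y') w) (k : TR C e e' N cb n W a l w) :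
    Ok j (lv j τ Y Y') (alt C (mx cb n W)) := h.mx fun r s m => by
  have q : ∀ r s, ev (lv j τ Y Y') [cb s, z r, cb s] = ev (lv j τ Y Y') (W r s) ↔
      ev (lv j τ Y Y') (cb s :: z r :: cb s :: (W r s).reverse) = ev (lv j τ Y Y') [] := fun r s => by
    simp [h.ev_rev, ← mul_assoc, mul_inv_eq_one]
  obtain ⟨k0, rfl, k⟩ := k
  refine (ind2 (P := fun r s => Mx r s n ∧ ev (lv j τ Y Y') [cb s, z r, cb s] = ev (lv j τ Y Y') (W r s))
    (fun i hi r hr s hs p => ?_) k0.2.2.1 k0.2.2.2.1 m.2.2.1 m.2.2.2.1 (k0.1.trans m.1.symm)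
    (k0.2.1.trans m.2.1.symm) (k0.2.2.2.2.trans m.2.2.2.2.symm) ⟨k0, h0⟩).2
  have ta := tab_sr i hi r hr
  have tb := tab_sr i hi s hs
  refine ⟨⟨ta.2.2.1.trans p.1.1, tb.2.2.1.trans p.1.2.1, ta.1, tb.1,
    (ta.2.2.2.2 s hs).1.trans p.1.2.2.2.2⟩, (q _ _).2 ?_⟩
  have := congrArg (ev (lv j τ Y Y')) (k r hr s hs p.1 i hi)
  rw [h.ev_col, h.ev_col, D.wev hi ((q _ _).1 p.2)] at this
  exact (mul_left_cancel this).symm

end Cfsg.Agent.F42S.RC
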