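import Cfsg.Agent.F42S.RelC1

/-! The relations between the doubled root elements of both lengths, by collection. -/

set_option autoImplicit false
set_option synthInstance.maxSize 40000
set_option synthInstance.maxHeartbeats 400000

namespace Cfsg.Agent.F42S.RC

open Cfsg Cfsg.Agent.Comp Subgroup RH Lt
open Cfsg.Agent.WG (el el_nil el_cons el_append)
open List (replicate)

variable {G : Type*} [Group G] {j : L0 →* G} {τ : G} {Y Y' : ℕ → G} {e e' ρ ρ' k k' : ℕ}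

/-- The relations of both frames. -/
def C1 (e e' ρ ρ' : ℕ) : Tb := alt (C0 e ρ) (dl (C0 e' ρ'))

/-- With the `45°` pairs. -/
def C2 (e e' ρ ρ' : ℕ) : Tb := alt (C1 e e' ρ ρ') (mx z 12 fun a _ => [z a])

theorem Db.dec2 (D : Db j τ Y Y' e e' ρ ρ') {P : ℕ → ℕ → Prop} (h : ∀ ρ < 2, ∀ ρ' < 2, P ρ ρ') : P ρ ρ' :=
  h _ (Nat.lt_succ_of_le D.a.le) _ (Nat.lt_succ_of_le D.a'.le)

theorem Db.cA (D : Db j τ Y Y' e e' ρ ρ') :
    ∃ m < 2, ev (lv j τ Y Y') [z 47, z 44, z 47] = ev (lv j τ Y Y') (z 44 :: replicate m (x 44)) := by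
  obtain ⟨a, ha, b, hb, e1⟩ := D.ok1.pin D.fr c45 [] (D.dec (P := fun e e' ρ ρ' => PG (C1 e e' ρ ρ')
    [44, 47] _ 4 [z 44] (z 44) (z 47) [] []) (by decide +kernel))
  obtain ⟨k1, k2, k3⟩ := D.dec (P := fun e e' ρ ρ' => ∀ a < 2, ∀ b < 2,
    (nf (C1 e e' ρ ρ') [] [z 47, z 40, z 47] = nf (C1 e e' ρ ρ') []
      ([] ++ [z 47, z 44, z 47].flatMap (si e e' 0) ++ replicate e (x 40)) ∧
    nf (C1 e e' ρ ρ') [] ([] ++ ([z 44] ++ w47 a b).flatMap (si e e' 0) ++ replicate e (x 40)) =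
      nf (C1 e e' ρ ρ') [] (z 40 :: replicate a (x 40) ++ replicate b (x 47))) ∧
    nf (C1 e e' ρ ρ') [] [z 44] = nf (C1 e e' ρ ρ') [] ([z 40, x 33, z 40, x 33] ++ replicate e (x 44)) ∧
    nf (alt (one (z 40) (z 47) (z 40 :: replicate a (x 40) ++ replicate b (x 47))) (C1 e e' ρ ρ'))
      [(z 47, 1000)] ([z 47] ++ ([z 40, x 33, z 40, x 33] ++ replicate e (x 44)) ++ [z 47]) =
    nf (alt (one (z 40) (z 47) (z 40 :: replicate a (x 40) ++ replicate b (x 47))) (C1 e e' ρ ρ'))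
      [(z 47, 1000)] (z 44 :: replicate a (x 44))) (by decide +kernel) a ha b hb
  exact ⟨a, ha, (D.ok1.one (D.ok1.sub [] (D.wev (by omega) e1) _ _ k1)).sub _ (D.ok1.eq [] k2) [z 47]
    [z 47] ⟨rfl, k3⟩⟩

theorem Db.ok2 (D : Db j τ Y Y' e e' ρ ρ') : Ok j (lv j τ Y Y') (C2 e e' ρ ρ') := by
  obtain ⟨m, hm, e1⟩ := D.cA
  obtain ⟨n, hn, e2⟩ := D.dual.cA
  rw [ev_du, ev_du] at e2
  obtain rfl := D.dec (P := fun e e' ρ ρ' => ∀ m < 2, ∀ n < 2, bad (alt (one (z 44) (z 47)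
    (z 44 :: replicate m (x 44))) (C1 e e' ρ ρ')) [] ([z 47, z 44, z 47].map du)
      ((z 44 :: replicate n (x 44)).map du) = false → m = 0) (by decide +kernel) m hm n hn
    ((D.ok1.one e1).nbad [] e2)
  exact D.tr D.ok1 99 12 _ e1 (D.dec (P := fun e e' ρ ρ' => TR (C1 e e' ρ ρ') e e' 99 z 12
    (fun a _ => [z a]) 44 47 (z 44 :: replicate 0 (x 44))) (by decide +kernel))

theorem Db.n11 (D : Db j τ Y Y' 1 1 ρ ρ') : False := by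
  have o : Ok (j.comp gam) (lv (j.comp gam) τ Y' Y) (alt (C0 1 ρ') (mx x 4 fun a l =>
      z a :: z (ad a l) :: replicate (1 - ρ') (x (ad (ad a l) a)))) := D.dual.ok0.mx fun a l m => by
    have : ∀ a < 48, ∀ l < 48, Mx a l 4 → ad a l < 48 ∧ lg (ad a l) = false := by decide +kernel
    have := this a m.2.2.1 l m.2.2.2.1 m
    simpa [zs m.2.2.1 m.1, zs this.1 this.2, mul_assoc] using
      D.a'.x135 D.fr.dual D.s' m.2.2.1 m.2.2.2.1 m.1 m.2.1 m.2.2.2.2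
  have k := D.dec2 (P := fun ρ ρ' => nf (C2 1 1 ρ ρ') [] [z 44, x 29, z 44, x 29] =
    nf (C2 1 1 ρ ρ') [] [x 47] ∧ bad (alt (C2 1 1 ρ ρ') (dl (alt (C0 1 ρ') (mx x 4 fun a l =>
      z a :: z (ad a l) :: replicate (1 - ρ') (x (ad (ad a l) a)))))) [(z 41, 1000)]
      ([z 41] ++ [z 44, x 29, z 44, x 29] ++ [z 41]) ([z 41] ++ [x 47] ++ [z 41]) = true) (by decide +kernel)
  rw [(D.ok2.dl o).nbad _ (D.ok2.sub [] (D.ok2.eq [] k.1) _ _ ⟨rfl, rfl⟩)] at k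
  exact absurd k.2 (by simp)

theorem Db.n01 (D : Db j τ Y Y' 0 1 ρ ρ') : False := by
  have k := D.dec2 (P := fun ρ ρ' => (∀ g ∈ t :: [42, 43, 44, 45, 46, 47].map x,
    cmu (C2 0 1 ρ ρ') [(x 41, 250)] [z 47, z 44, z 29, x 41, z 29, x 41] g) ∧
    nf (C2 0 1 ρ ρ') [(x 41, 250), (x 30, 1000), (x 40, 999)] ([z 47, z 44, z 29, x 41, z 29, x 41] ++ [x 30]) =
    nf (C2 0 1 ρ ρ') [(x 41, 250), (x 30, 1000), (x 40, 999)]
      ([x 40, x 30] ++ [z 47, z 44, z 29, x 41, z 29, x 41])) (by decide +kernel)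
  obtain ⟨a, h1, i, -, h2⟩ := D.ok2.pin0 D.fr ⟨42, by simp, by omega⟩ k.1
  have h3 := D.ok2.eq _ k.2
  rw [ev_app, ev_app, h2] at h3
  refine no40 (a := a) (fun r p q => h1 r (by simp; omega)) (D.fr.inj ?_)
  have c : ∀ b, j b * τ ^ i = τ ^ i * j b := fun b => ((show Commute τ (j b) from D.fr.tj b).pow_left i).symm
  simp only [ev_cons, ev_nil, lx, lt', mul_one, ← map_mul, ← mul_assoc, c] at h3
  simp only [mul_assoc, ← map_mul, mul_right_inj] at h3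
  rw [D.fr.inj h3]
  simp [mul_assoc, x2]

/-- The rule for `z_a^{x_l}`. -/
def W1 (m k a l : ℕ) : List Lt := [z a, z (ad a l), z (ad (ad a l) a)] ++
  (replicate m (x (ad a l)) ++ replicate k (x (ad (ad a l) a)))

/-- The rule for `z_a^{z_l}`. -/
def W3 (k k' p q a l : ℕ) : List Lt := (z a :: replicate (1 - k') (z (ad a l)) ++
  replicate (1 - k) (z (ad (ad a l) a))) ++ (replicate p (x (ad a l)) ++ replicate q (x (ad (ad a l) a)))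

/-- With the first rule at `135°`. -/
def C3 (ρ ρ' m k : ℕ) : Tb := alt (C2 0 0 ρ ρ') (mx x 4 (W1 m k))

/-- With its dual. -/
def C4 (ρ ρ' k k' : ℕ) : Tb := alt (C3 ρ ρ' 0 k) (dl (C3 ρ' ρ 0 k'))

/-- With the mixed `90°` pairs. -/
def C5 (ρ ρ' k k' : ℕ) : Tb := alt (C4 ρ ρ' k k') (mx z 8 fun a _ => [z a])

/-- All relations. -/
def C6 (ρ ρ' k k' p q : ℕ) : Tb := alt (C5 ρ ρ' k k') (mx z 4 (W3 k k' p q))

theorem Db.ok3 (D : Db j τ Y Y' 0 0 ρ ρ') : ∃ k < 2, Ok j (lv j τ Y Y') (C3 ρ ρ' 0 k) := by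
  obtain ⟨m, hm, k, hk, e1⟩ := D.ok2.pin D.fr cU [(x 41, 250)] (D.dec2 (P := fun ρ ρ' => PG (C2 0 0 ρ ρ')
    [29, 41, 44, 47] _ 16 [z 29, z 44, z 47] (z 29) (x 41) _ [z 44, x 29]) (by decide +kernel))
  have o : Ok j (lv j τ Y Y') (C3 ρ ρ' m k) := D.tr D.ok2 0 4 _ e1 ((by decide +kernel : ∀ m < 2, ∀ k < 2,
    TR (fun _ _ => none) 0 0 0 x 4 (W1 m k) 29 41 ([z 29, z 44, z 47] ++ w47 m k)) m hm k hk)
  have e2 := D.wn (i := 2) (by omega) (z 27)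
  rw [MulAut.conj_apply, ← o.ev_x, ← o.ev_rev] at e2
  obtain rfl := D.dec2 (P := fun ρ ρ' => ∀ m < 2, ∀ k < 2, bad (C3 ρ ρ' m k) []
    ((nr (sm 2)).map x ++ [z 27] ++ ((nr (sm 2)).map x).reverse) (si 0 0 2 (z 27)) = false → m = 0)
    (by decide +kernel) m hm k hk (o.nbad [] (by rw [← e2]; simp [mul_assoc]))
  exact ⟨k, hk, o⟩

theorem Db.ok6 (D : Db j τ Y Y' 0 0 ρ ρ') (hk : k < 2) (hk' : k' < 2)
    (o : Ok j (lv j τ Y Y') (C3 ρ ρ' 0 k)) (o' : Ok (j.comp gam) (lv (j.comp gam) τ Y' Y) (C3 ρ' ρ 0 k')) :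
    ρ = k ^^^ k' ∧ Ok j (lv j τ Y Y') (C6 ρ ρ' k k' ρ ρ) := by
  have o4 : Ok j (lv j τ Y Y') (C4 ρ ρ' k k') := o.dl o'
  obtain ⟨k1, k2, k3, k4, k5⟩ := D.dec2 (P := fun ρ ρ' => ∀ k < 2, ∀ k' < 2,
    nf (C4 ρ ρ' k k') [] [z 47] = nf (C4 ρ ρ' k k') [] ([z 44, z 29, x 41, z 29, x 41] ++ replicate k (x 47)) ∧
    nf (C4 ρ ρ' k k') [(z 28, 1000)] ([z 47, z 28] ++ ([z 44, z 29, x 41, z 29, x 41] ++ replicate k (x 47)) ++ []) =
      nf (C4 ρ ρ' k k') [(z 28, 1000)] [z 28] ∧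
    PG (C5 ρ ρ' k k') [29, 41, 44, 47] [17, 22, 25, 30, 42, 43, 44, 45, 46, 47] 16
      (z 29 :: replicate (1 - k') (z 44) ++ replicate (1 - k) (z 47)) (z 29) (z 41) [(z 41, 50)] [z 44, x 29] ∧
    nf (C4 ρ ρ' k k') [] [z 29, z 33, z 29] = nf (C4 ρ ρ' k k') [] (z 33 :: z 36 :: replicate ρ (x 36)) ∧
    ∀ p < 2, ∀ q < 2, bad (C6 ρ ρ' k k' p q) [(x 30, 1000)] ([x 30] ++ [z 29, z 33, z 29] ++ [x 30])
      ([x 30] ++ z 33 :: z 36 :: replicate ρ (x 36) ++ [x 30]) = false → ρ = k ^^^ k' ∧ p = ρ ∧ q = ρ)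
    (by decide +kernel) k hk k' hk'
  have o5 : Ok j (lv j τ Y Y') (C5 ρ ρ' k k') := D.tr o4 0 8 _ (o4.sub _ (o4.eq [] k1) _ _ ⟨rfl, k2⟩)
    (by decide +kernel : TR (fun _ _ => none) 0 0 0 z 8 (fun a _ => [z a]) 28 47 [z 28])
  obtain ⟨p, hp, q, hq, e1⟩ := o5.pin D.fr cU _ k3
  have o6 : Ok j (lv j τ Y Y') (C6 ρ ρ' k k' p q) := D.tr o5 0 4 _ e1 ((by decide +kernel :
    ∀ k < 2, ∀ k' < 2, ∀ p < 2, ∀ q < 2, TR (fun _ _ => none) 0 0 0 z 4 (W3 k k' p q) 29 41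
      ((z 29 :: replicate (1 - k') (z 44) ++ replicate (1 - k) (z 47)) ++ w47 p q)) k hk k' hk' p hp q hq)
  obtain ⟨h1, rfl, rfl⟩ := k5 p hp q hq (o6.nbad _ (o4.sub [] (o4.eq [] k4) _ _ ⟨rfl, rfl⟩))
  exact ⟨h1, o6⟩

end Cfsg.Agent.F42S.RC
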