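import Cfsg.Agent.F42S.Frm
import Cfsg.Agent.F42S.RlA

/-! The group `G₀ = SS ty X 0`, its subgroup `Û = SS ty X 24` and the involutions of `t Û`. -/

set_option autoImplicit false

namespace Cfsg.Agent.F42S

open Cfsg Cfsg.Agent.Comp Subgroup Cfsg.Agent.PLocal.Amb
open Cfsg.Agent.WG (el el_nil el_cons el_append)
open scoped commutatorElement

variable {G : Type*} [Group G] {j : L0 →* G} {t : G} {ty : ℕ} {X : ℕ → ℕ → G}

/-- PROOF.  `X r 3 = X r 2 * X r 1 = X r 1 * X r 2`.  First the pairs with `cw = []` for all `c, d` (they commute).  For the other pairs the roots `k₁ = ad r s`, `k₂` of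
`cw` give commuting pairs `(r,k), (s,k), (k₁,k₂)`, except the short-short orthogonal pair `(a, a + l)` for `ty < 2`, which is done first (its `cw` root is at `45°`).  Expand
`c = 3`, `d = 3` and collect; the bookkeeping (`mu`, `br` additive, sizes `< sz`) by decide over `ty < 4`, `r, s < 48`, or write a small verified collector on words in the letters `(r, c)`. -/
theorem Lg.lr (hty : ty < 4) (h : Lg ty X) : Lr ty X := h.lr' hty

theorem X_mem {r c k : ℕ} (h1 : k ≤ r) (h2 : r < 48) (h3 : c < sz ty r) : X r c ∈ SS ty X k :=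
  subset_closure ⟨r, c, h1, h2, h3, rfl⟩

theorem SS_mono {k m : ℕ} (h : k ≤ m) : SS ty X m ≤ SS ty X k :=
  closure_mono fun _ ⟨r, c, h1, h2⟩ => ⟨r, c, h.trans h1, h2⟩

theorem SS_top {k : ℕ} (h : 48 ≤ k) : SS ty X k = ⊥ :=
  eq_bot_iff.2 ((closure_le _).2 fun _ ⟨r, _, h1, h2, _⟩ => by omega)

theorem SS_le {k : ℕ} {H : Subgroup G} (h : ∀ r, k ≤ r → r < 48 → ∀ c < sz ty r, X r c ∈ H) : SS ty X k ≤ H :=
  (closure_le _).2 fun _ ⟨r, c, h1, h2, h3, e⟩ => e ▸ h r h1 h2 c h3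

theorem sz_or (ty r : ℕ) : sz ty r = 2 ∨ sz ty r = 4 := by unfold sz; split_ifs <;> simp

theorem one_lt_sz (ty r : ℕ) : 1 < sz ty r := by have := sz_or ty r; omega

theorem xor_lt_sz {r c d : ℕ} (hc : c < sz ty r) (hd : d < sz ty r) : c ^^^ d < sz ty r := by
  rcases sz_or ty r with e | e <;> rw [e] at hc hd ⊢
  exacts [Nat.xor_lt_two_pow (n := 1) hc hd, Nat.xor_lt_two_pow (n := 2) hc hd]

theorem br_lt_sz {r c : ℕ} (hc : c < sz ty r) : br c < sz ty r :=
  xor_lt_sz hc ((Nat.div_le_self _ _).trans_lt hc)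

theorem ew_mem {H : Subgroup G} {w : List (ℕ × ℕ)} (h : ∀ p ∈ w, X p.1 p.2 ∈ H) : ew X w ∈ H :=
  list_prod_mem fun _ hg => let ⟨p, hp, e⟩ := List.mem_map.1 hg; e ▸ h p hp

set_option synthInstance.maxSize 20000 in
theorem tab_cw : ∀ ty < 4, ∀ r < 48, 24 ≤ r → ∀ s < 48, 24 ≤ s → ∀ c < sz ty r, ∀ d < sz ty s,
    ∀ p ∈ cw ty r s c d, r < p.1 ∧ s < p.1 ∧ p.1 < 48 ∧ p.2 < sz ty p.1 := by decide +kernel

theorem norm_of_sq {a : G} (ha : a * a = 1) {H : Subgroup G} (h : cj(a, H) ≤ H) : a ∈ 𝐍[H] := by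
  refine cj_eq_iff.1 (le_antisymm h ?_)
  rwa [le_cj_iff, inv_eq_of_mul_eq_one_right ha]

theorem cj_closure_le {a : G} {S : Set G} {H : Subgroup G} (h : ∀ b ∈ S, a * b * a⁻¹ ∈ H) : cj(a, closure S) ≤ H :=
  map_le_iff_le_comap.2 ((closure_le _).2 h)

theorem Lr.sq (h : Lr ty X) {r c : ℕ} (hr : r < 48) (hc : c < sz ty r) : X r c * X r c = 1 := by
  rw [h.add r hr c hc c hc, Nat.xor_self, h.zero]

theorem Lr.inv (h : Lr ty X) {r c : ℕ} (hr : r < 48) (hc : c < sz ty r) : (X r c)⁻¹ = X r c :=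
  inv_eq_of_mul_eq_one_right (h.sq hr hc)

theorem Lr.cm (h : Lr ty X) {r c d : ℕ} (hr : r < 48) (hc : c < sz ty r) (hd : d < sz ty r) :
    X r c * X r d = X r d * X r c := by rw [h.add r hr c hc d hd, h.add r hr d hd c hc, Nat.xor_comm]

theorem Lr.conj_X (hty : ty < 4) (h : Lr ty X) {r s c d : ℕ} (h1 : 24 ≤ r) (hr : r < 48) (h2 : 24 ≤ s) (hs : s < 48)
    (hc : c < sz ty r) (hd : d < sz ty s) : ∃ w ∈ SS ty X (s + 1), X r c * X s d * (X r c)⁻¹ = X s d * w := by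
  by_cases e : s = r
  · subst e
    exact ⟨1, one_mem _, by rw [h.cm hr hc hd, mul_inv_cancel_right, mul_one]⟩
  · refine ⟨_, ew_mem fun p hp => ?_, by
      rw [h.inv hr hc, mul_assoc, h.com r hr s hs e (by omega) c hc d hd, ← mul_assoc, ← mul_assoc, h.sq hr hc, one_mul]⟩
    obtain ⟨-, k1, k2, k3⟩ := tab_cw ty hty r hr h1 s hs h2 c hc d hd p hp
    exact X_mem k1 k2 k3

theorem Lr.norm (hty : ty < 4) (h : Lr ty X) {k : ℕ} (hk : 24 ≤ k) : SS ty X 24 ≤ 𝐍[SS ty X k] :=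
  SS_le fun r h1 hr c hc => norm_of_sq (h.sq hr hc) (cj_closure_le fun _ ⟨s, d, h2, hs, hd, e⟩ => by
    obtain ⟨w, hw, e'⟩ := h.conj_X hty h1 hr (hk.trans h2) hs hc hd
    rw [e, e']
    exact mul_mem (X_mem h2 hs hd) (SS_mono (by omega) hw))

/-- PROOF. decide: for `24 ≤ r, s < 48` the letters `(k, c)` of `cw ty r s c d` have `r, s < k < 48`, `c < sz ty k`; downward induction on `k`. -/
theorem Lr.comm (hty : ty < 4) (h : Lr ty X) {k : ℕ} (hk : 24 ≤ k) {u g : G} (hu : u ∈ SS ty X 24)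
    (hg : g ∈ SS ty X k) : u * g * u⁻¹ * g⁻¹ ∈ SS ty X (k + 1) := by
  have hn := h.norm hty (k := k + 1) (by omega)
  refine comm_mem hn subset_closure ((closure_le _).1 (SS_mono hk)) ?_ hu hg
  rintro _ ⟨r, c, h1, hr, hc, rfl⟩ _ ⟨s, d, h2, hs, hd, rfl⟩
  obtain ⟨w, hw, e⟩ := h.conj_X hty h1 hr (hk.trans h2) hs hc hd
  rw [e]
  exact conj_mem_of_mem_normalizer (hn (X_mem (hk.trans h2) hs hd)) (SS_mono (by omega) hw)

theorem Lr.step (hty : ty < 4) (h : Lr ty X) {k : ℕ} (hk : 24 ≤ k) (hk' : k < 48) {g : G}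
    (hg : g ∈ SS ty X k) : ∃ c < sz ty k, X k c * g ∈ SS ty X (k + 1) := by
  have hn := fun c (hc : c < sz ty k) a => conj_mem_of_mem_normalizer (x := a)
    (h.norm hty (k := k + 1) (by omega) (X_mem hk hk' hc))
  have h0 : 0 < sz ty k := by have := one_lt_sz ty k; omega
  induction hg using closure_induction with
  | mem g hg =>
    obtain ⟨r, c, h1, hr, hc, rfl⟩ := hg
    rcases h1.eq_or_lt with rfl | h1
    · exact ⟨c, hc, by rw [h.sq hr hc]; exact one_mem _⟩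
    · exact ⟨0, h0, by rw [h.zero, one_mul]; exact X_mem h1 hr hc⟩
  | one => exact ⟨0, h0, by rw [h.zero, one_mul]; exact one_mem _⟩
  | mul a b _ _ h1 h2 =>
    obtain ⟨c, hc, h1⟩ := h1
    obtain ⟨d, hd, h2⟩ := h2
    exact ⟨_, xor_lt_sz hd hc, by
      rw [← h.add k hk' d hd c hc]; simpa [mul_assoc] using mul_mem (hn d hd _ h1) h2⟩
  | inv a _ h1 =>
    obtain ⟨c, hc, h1⟩ := h1
    exact ⟨c, hc, by simpa [mul_assoc, h.inv hk' hc, h.sq hk' hc] using hn c hc _ (inv_mem h1)⟩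

theorem Lr.step' (hty : ty < 4) (h : Lr ty X) {k : ℕ} (hk : 24 ≤ k) (hk' : k < 48) {g : G}
    (hg : g ∈ SS ty X k) : ∃ c < sz ty k, ∃ a ∈ SS ty X (k + 1), g = X k c * a :=
  let ⟨c, hc, e⟩ := h.step hty hk hk' hg
  ⟨c, hc, _, e, by rw [← mul_assoc, h.sq hk' hc, one_mul]⟩

theorem ind_down {P : ℕ → Prop} (h1 : ∀ k, 48 ≤ k → P k) (h2 : ∀ k, 24 ≤ k → k < 48 → P (k + 1) → P k) {k : ℕ}
    (hk : 24 ≤ k) : P k := by
  by_cases e : 48 ≤ k
  · exact h1 k e
  · exact Nat.decreasingInduction' (P := P) (fun m a b => h2 m (hk.trans b) a) (not_le.1 e).le (h1 48 le_rfl)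

theorem Lr.pU (hty : ty < 4) (h : Lr ty X) : IsPGroup 2 (SS ty X 24) := by
  refine ind_down (P := fun k => IsPGroup 2 (SS ty X k)) (fun k hk => by rw [SS_top hk]; exact IsPGroup.of_bot) ?_ le_rfl
  intro k hk hk' ih
  refine isPGroup_iff.2 fun g hg => ?_
  obtain ⟨c, hc, a, ha, rfl⟩ := h.step' hty hk hk' hg
  obtain ⟨n, hn⟩ := isPGroup_iff.1 ih _ (mul_mem (conj_mem_of_mem_normalizer
    (h.norm hty (k := k + 1) (by omega) (X_mem hk hk' hc)) ha) ha)
  exact ⟨n + 1, by rw [pow_succ', pow_mul, ← hn, h.inv hk' hc, pow_two, mul_assoc (_ * _)]⟩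

theorem Lr.card_le [Finite G] (hty : ty < 4) (h : Lr ty X) {k : ℕ} (hk : 24 ≤ k) :
    Nat.card (SS ty X k) ≤ ((up k).map (sz ty)).prod := by
  refine ind_down (P := fun k => Nat.card (SS ty X k) ≤ ((up k).map (sz ty)).prod) (fun k hk => ?_) ?_ hk
  · rw [SS_top hk, card_bot, up, Nat.sub_eq_zero_of_le hk]; rfl
  intro k hk hk' ih
  rw [up_cons hk', List.map_cons, List.prod_cons]
  refine (Nat.card_le_card_of_surjective (fun p : Fin (sz ty k) × SS ty X (k + 1) =>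
    (⟨X k p.1 * p.2, mul_mem (X_mem le_rfl hk' p.1.2) (SS_mono k.le_succ p.2.2)⟩ : SS ty X k)) fun g => ?_).trans ?_
  · obtain ⟨c, hc, a, ha, e⟩ := h.step' hty hk hk' g.2
    exact ⟨(⟨c, hc⟩, ⟨a, ha⟩), Subtype.ext e.symm⟩
  · rw [Nat.card_prod, Nat.card_fin]
    exact Nat.mul_le_mul_left _ ih

theorem Rl.j_mem (h : Rl j t ty X) (a : L0) : j a ∈ SS ty X 0 :=
  (gen (H := (SS ty X 0).comap j) fun r hr => by
    rw [mem_comap, ← h.one r hr]; exact X_mem r.zero_le hr (one_lt_sz ty r)).ge (mem_top a)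

theorem Rl.j_memU (h : Rl j t ty X) {k : ℕ} {a : L0} (ha : a ∈ UU k) : j a ∈ SS ty X k :=
  (UU_le (H := (SS ty X k).comap j)).2 (fun r h1 hr => by
    rw [mem_comap, ← h.one r hr]; exact X_mem h1 hr (one_lt_sz ty r)) ha

theorem Rl.t_norm (hty : ty < 4) (hf : Fr j t) (h : Rl j t ty X) (k : ℕ) : t ∈ 𝐍[SS ty X k] :=
  have _ := hty
  norm_of_sq hf.tt (cj_closure_le fun _ ⟨r, c, h1, hr, hc, e⟩ => by
    rw [e, hf.t_inv, h.tc r hr c hc]; exact X_mem h1 hr (br_lt_sz hc))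

theorem Rl.X_t (hf : Fr j t) (h : Rl j t ty X) {r c : ℕ} (hr : r < 48) (hc : c < sz ty r) :
    X r c * t = t * X r (br c) := by rw [← h.tc r hr c hc, ← mul_assoc, ← mul_assoc, hf.tt, one_mul]

theorem Rl.two_t (hf : Fr j t) (h : Rl j t ty X) {r : ℕ} (hr : r < 48) (hs : sz ty r = 4) :
    X r 2 * t * (X r 2)⁻¹ = t * j (xx r) := by
  rw [h.inv hr (by omega), h.X_t hf hr (by omega), mul_assoc, h.add r hr _ (by rw [hs]; decide) _ (by omega), ← h.one r hr]
  rfl

theorem Rl.j_ne (hf : Fr j t) {r : ℕ} (hr : r < 48) : j (xx r) ≠ 1 := fun e => xx_ne hr (hf.inj (e.trans (map_one j).symm))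

set_option synthInstance.maxSize 20000 in
theorem tab_mo : ∀ ty < 4, ∀ r < 48, Mo r r ∧ ∀ s < 48, Mo r s → s ≠ 47 - r ∧ cw ty r s 2 1 = [] := by decide +kernel

theorem Rl.two_x (hty : ty < 4) (h : Rl j t ty X) {r s : ℕ} (hr : r < 48) (h4 : sz ty r = 4) (hs : s < 48)
    (m : Mo r s) : X r 2 * j (xx s) = j (xx s) * X r 2 := by
  rw [← h.one s hs]
  by_cases e : s = r
  · exact e ▸ h.cm hs (by rw [e]; omega) (one_lt_sz _ _)
  · obtain ⟨h1, h2⟩ := (tab_mo ty hty r hr).2 s hs m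
    rw [h.com r hr s hs e h1 2 (by omega) 1 (one_lt_sz _ _), h2, ew_nil, mul_one]

/-- PROOF. `y * X r 2` centralises `t` and the `x_s`, `Mo r s` (`cw ty s r 1 2 = []`, decide; `s = r` by add); pin + cenP; `X r 2 * t` and `X r 3 * t` are not involutions. -/
theorem Rl.can (hty : ty < 4) (hf : Fr j t) (h : Rl j t ty X) {r : ℕ} (hr : r < 48) (hs : sz ty r = 4) {y : G}
    (h1 : y * y = 1) (h2 : y * t * y = t * j (xx r))
    (h3 : ∀ s < 48, Mo r s → y * j (xx s) = j (xx s) * y) : y = X r 2 ∨ y = X r 3 := by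
  have m := (tab_mo ty hty r hr).1
  have e1 : y * X r 2 * t = t * (y * X r 2) := by
    rw [← mul_inv_eq_iff_eq_mul]
    calc _ = y * (X r 2 * t * (X r 2)⁻¹) * y⁻¹ := by group
      _ = y * t * y * (y⁻¹ * (j (xx r) * y⁻¹)) := by rw [h.two_t hf hr hs]; group
      _ = _ := by
        rw [h2, inv_eq_of_mul_eq_one_right h1, ← h3 r hr m, ← mul_assoc y, h1, one_mul, mul_assoc, ← map_mul, xx_sq,
          map_one, mul_one]
  obtain ⟨a, a1, a2⟩ := hf.pin e1 (l := (List.range 48).filter (Mo r ·)) ⟨r, by simp [hr, m], hr⟩ fun s hs' => by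
    simp only [List.mem_filter, List.mem_range, decide_eq_true_eq] at hs'
    rw [mul_assoc, h.two_x hty hr hs hs'.1 hs'.2, ← mul_assoc, h3 s hs'.1 hs'.2, mul_assoc]
  have q := h.sq hr (c := 2) (by omega)
  have e3 : j (xx r) * X r 2 = X r 3 := by rw [← h.one r hr, h.add r hr 1 (by omega) 2 (by omega)]; rfl
  have n : ∀ c, c = 2 ∨ c = 3 → y ≠ t * X r c := fun c hc e => Rl.j_ne hf hr (by
    rw [e, ← mul_assoc, h.tc r hr c (by omega), h.add r hr _ (br_lt_sz (by omega)) _ (by omega)] at h1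
    rw [← h.one r hr, ← h1]
    rcases hc with rfl | rfl <;> rfl)
  replace a2 : y = j a * X r 2 ∨ y = t * j a * X r 2 :=
    a2.imp (fun e => by rw [← e, mul_assoc, q, mul_one]) (fun e => by rw [← e, mul_assoc, q, mul_one])
  rcases cenP hr (fun s hs m => a1 s (by simp [hs, m])) with rfl | rfl
  · simp only [map_one, one_mul, mul_one] at a2
    exact .inl (a2.resolve_right (n 2 (.inl rfl)))
  · rw [mul_assoc, e3] at a2
    exact .inr (a2.resolve_right (n 3 (.inr rfl)))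

/-- PROOF. downward induction on `k`: `g = X k c * g'`; if `c ≥ 2` then `x_k ∈ SS (k+1)` is fixed by `t`, so `xx k ∈ UU (k+1)`, false. -/
theorem Rl.fix (hty : ty < 4) (hf : Fr j t) (h : Rl j t ty X) {k : ℕ} (hk : 24 ≤ k) {g : G}
    (hg : g ∈ SS ty X k) (e : g * t = t * g) : ∃ a ∈ UU k, g = j a := by
  revert g
  refine ind_down (P := fun k => ∀ {g : G}, g ∈ SS ty X k → g * t = t * g → ∃ a ∈ UU k, g = j a) (fun k hk g hg _ => ?_)
    (fun k hk hk' ih g hg e => ?_) hk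
  · rw [SS_top hk, mem_bot] at hg
    exact ⟨1, one_mem _, by rw [hg, map_one]⟩
  obtain ⟨c, hc, a, ha, rfl⟩ := h.step' hty hk hk' hg
  have k1 : ∀ b ∈ UU k, X k c = j b → ∃ a' ∈ UU k, X k c * a = j a' := fun b hb e' => by
    obtain ⟨a', h1, rfl⟩ := ih ha (by
      rw [e', ← mul_assoc, hf.tj, mul_assoc, mul_assoc] at e; exact mul_left_cancel e)
    exact ⟨b * a', mul_mem hb (UU_mono k.le_succ h1), by rw [e', map_mul]⟩
  by_cases c0 : c = 0
  · exact k1 1 (one_mem _) (by rw [c0, h.zero, map_one])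
  by_cases c1 : c = 1
  · exact k1 _ (xx_mem_UU le_rfl) (by rw [c1, h.one k hk'])
  have h1 : X k (c ^^^ br c) = t * a * t⁻¹ * a⁻¹ := by
    have e2 : t * a * t⁻¹ = X k (br c) * X k c * a := by
      calc _ = t * (X k c)⁻¹ * (X k c * a * t) * t⁻¹ * t⁻¹ := by group
        _ = t * X k c * t * X k c * a * (t * t)⁻¹ := by rw [e, h.inv hk' hc]; group
        _ = _ := by rw [h.tc k hk' c hc, hf.tt, inv_one, mul_one]
    rw [e2, mul_inv_cancel_right, h.add k hk' _ (br_lt_sz hc) c hc, Nat.xor_comm]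
  rw [show c ^^^ br c = 1 by
    have : c < 4 := by have := sz_or ty k; omega
    interval_cases c <;> first | rfl | omega, h.one k hk'] at h1
  obtain ⟨b, hb, e'⟩ := ih (h1 ▸ mul_mem (conj_mem_of_mem_normalizer (h.t_norm hty hf _) ha) (inv_mem ha))
    (hf.tj _).symm
  exact absurd (hf.inj e' ▸ hb) (not_mem_UU hk hk')

/-- The subgroups generated by the positive roots that are not doubled. -/
def BB (ty m : ℕ) : Subgroup L0 := XX ((up m).filter (sz ty · = 2))

theorem mem_BB {m r : ℕ} (h1 : m ≤ r) (h2 : r < 48) (h3 : sz ty r = 2) : xx r ∈ BB ty m :=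
  xx_mem (by simp [mem_up, h1, h2, h3])

theorem BB_le {m : ℕ} {H : Subgroup L0} (h : ∀ r, m ≤ r → r < 48 → sz ty r = 2 → xx r ∈ H) : BB ty m ≤ H :=
  XX_le.2 fun r hr => by
    simp only [List.mem_filter, mem_up, decide_eq_true_eq] at hr
    exact h r hr.1.1 hr.1.2 hr.2

set_option synthInstance.maxSize 20000 in
theorem tab_lg : ∀ r < 48, ∀ s < 48, lg r = true → lg s = true → s ≠ 47 - r → ∀ k ∈ cm r s, lg k = true := by
  decide +kernel

theorem sz_two {r : ℕ} : sz ty r = 2 ↔ lg r = true ∧ ty < 2 := by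
  unfold sz; split_ifs with h
  exacts [iff_of_true rfl h, iff_of_false (by norm_num) h]

theorem BB_step {m : ℕ} (hm : 24 ≤ m) (hm' : m < 48) {b : L0} (hb : b ∈ BB ty m) :
    b ∈ BB ty (m + 1) ∨ (sz ty m = 2 ∧ xx m * b ∈ BB ty (m + 1)) := by
  by_cases e : sz ty m = 2
  · have hn : zpowers (xx m) ≤ 𝐍[BB ty (m + 1)] := zpowers_le.2 (norm_of fun _ ⟨s, hs, e'⟩ => by
      simp only [List.mem_filter, mem_up, decide_eq_true_eq] at hs
      rw [e', xx_inv, xx_conj hm' hs.1.2 (by omega)]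
      refine mul_mem (mem_BB hs.1.1 hs.1.2 hs.2) (el_mem fun k hk => ?_)
      have := tab_cm m hm' s hs.1.2 (by omega) k hk
      exact mem_BB (this.2 hm (by omega)).1 this.1 (sz_two.2 ⟨tab_lg m hm' s hs.1.2 (sz_two.1 e).1 (sz_two.1 hs.2).1
        (by omega) k hk, (sz_two.1 e).2⟩))
    obtain ⟨_, ⟨n, rfl⟩, a, ha, rfl⟩ := (mem_sup_of_le_normalizer_right hn).1 (BB_le (fun r h1 h2 h3 => by
      rcases h1.eq_or_lt with rfl | h1
      exacts [mem_sup_left (mem_zpowers _), mem_sup_right (mem_BB h1 h2 h3)]) hb)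
    have q : xx m ^ (2 : ℤ) = 1 := by rw [zpow_two, xx_sq]
    rcases Int.even_or_odd' n with ⟨n, rfl | rfl⟩
    · exact .inl (by simpa [zpow_mul, q] using ha)
    · exact .inr ⟨e, by simpa [zpow_add, zpow_mul, q, ← mul_assoc, xx_sq] using ha⟩
  · exact .inl (BB_le (fun r h1 h2 h3 => mem_BB (h1.lt_of_ne fun e' => e (by rw [e']; exact h3)) h2 h3) hb)

theorem BB_le_UU {m : ℕ} : BB ty m ≤ UU m := BB_le fun _ h _ _ => xx_mem_UU h

theorem BB_inf {k : ℕ} (hk : 24 ≤ k) (hk' : k < 48) (h4 : sz ty k = 4) {b : L0} (hb : b ∈ BB ty 24) (h : b ∈ UU k) :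
    b ∈ UU (k + 1) := by
  have : ∀ m, 24 ≤ m → m ≤ k → b ∈ BB ty m := fun m h1 => by
    induction m, h1 using Nat.le_induction with
    | base => exact fun _ => hb
    | succ m h1 ih =>
      refine fun h2 => (BB_step h1 (by omega) (ih (by omega))).resolve_right fun e => not_mem_UU h1 (by omega) ?_
      simpa using mul_mem (BB_le_UU e.2) (inv_mem (UU_mono h2 h))
  exact BB_le_UU ((BB_step hk hk' (this k hk le_rfl)).resolve_right fun e => by omega)

/-- PROOF. Let `B = XX (positive roots with sz ty r = 2)` (the long ones for `ty < 2`, none else).  Induction on `k`: `d` is `Û`-conjugate to `t (j b) v`, `b ∈ B`, `v ∈ SS k`.  Write `v = X k c * v'`.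
`sz = 2`: absorb into `b`.  `sz = 4`: `d² = 1` gives `j (b²) * X k (c ^^^ br c) ∈ SS (k+1)` (comm); if `c ≥ 2` then (fix) `b² x_k ∈ UU (k+1)`, impossible since `B ⊓ UU k ≤ UU (k+1)` for short `k`
(`B` is generated by a closed set of roots: normal form `Chev.IsSt0.exists_oprod`/`IsND.XS_inf`, or directly: `b ∈ B ⊓ UU m → b ∈ B ⊓ UU (m+1)` up to a long `x_m`, by the same filtration argument for the list of long roots).
If `c = 1` conjugate by `X k 2`. -/
theorem Rl.f3 (hty : ty < 4) (hf : Fr j t) (h : Rl j t ty X) {u : G} (hu : u ∈ SS ty X 24)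
    (e : t * u * (t * u) = 1) : ∃ v ∈ SS ty X 24, ∃ b, v * (t * u) * v⁻¹ = t * j b := by
  have key : ∀ k, 24 ≤ k → k ≤ 48 → ∃ v ∈ SS ty X 24, ∃ b ∈ BB ty 24, ∃ w ∈ SS ty X k,
      v * (t * u) * v⁻¹ = t * j b * w := fun k hk => by
    induction k, hk using Nat.le_induction with
    | base => exact fun _ => ⟨1, one_mem _, 1, one_mem _, u, hu, by simp⟩
    | succ k hk ih =>
      intro hk'
      obtain ⟨v, hv, b, hb, w, hw, e1⟩ := ih (by omega)
      obtain ⟨c, hc, a, ha, rfl⟩ := h.step' hty hk hk' hw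
      by_cases c0 : c = 0
      · exact ⟨v, hv, b, hb, a, ha, by rw [e1, c0, h.zero, one_mul]⟩
      rcases sz_or ty k with h4 | h4
      · exact ⟨v, hv, b * xx k, mul_mem hb (mem_BB hk hk' h4), a, ha, by
          rw [e1, show c = 1 by omega, h.one k hk', map_mul]; group⟩
      have hn := h.norm hty (k := k + 1) (by omega)
      have jb := h.j_memU (BB_le_UU hb)
      have mX : ∀ d, d < 4 → X k d ∈ SS ty X k := fun d hd => X_mem le_rfl hk' (h4 ▸ hd)
      have cb : ∀ d, d < 4 → (j b)⁻¹ * X k d * j b * (X k d)⁻¹ ∈ SS ty X (k + 1) := fun d hd => by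
        simpa using h.comm hty hk (inv_mem jb) (mX d hd)
      by_cases c1 : c = 1
      · refine ⟨X k 2 * v, mul_mem (SS_mono hk (mX 2 (by omega))) hv, b, hb, _, mul_mem (cb 3 (by omega))
          (conj_mem_of_mem_normalizer (hn (SS_mono hk (mX 2 (by omega)))) ha), ?_⟩
        have e2 : X k 3 * X k 1 = X k 2 := h.add k hk' 3 (by omega) 1 (by omega)
        calc _ = X k 2 * (v * (t * u) * v⁻¹) * (X k 2)⁻¹ := by group
          _ = X k 2 * t * j b * (X k 1 * a) * (X k 2)⁻¹ := by rw [e1, c1]; group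
          _ = _ := by rw [h.X_t hf hk' (by omega), ← e2, show br 2 = 3 from rfl]; group
      have e2 : t * j b * (X k c * a) * (t * j b * (X k c * a)) = 1 := by rw [← e1, conj_mul, e]; simp
      have e3 : X k (br c) * X k c = j (xx k) := by
        rw [h.add k hk' _ (br_lt_sz hc) c hc, ← h.one k hk']
        rw [h4] at hc
        interval_cases c <;> first | rfl | omega
      have e4 : j (b * b * xx k) ∈ SS ty X (k + 1) := by
        have m1 := conj_mem_of_mem_normalizer (h.t_norm hty hf (k + 1)) ha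
        have m2 := inv_conj_mem_of_mem_normalizer (hn (mul_mem jb (SS_mono hk (mX c (h4 ▸ hc))))) m1
        have m3 := inv_conj_mem_of_mem_normalizer (hn (SS_mono hk (mul_mem (mX _ (h4 ▸ br_lt_sz hc)) (mX c (h4 ▸ hc)))))
          (cb _ (h4 ▸ br_lt_sz hc))
        convert inv_mem (mul_mem (mul_mem m3 m2) ha) using 1
        rw [eq_inv_iff_mul_eq_one, map_mul, map_mul, ← e3, ← e2, hf.tj b, ← h.tc k hk' c hc, hf.t_inv]
        have q : ∀ g, t * (t * g) = g := fun g => by rw [← mul_assoc, hf.tt, one_mul]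
        have q' : ∀ g, t * (j b * g) = j b * (t * g) := fun g => by rw [← mul_assoc, hf.tj, mul_assoc]
        have q'' : ∀ g, t * ((j b)⁻¹ * g) = (j b)⁻¹ * (t * g) := fun g => by
          rw [← map_inv, ← mul_assoc, hf.tj, mul_assoc]
        simp only [mul_assoc, mul_inv_rev, mul_inv_cancel_left, inv_mul_cancel_left, hf.t_inv, q, q', q'']
      obtain ⟨d, hd, e5⟩ := h.fix hty hf (by omega) e4 (hf.tj _).symm
      rw [← hf.inj e5] at hd
      have := BB_inf hk hk' h4 (mul_mem hb hb) (by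
        simpa using mul_mem (UU_mono k.le_succ hd) (inv_mem (xx_mem_UU (le_refl k))))
      have := mul_mem (inv_mem this) hd
      rw [inv_mul_cancel_left] at this
      exact not_mem_UU hk hk' this |>.elim
  obtain ⟨v, hv, b, -, w, hw, e1⟩ := key 48 (by omega) le_rfl
  rw [SS_top le_rfl, mem_bot] at hw
  exact ⟨v, hv, b, by rw [e1, hw, mul_one]⟩

/-- PROOF. cls.  `X 44 2` conjugates `t` to `t x₄₄` and `t x₄₇` to `t x₄₇ x₄₄`; `X 39 2` conjugates `t x₄₅` to `t x₃₉ x₄₅`; for `ty ≥ 2`, `X 47 2` conjugates `t` to `t x₄₇`. -/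
theorem Rl.cls (hty : ty < 4) (hf : Fr j t) (h : Rl j t ty X) (hn : ty < 2 → ¬ IsConj t (t * j (xx 47))) {b : L0}
    (hc : IsConj t (t * j b)) : ∃ g ∈ SS ty X 0, g * t * g⁻¹ = t * j b := by
  let C : G → G → Prop := fun u v => ∃ g ∈ SS ty X 0, g * u * g⁻¹ = v
  have tr : ∀ {u v w}, C u v → C v w → C u w := fun ⟨g, h1, h2⟩ ⟨k, h3, h4⟩ =>
    ⟨k * g, mul_mem h3 h1, by rw [← h4, ← h2]; group⟩
  have cj : ∀ {a b}, IsConj a b → C (t * j a) (t * j b) := fun e => by
    obtain ⟨c, e⟩ := isConj_iff.1 e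
    refine ⟨j c, h.j_mem c, ?_⟩
    rw [← e, map_mul, map_mul, map_inv, ← mul_assoc, ← hf.tj]; group
  have tw : ∀ {r s}, r < 48 → sz ty r = 4 → s < 48 → Mo r s → C (t * j (xx s)) (t * j (xx r * xx s)) :=
    fun {r s} hr h4 hs m => ⟨X r 2, X_mem r.zero_le hr (by omega), by
      rw [map_mul, ← mul_assoc t, ← h.two_t hf hr h4, ← conj_mul, h.two_x hty hr h4 hs m, mul_inv_cancel_right]⟩
  have t1 : ∀ {r}, r < 48 → sz ty r = 4 → C t (t * j (xx r)) := fun {r} hr h4 =>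
    ⟨X r 2, X_mem r.zero_le hr (by omega), h.two_t hf hr h4⟩
  have sh : ∀ {r}, lg r = false → sz ty r = 4 := fun e => if_neg (by simp [e])
  have k47 : C (t * j (xx 47)) (t * j b) → C t (t * j b) := fun e => tr (t1 (by omega) (if_neg fun e' =>
    let ⟨g, _, e⟩ := e
    hn e'.2 (hc.trans (isConj_iff.2 ⟨g, e⟩).symm))) e
  by_cases b1 : b = 1
  · exact ⟨1, one_mem _, by simp [b1]⟩
  have b2 : b * b = 1 := by
    obtain ⟨c, e⟩ := isConj_iff.1 hc
    have : t * j b * (t * j b) = 1 := by rw [← e, conj_mul, hf.tt]; simp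
    rw [mul_assoc, ← mul_assoc (j b), ← hf.tj, ← mul_assoc, ← mul_assoc, hf.tt, one_mul, ← map_mul, ← map_one j] at this
    exact hf.inj this
  rcases F42S.cls b2 b1 with e | e | e | e
  · exact k47 (cj e)
  · exact tr (t1 (by omega) (sh (by decide +kernel))) (cj e)
  · exact k47 (tr (tw (r := 44) (by omega) (sh (by decide +kernel)) (by omega) (by decide +kernel))
      (cj ((isConj_iff.2 ⟨xx 47, by rw [xx_inv, mul_assoc, mul_assoc, xx_sq, mul_one]⟩).trans e)))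
  · exact k47 (tr (cj (conj_long (r := 45) (by omega) (by decide +kernel)))
      (tr (tw (r := 39) (by omega) (sh (by decide +kernel)) (by omega) (by decide +kernel)) (cj e)))

/-- PROOF. `z (t z t)` is central in `G₀` and fixed by `t`, so it is `1` or `t` (cen); `t` does not commute with `X 44 2`.  Then `z ∈ {1, t}`. -/
theorem Rl.zodd (hty : ty < 4) (hf : Fr j t) (h : Rl j t ty X) {z : G} (hz : z ∈ SS ty X 0)
    (hc : ∀ g ∈ SS ty X 0, g * z = z * g) (h2 : z * z = 1) : z = 1 := by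
  have hn := h.t_norm hty hf 0
  have h4 : sz ty 44 = 4 := if_neg fun e => absurd e.1 (by decide +kernel)
  have nt : ¬ X 44 2 * t = t * X 44 2 := fun e => Rl.j_ne hf (r := 44) (by omega) (by
    have := h.two_t hf (by omega) h4
    rwa [e, mul_inv_cancel_right, left_eq_mul] at this)
  have m := X_mem (X := X) (Nat.zero_le 44) (by omega) (show 2 < sz ty 44 by omega)
  have c2 : ∀ g ∈ SS ty X 0, g * (t * z * t⁻¹) = t * z * t⁻¹ * g := fun g hg => by
    calc _ = t * (t⁻¹ * g * t * z) * t⁻¹ := by group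
      _ = _ := by rw [hc _ (inv_conj_mem_of_mem_normalizer hn hg)]; group
  have c3 : ∀ g ∈ SS ty X 0, g * (z * (t * z * t⁻¹)) = z * (t * z * t⁻¹) * g := fun g hg => by
    rw [← mul_assoc, hc g hg, mul_assoc, c2 g hg, mul_assoc z]
  rcases hf.cen (z * (t * z * t⁻¹)) (by
    calc _ = z * t * z := by group
      _ = t * (t * z * t⁻¹ * z) := by rw [hf.t_inv, ← mul_assoc, ← mul_assoc, ← mul_assoc, hf.tt, one_mul]
      _ = _ := by rw [c2 z hz]) (fun a => (c3 _ (h.j_mem a)).symm) with e | e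
  · rw [← h2, mul_right_inj, mul_inv_eq_iff_eq_mul] at e
    exact (hf.cen z e.symm fun a => (hc _ (h.j_mem a)).symm).resolve_right fun e => nt (e ▸ hc _ m)
  · exact absurd (e ▸ c3 _ m) nt

/-- From a central quotient to `Idf`.  PROOF. `ker θ` is central, of odd order (zodd).  e1: `θ d` is conjugate to `θ (j a)` with `a² = 1`; two involutions congruent modulo the central odd
kernel are equal.  e2: `|G₀ : Û| ` divides `|ker θ| * |M : θ Û|`. -/
theorem Rl.idf [Finite G] (hty : ty < 4) (hf : Fr j t) (h : Rl j t ty X) {M : Type*} [Group M]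
    (θ : SS ty X 0 →* M) (h0 : Function.Surjective θ) (h1 : θ.ker ≤ center _)
    (h2 : ∀ m : M, m * m = 1 → ∃ a : L0, a * a = 1 ∧ IsConj m (θ ⟨j a, h.j_mem a⟩))
    (h3 : Odd (((SS ty X 24).subgroupOf (SS ty X 0)).map θ).index) : Idf j ty X := by
  have k : ∀ z ∈ θ.ker, z * z = 1 → z = 1 := fun z hz e => Subtype.ext (h.zodd hty hf z.2
    (fun g hg => congrArg Subtype.val (mem_center_iff.1 (h1 hz) ⟨g, hg⟩)) (congrArg Subtype.val e))
  refine ⟨fun d hd e => ?_, ?_⟩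
  · have e' : (⟨d, hd⟩ : SS ty X 0) * ⟨d, hd⟩ = 1 := Subtype.ext e
    obtain ⟨a, a2, c⟩ := h2 (θ ⟨d, hd⟩) (by rw [← map_mul, e', map_one])
    obtain ⟨m, hm⟩ := isConj_iff.1 c
    obtain ⟨g, rfl⟩ := h0 m
    have a3 : (⟨j a, h.j_mem a⟩ : SS ty X 0) * ⟨j a, h.j_mem a⟩ = 1 := Subtype.ext (by
      change j a * j a = 1; rw [← map_mul, a2, map_one])
    have hz : g * ⟨d, hd⟩ * g⁻¹ * ⟨j a, h.j_mem a⟩ ∈ θ.ker := by
      rw [MonoidHom.mem_ker, map_mul, map_mul, map_mul, map_inv, hm, ← map_mul, a3, map_one]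
    have := k _ hz (by
      have c := mem_center_iff.1 (h1 hz) ⟨j a, h.j_mem a⟩
      rw [mul_assoc _ _ (_ * _), c, mul_assoc _ _ (⟨j a, _⟩ : SS ty X 0), a3, mul_one, conj_mul, e']; simp)
    exact ⟨g, g.2, a, congrArg Subtype.val ((eq_inv_of_mul_eq_one_left this).trans (inv_eq_of_mul_eq_one_left a3))⟩
  · have o : Odd (Nat.card θ.ker) := Nat.not_even_iff_odd.1 fun e => by
      obtain ⟨z, hz⟩ := exists_prime_orderOf_dvd_card' (hp := ⟨Nat.prime_two⟩) 2 e.two_dvd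
      have := k z z.2 (by rw [← pow_two, ← coe_pow, ← hz, pow_orderOf_eq_one]; rfl)
      rw [show z = 1 from Subtype.ext this, orderOf_one] at hz
      omega
    rw [relIndex]
    generalize (SS ty X 24).subgroupOf (SS ty X 0) = H at h3
    obtain ⟨e, he⟩ := card_map_dvd H θ
    have := Finite.of_surjective θ h0
    refine (h3.mul o).of_dvd_nat ⟨e, Nat.eq_of_mul_eq_mul_right (Nat.card_pos (α := H.map θ)) ?_⟩
    have c1 := θ.ker.card_mul_index
    rw [index_ker, MonoidHom.range_eq_top.2 h0, card_top, ← (H.map θ).card_mul_index, ← H.card_mul_index, he] at c1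
    linarith

end Cfsg.Agent.F42S
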