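import Cfsg.Agent.F42S.Bas

/-! A collector in `U` and a search for the elements of `U` with prescribed action on root elements. -/

set_option autoImplicit false

namespace Cfsg.Agent.F42S

open Cfsg Cfsg.Agent.Comp Subgroup Cfsg.Agent.PLocal.Amb
open Cfsg.Agent.WG (el el_nil el_cons el_append)

/-- A table entry. -/
def tbl (T r s : ℕ) : ℕ := Nat.land (Nat.shiftRight T (Nat.mul 6 (Nat.sub (Nat.add (Nat.mul 24 r) s) 600))) 63

/-- The first letter of `cm r s`. -/
def c1 (r s : ℕ) : ℕ := tbl 0xffffffffffffffffffffffffffffffffffffffffffffffffffffffffffffffffffffffeffffffffffffffffffffffffffffffffefbbfffffffffffffffffffffffffffffffffffffffffffffffffffffffffffffbeefffb3ffffffffffffffffffffffffffeffedfecfffaffffffffffffffffffffffffeeb7fb3ffebfeafffffffffffffffffffffb3ffffffffffffffffffffffffffffffffecfffffffffa3ffffffffffffffffffffffb3ffffffffe8fff9ffffffffffffffffffecfffffffffa3ffe7fe6fffffffffffffffb3ffffffffe8fe79bfffffffffffffffffecfffffffffa3f9ff97ffe4ffffffffffffb3ffffffffe8fff9a5fe48ffffffffffffecffffffffffe79a59238bfffffffffffefbbffffffffe89ffffffffffffffffffffbffb7fffffffa3f9bffffffffff83fffffffbadfffffffe8fff97ffffffffe0fdffffffffffb3ffffa3f9e693ffffffffffffffffffffecffffe8fe7fe58ffffffffffffddffffffb3ffffa3ffe697f8bffffffffdd73ffffbfffffafffff9fffe4ffffe0fff77fffffffbbffebffffe7ffffe3fff83ffff73ffdafefffffffabffff9bf93fffffdffddfff6bf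 r s

/-- The second letter of `cm r s`. -/
def c2 (r s : ℕ) : ℕ := tbl 0xffffffffffffffffffffffffffffffffffffffffffffffffffffffffffffffffffffffffffffffffffffffffffffffffffffffffffffffffffffffffffffffffffffffffffffffffffffffffffffffffffffffffffffffb7ffffffffffffffffffffffffffffffffeefffffffffffffffffffffffffffffffffbfffffffffffffffffffffffffffffffffffffffffffffffffffffffffffffffffffffffffffffffffffffffffffffffffffffffffffffffffbfffffffffffffffffffffffffffffffffeefedfffffffffffffffffffffffffeffffffffffffffffffffffffffffffffffbbffffffffebffffffffffffffffffffffedfffffffeaa7fffffffffffffffffffffffebaa9ffffffffffffffffffffffffffffedaffffffffffffffffffffffffffffffffbbfabfffffffffffffffffffffffffffffeffffa7ffffffffffffffffffffffbfffffffffffffffffffffffffffffffffeefffffffffffffffffffffffffe0ffffffb7fffffffffffffffffffffffdf7bffffffffffffffffbbffeafffffffff7ffffffffffffffffffefffffe9fffffffff7bfffffffffffffffffffb7fafffffffffe0ffffff r s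

/-- `[U_k, x_s] ≤ U_{bd k s}`. -/
def bd (k s : ℕ) : ℕ := tbl 0xc30c30c30c30c30c30c30c30c30c30c30c30c30c30c30c30c30c30c30c30c30c30c30c30c30c30c30c30c30c30c30c30c30c30c30c2fc30c30c30c30c30c30c30c30c30c30c2fbafc30c30c30c30c30c30c30c30c30c30c2fbafc30c30c30c30c30c30c30c30beec30b2fbafc30c30c30c30c30c30c30c2fbedc2cb2faefc30c30c30c30c30c30c30c2eb6db2cb2baeac30c30c30c30c30c30c30b2eb6db2cb2baeac30c30c30c30c30c30c2cb2eb6db2ca2baeac30c30c30c30c30c30b2cb2eb6db28a2b9eac30c30c30c30c30c2cb2cb2eb6da28a279e6c30c30c30c30c30b2cb2cb2eb68a279a79e6c30c30c30c30c2cb2cb2cb2ea289e79679e4c30c30c30c30b2cb2cb2cb28a289a59648e4c30c30c30c2cb2cb2cb2cb279a59238a48e4c30c30c2fbacb2cb2cb289e79a59238a48e4c30c30befb6cb2cb2ca289a79a59238a4824c30c30badb6cb2cb28a289679a59238a081fc30c30badb2cb2ca289e69279a59238a081fc30c30bacb2cb28a279e58e79a59238a081dc30c30b2cb2ca28a269658a79a592389d71dc30bf0b2caeca289e69648a79a092375d71dc30bb0b2baeca279e69638a782092371d71ac2fbb0b2baaca279a69238a781f91d71d69a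 k s

theorem tab_c : ∀ r < 48, 24 ≤ r → ∀ s < 48, 24 ≤ s → cm r s =
    if c1 r s = 63 then [] else if c2 r s = 63 then [c1 r s] else [c1 r s, c2 r s] := by decide +kernel

set_option synthInstance.maxSize 2000 in
theorem tab_bd : ∀ k < 49, 24 ≤ k → ∀ s < 48, 24 ≤ s → 24 ≤ bd k s ∧
    ∀ r < 48, k ≤ r → ∀ c ∈ cm s r, bd k s ≤ c := by decide +kernel

/-- All letters are positive roots. -/
def Pos (l : List ℕ) : Prop := ∀ a ∈ l, 24 ≤ a ∧ a < 48

theorem Pos.mem {l : List ℕ} (h : Pos l) : el xx l ∈ UU 24 := el_mem fun a ha => xx_mem_UU (h a ha).1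

theorem Pos.cons {l : List ℕ} {a : ℕ} (h : Pos l) (h1 : 24 ≤ a) (h2 : a < 48) : Pos (a :: l) :=
  List.forall_mem_cons.2 ⟨⟨h1, h2⟩, h⟩

/-- Insert the commutator word. -/
noncomputable def icm (I : ℕ → List ℕ → List ℕ) (a r : ℕ) (t : List ℕ) : List ℕ :=
  force (c1 a r) fun c => ite' (Nat.beq c 63) t
    (I c (force (c2 a r) fun d => ite' (Nat.beq d 63) t (I d t)))

/-- Left multiplication by a letter. -/
noncomputable def ins (f : ℕ) : ℕ → List ℕ → List ℕ :=
  Nat.rec (motive := fun _ => ℕ → List ℕ → List ℕ) (fun r l => r :: l)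
    (fun _ ih r l => List.rec (motive := fun _ => List ℕ) [r] (fun a t _ =>
      ite' (Nat.blt r a) (r :: a :: t) (ite' (Nat.beq r a) t (a :: ih r (icm ih a r t)))) l) f

/-- Correct insertion procedures. -/
def InsOK (I : ℕ → List ℕ → List ℕ) : Prop :=
  ∀ r l, 24 ≤ r → r < 48 → Pos l → Pos (I r l) ∧ el xx (I r l) = xx r * el xx l

theorem InsOK.icm {I : ℕ → List ℕ → List ℕ} (h : InsOK I) {a r : ℕ} {t : List ℕ} (h1 : 24 ≤ a)
    (h2 : a < 48) (h3 : 24 ≤ r) (h4 : r < 48) (ht : Pos t) :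
    Pos (icm I a r t) ∧ el xx (icm I a r t) = el xx (cm a r) * el xx t := by
  have k := fun c hc => tab_cm a h2 r h4 (by omega) c hc
  simp only [F42S.icm, force_eq, ite'_eq, Comp.beq_iff]
  rw [tab_c a h2 h1 r h4 h3] at k ⊢
  split_ifs at k ⊢
  · exact ⟨ht, by simp⟩
  · have := k (c1 a r) (by simp)
    simpa using h _ _ (by have := this.2 h1 h3; omega) this.1 ht
  · have a1 := k (c1 a r) (by simp)
    have a2 := k (c2 a r) (by simp)
    have b := h _ _ (by have := a2.2 h1 h3; omega) a2.1 ht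
    have := h _ _ (by have := a1.2 h1 h3; omega) a1.1 b.1
    rw [b.2] at this
    simpa [mul_assoc] using this

theorem insOK (f : ℕ) : InsOK (ins f) := by
  induction f with
  | zero => exact fun r l h1 h2 h => ⟨h.cons h1 h2, el_cons _ _⟩
  | succ f ih =>
    intro r l h1 h2 h
    cases l with
    | nil => exact ⟨h.cons h1 h2, el_cons _ _⟩
    | cons a t =>
      have ha := h a (by simp)
      have ht : Pos t := fun b hb => h b (by simp [hb])
      have e : ins (f + 1) r (a :: t) = ite' (Nat.blt r a) (r :: a :: t)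
        (ite' (Nat.beq r a) t (a :: ins f r (icm (ins f) a r t))) := rfl
      simp only [e, ite'_eq, Comp.beq_iff]
      split_ifs with k1 k2
      · exact ⟨h.cons h1 h2, el_cons _ _⟩
      · exact ⟨ht, by rw [k2, el_cons, ← mul_assoc, xx_sq, one_mul]⟩
      · have b := ih.icm ha.1 ha.2 h1 h2 ht
        have := ih _ _ h1 h2 b.1
        refine ⟨this.1.cons ha.1 ha.2, ?_⟩
        rw [el_cons, this.2, b.2, el_cons, ← mul_assoc (xx r) (xx a), xx_comm ha.2 h2 (by omega)]
        simp only [mul_assoc]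

/-- The normal form. -/
noncomputable def nf (l : List ℕ) : List ℕ :=
  List.rec (motive := fun _ => List ℕ) [] (fun a _ ih => ins 25 a ih) l

theorem nf_ok {l : List ℕ} (h : Pos l) : Pos (nf l) ∧ el xx (nf l) = el xx l := by
  induction l with
  | nil => exact ⟨h, rfl⟩
  | cons a t ih =>
    have := ih fun b hb => h b (by simp [hb])
    have k := insOK 25 a _ (h a (by simp)).1 (h a (by simp)).2 this.1
    rw [this.2, ← el_cons] at k
    exact k

/-- Conjugation by a letter. -/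
noncomputable def cjl (k : ℕ) (l : List ℕ) : List ℕ :=
  List.rec (motive := fun _ => List ℕ) [] (fun a _ ih => ins 25 a (icm (ins 25) k a ih)) l

theorem cjl_ok {k : ℕ} (h1 : 24 ≤ k) (h2 : k < 48) {l : List ℕ} (h : Pos l) :
    Pos (cjl k l) ∧ el xx (cjl k l) = xx k * el xx l * xx k := by
  induction l with
  | nil => exact ⟨h, by simpa [cjl] using (xx_sq k).symm⟩
  | cons a t ih =>
    have := ih fun b hb => h b (by simp [hb])
    have ha := h a (by simp)
    have b := (insOK 25).icm h1 h2 ha.1 ha.2 this.1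
    have c := insOK 25 a _ ha.1 ha.2 b.1
    refine ⟨c.1, c.2.trans ?_⟩
    rw [b.2, this.2, ← mul_assoc, ← xx_conj h2 ha.2 (by omega), el_cons]
    simp only [mul_assoc]
    rw [← mul_assoc (xx k) (xx k), xx_sq, one_mul]

/-- `h < b` is smaller than all the letters of `t`, `t'`. -/
noncomputable def mn (b h : ℕ) (t t' : List ℕ) : Bool :=
  and' (Nat.blt h b) (and' (allL t (Nat.blt h)) (allL t' (Nat.blt h)))

/-- Two normal forms differ below `b`. -/
noncomputable def dif (b : ℕ) (l : List ℕ) : List ℕ → Bool :=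
  List.rec (motive := fun _ => List ℕ → Bool)
    (fun l' => List.rec (motive := fun _ => Bool) false (fun h t _ => mn b h t []) l')
    (fun a t ih l' => List.rec (motive := fun _ => Bool) (mn b a t []) (fun h t' _ =>
      ite' (Nat.beq a h) (ih t') (ite' (Nat.blt a h) (mn b a t (h :: t')) (mn b h t' (a :: t)))) l') l

theorem mn_ok {b h : ℕ} {t t' : List ℕ} (k : mn b h t t' = true) (hp : Pos (h :: t)) :
    (el xx (h :: t))⁻¹ * el xx t' ∉ UU b := fun hm => by
  simp only [mn, and'_eq_true, allL_iff, Comp.blt_iff] at k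
  have hh := hp h (by simp)
  have m1 : el xx t ∈ UU (h + 1) := el_mem fun a ha => xx_mem_UU (k.2.1 a ha)
  have m2 : el xx t' ∈ UU (h + 1) := el_mem fun a ha => xx_mem_UU (k.2.2 a ha)
  refine not_mem_UU hh.1 hh.2 ?_
  have := mul_mem (mul_mem m1 (UU_mono k.1 hm)) (inv_mem m2)
  simpa [mul_assoc, xx_inv] using this

theorem mn_ok' {b h : ℕ} {t t' : List ℕ} (k : mn b h t t' = true) (hp : Pos (h :: t)) :
    (el xx t')⁻¹ * el xx (h :: t) ∉ UU b := fun hm => mn_ok k hp (by simpa using inv_mem hm)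

theorem dif_ok {b : ℕ} {l l' : List ℕ} (k : dif b l l' = true) (h : Pos l) (h' : Pos l') :
    (el xx l)⁻¹ * el xx l' ∉ UU b := by
  induction l generalizing l' with
  | nil =>
    cases l' with
    | nil => exact absurd k (by simp [dif])
    | cons a t => exact mn_ok' k h'
  | cons a t ih =>
    cases l' with
    | nil => exact mn_ok k h
    | cons c t' =>
      have e : dif b (a :: t) (c :: t') = ite' (Nat.beq a c) (dif b t t')
        (ite' (Nat.blt a c) (mn b a t (c :: t')) (mn b c t' (a :: t))) := rfl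
      simp only [e, ite'_eq, Comp.beq_iff] at k
      split_ifs at k with k1 k2
      · have := ih k (fun b hb => h b (by simp [hb])) fun b hb => h' b (by simp [hb])
        simpa [k1, mul_assoc] using this
      · exact mn_ok k h
      · exact mn_ok' k h'

/-- A test `(s, j, T)`: `w x_s w⁻¹ ∈ τ U_j` for some `τ ∈ T`. -/
abbrev Tst : Type := ℕ × ℕ × List (List ℕ)

/-- The test fails for all `w ∈ U_k p`, when `c = p x_s p⁻¹`. -/
noncomputable def chk (k : ℕ) (e : Tst) (c : List ℕ) : Bool :=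
  force (Nat.min (bd k e.1) e.2.1) fun b => allL e.2.2 fun τ => dif b c τ

/-- Evaluate a list. -/
noncomputable def frcL (l : List ℕ) : (List ℕ → Bool) → Bool :=
  List.rec (motive := fun _ => (List ℕ → Bool) → Bool) (fun k => k [])
    (fun a _ ih k => force a fun a' => ih fun t => k (a' :: t)) l

theorem frcL_eq (l : List ℕ) (k : List ℕ → Bool) : frcL l k = k l := by
  induction l generalizing k with
  | nil => rfl
  | cons a t ih => exact (force_eq a fun a' => frcL t fun t => k (a' :: t)).trans (ih _)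

/-- Update the state. -/
noncomputable def upd (k : ℕ) (st : List (Tst × List ℕ)) : (List (Tst × List ℕ) → Bool) → Bool :=
  List.rec (motive := fun _ => (List (Tst × List ℕ) → Bool) → Bool) (fun C => C [])
    (fun e _ ih C => frcL (cjl k e.2) fun c => or' (chk (Nat.succ k) e.1 c) (ih fun t => C ((e.1, c) :: t))) st

theorem upd_ok {k : ℕ} {st : List (Tst × List ℕ)} {C : List (Tst × List ℕ) → Bool}
    (h : upd k st C = true) : (∃ e ∈ st, chk (k + 1) e.1 (cjl k e.2) = true) ∨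
      C (st.map fun e => (e.1, cjl k e.2)) = true := by
  induction st generalizing C with
  | nil => exact .inr h
  | cons e t ih =>
    have e1 : upd k (e :: t) C = frcL (cjl k e.2) fun c => or' (chk (k + 1) e.1 c)
      (upd k t fun t => C ((e.1, c) :: t)) := rfl
    rw [e1, frcL_eq, or'_eq_true] at h
    rcases h with h | h
    · exact .inl ⟨e, by simp, h⟩
    · exact (ih h).imp_left fun ⟨a, ha, h⟩ => ⟨a, by simp [ha], h⟩

/-- The search. -/
noncomputable def go (lf : List ℕ → Bool) (n : ℕ) : ℕ → List ℕ → List (Tst × List ℕ) → Bool :=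
  Nat.rec (motive := fun _ => ℕ → List ℕ → List (Tst × List ℕ) → Bool) (fun _ p _ => lf p)
    (fun _ ih k p st => force (Nat.succ k) fun k' =>
      and' (or' (anyL st fun e => chk k' e.1 e.2) (ih k' p st)) (upd k st fun st' => ih k' (k :: p) st')) n

theorem comm_bd {k s : ℕ} (hk : 24 ≤ k) (hk' : k ≤ 48) (h1 : 24 ≤ s) (h2 : s < 48) {u : L0}
    (hu : u ∈ UU k) : u * xx s * u⁻¹ * (xx s)⁻¹ ∈ UU (bd k s) := by
  have t := tab_bd k (by omega) hk s h2 h1
  refine comm_mem (T := {xx s}) (UU_norm t.1) ((closure_le _).1 (UU_mono hk))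
    (Set.singleton_subset_iff.2 (xx_mem_UU h1)) ?_ hu (subset_closure rfl)
  rintro _ ⟨r, hr, rfl⟩ _ rfl
  rw [mem_up] at hr
  rw [xx_inv, xx_inv, mul_assoc (xx r), mul_assoc (xx r), xx_conj h2 hr.2 (by omega), ← mul_assoc,
    xx_sq, one_mul]
  exact el_mem fun a ha => xx_mem_UU (t.2 r hr.2 hr.1 a ha)

/-- The state is valid for `w` and the prefix `p`. -/
def StOK (w : L0) (p : List ℕ) (e : Tst × List ℕ) : Prop :=
  24 ≤ e.1.1 ∧ e.1.1 < 48 ∧ Pos e.2 ∧ el xx e.2 = el xx p * xx e.1.1 * (el xx p)⁻¹ ∧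
    ∃ τ ∈ e.1.2.2, Pos τ ∧ (el xx τ)⁻¹ * (w * xx e.1.1 * w⁻¹) ∈ UU e.1.2.1

theorem chk_ok {k : ℕ} (hk : 24 ≤ k) (hk' : k ≤ 48) {p : List ℕ} (hp : Pos p) {u : L0} (hu : u ∈ UU k)
    {e : Tst × List ℕ} (h : StOK (u * el xx p) p e) : ¬ chk k e.1 e.2 = true := fun hc => by
  obtain ⟨h1, h2, h3, h4, τ, h5, h6, h7⟩ := h
  simp only [chk, force_eq, allL_iff] at hc
  refine dif_ok (hc τ h5) h3 h6 ?_
  have t := (tab_bd k (by omega) hk _ h2 h1).1
  have a := comm_bd hk hk' h1 h2 (inv_conj_mem_of_mem_normalizer (UU_norm hk hp.mem) hu)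
  have b := PLocal.Amb.conj_mem_of_mem_normalizer (UU_norm t hp.mem)
    (inv_conj_mem_of_mem_normalizer (UU_norm t (xx_mem_UU h1)) a)
  have := mul_mem (UU_mono (Nat.min_le_left _ e.1.2.1) b) (UU_mono (Nat.min_le_right (bd k e.1.1) _) (inv_mem h7))
  rw [h4]
  convert this using 1
  group

theorem go_ok {lf : List ℕ → Bool} {n k : ℕ} {p : List ℕ} {st : List (Tst × List ℕ)}
    (h : go lf n k p st = true) (hk : 24 ≤ k) (hn : k + n ≤ 48) (hp : Pos p) {u : L0} (hu : u ∈ UU k)
    (hs : ∀ e ∈ st, StOK (u * el xx p) p e) :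
    ∃ q, lf q = true ∧ ∃ v ∈ UU (k + n), u * el xx p = v * el xx q := by
  induction n generalizing k p st u with
  | zero => exact ⟨p, h, u, hu, rfl⟩
  | succ n ih =>
    have e1 : go lf (n + 1) k p st = force (k + 1) fun k' => and' (or' (anyL st fun e => chk k' e.1 e.2)
      (go lf n k' p st)) (upd k st fun st' => go lf n k' (k :: p) st') := rfl
    simp only [e1, force_eq, and'_eq_true, or'_eq_true, anyL_iff] at h
    rw [show k + (n + 1) = k + 1 + n by omega]
    rcases UU_step hk hu with h1 | h1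
    · exact ih (h.1.resolve_left fun ⟨e, he, hc⟩ => chk_ok (by omega) (by omega) hp h1 (hs e he) hc)
        (by omega) (by omega) hp h1 hs
    · have h2 := inv_conj_mem_of_mem_normalizer (UU_norm (k := k + 1) (by omega) (xx_mem_UU hk)) h1
      have e2 : u * el xx p = (xx k)⁻¹ * (xx k * u) * xx k * el xx (k :: p) := by
        rw [el_cons, inv_mul_cancel_left, mul_assoc, ← mul_assoc (xx k), xx_sq, one_mul]
      have hp' := hp.cons hk (by omega)
      have hs' : ∀ e ∈ st, StOK (u * el xx p) (k :: p) (e.1, cjl k e.2) := fun e he => by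
        obtain ⟨a1, a2, a3, a4, a5⟩ := hs e he
        have := cjl_ok hk (by omega) a3
        refine ⟨a1, a2, this.1, ?_, a5⟩
        rw [this.2, a4, el_cons, mul_inv_rev, xx_inv]
        simp only [mul_assoc]
      rw [e2] at hs' ⊢
      refine ih ((upd_ok h.2).resolve_left fun ⟨e, he, hc⟩ =>
        chk_ok (by omega) (by omega) hp' h2 (hs' e he) hc) (by omega) (by omega) hp' h2 ?_
      simpa only [List.forall_mem_map] using hs'

/-- The search from level `k` to level `k + n`. -/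
noncomputable def srch (lf : List ℕ → Bool) (k n : ℕ) (T : List Tst) : Bool :=
  and' (allL T fun e => and' (Nat.ble 24 e.1) (and' (Nat.blt e.1 48)
    (allL e.2.2 fun τ => allL τ fun a => and' (Nat.ble 24 a) (Nat.blt a 48))))
    (go lf n k [] (List.rec (motive := fun _ => List (Tst × List ℕ)) [] (fun e _ ih => (e, [e.1]) :: ih) T))

theorem srch_ok {lf : List ℕ → Bool} {k n : ℕ} {T : List Tst} (h : srch lf k n T = true) (hk : 24 ≤ k)
    (hn : k + n ≤ 48) {w : L0} (hw : w ∈ UU k)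
    (hT : ∀ e ∈ T, ∃ τ ∈ e.2.2, (el xx τ)⁻¹ * (w * xx e.1 * w⁻¹) ∈ UU e.2.1) :
    ∃ q, lf q = true ∧ ∃ v ∈ UU (k + n), w = v * el xx q := by
  simp only [srch, and'_eq_true, allL_iff, Comp.ble_iff, Comp.blt_iff] at h
  have e : ∀ T : List Tst, List.rec (motive := fun _ => List (Tst × List ℕ)) []
      (fun e _ ih => (e, [e.1]) :: ih) T = T.map fun e => (e, [e.1]) := fun T => by
    induction T with
    | nil => rfl
    | cons a t ih => exact congrArg _ ih
  have := go_ok h.2 hk hn (fun _ h => absurd h (by simp)) hw (by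
    rw [e, List.forall_mem_map]
    intro a ha
    obtain ⟨τ, h1, h2⟩ := hT a ha
    have b := h.1 a ha
    exact ⟨b.1, b.2.1, by simpa [Pos] using ⟨b.1, b.2.1⟩, by simp, τ, h1, b.2.2 τ h1, by simpa using h2⟩)
  simpa using this

/-- Tests: `[w, x_s] ∈ U_j`. -/
def tC (j : ℕ) (l : List ℕ) : List Tst := l.map fun s => (s, j, [[s]])

/-- Tests: `[w, x_s] ∈ {1, z}`. -/
noncomputable def tZ (z : List ℕ) (l : List ℕ) : List Tst := l.map fun s => (s, 48, [[s], nf (z ++ [s])])

theorem tC_ok {j : ℕ} (hj : 24 ≤ j) {l : List ℕ} (hl : Pos l) {w : L0}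
    (h : ∀ s ∈ l, w * xx s * w⁻¹ * xx s ∈ UU j) :
    ∀ e ∈ tC j l, ∃ τ ∈ e.2.2, (el xx τ)⁻¹ * (w * xx e.1 * w⁻¹) ∈ UU e.2.1 := by
  simp only [tC, List.forall_mem_map]
  refine fun s hs => ⟨[s], by simp, ?_⟩
  have := inv_conj_mem_of_mem_normalizer (UU_norm hj (xx_mem_UU (hl s hs).1)) (h s hs)
  simpa [mul_assoc, xx_sq] using this

theorem tC_ok' {l : List ℕ} (hl : Pos l) {w : L0} (h : ∀ s ∈ l, w * xx s = xx s * w) :
    ∀ e ∈ tC 48 l, ∃ τ ∈ e.2.2, (el xx τ)⁻¹ * (w * xx e.1 * w⁻¹) ∈ UU e.2.1 :=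
  tC_ok (by omega) hl fun s hs => by rw [h s hs, mul_inv_cancel_right, xx_sq]; exact one_mem _

theorem tZ_ok {z l : List ℕ} (hz : Pos z) (hl : Pos l) {w : L0}
    (h : ∀ s ∈ l, w * xx s * w⁻¹ * xx s = 1 ∨ w * xx s * w⁻¹ * xx s = el xx z) :
    ∀ e ∈ tZ z l, ∃ τ ∈ e.2.2, (el xx τ)⁻¹ * (w * xx e.1 * w⁻¹) ∈ UU e.2.1 := by
  simp only [tZ, List.forall_mem_map]
  intro s hs
  rcases h s hs with k | k <;> rw [← eq_mul_inv_iff_mul_eq, xx_inv] at k
  · exact ⟨[s], by simp, by simp [k]⟩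
  · refine ⟨nf (z ++ [s]), by simp, ?_⟩
    rw [(nf_ok (List.forall_mem_append.2 ⟨hz, by simpa using hl s hs⟩)).2, k]
    simp

/-- Leaves: a subword of `l`, or a word not commuting with one of the `x_s`, `s ∈ N`. -/
noncomputable def lfM (N l : List ℕ) (M : ℕ) (p : List ℕ) : Bool :=
  or' (anyL N fun s => not' (Q (p ++ [s]) (s :: p))) (anyLT M fun m => Q p (bw l m))

/-- The search for elements, down to the last level. -/
theorem srch_M {N l : List ℕ} {M : ℕ} {T : List Tst} (h : srch (lfM N l M) 24 24 T = true) {w : L0}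
    (hw : w ∈ UU 24) (hT : ∀ e ∈ T, ∃ τ ∈ e.2.2, (el xx τ)⁻¹ * (w * xx e.1 * w⁻¹) ∈ UU e.2.1)
    (hN : ∀ s ∈ N, w * xx s = xx s * w) : ∃ m < M, w = el xx (bw l m) := by
  obtain ⟨q, h1, v, hv, e⟩ := srch_ok h le_rfl le_rfl hw hT
  rw [UU_top le_rfl, mem_bot] at hv
  rw [hv, one_mul] at e
  simp only [lfM, or'_eq_true, anyL_iff, anyLT_iff, not'_eq_true, Q_iff] at h1
  rcases h1 with ⟨s, hs, k⟩ | h1
  · exact absurd (by simpa [e] using hN s hs) k
  · exact e ▸ h1

end Cfsg.Agent.F42S
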