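import Cfsg.Agent.F42S.St0A
import Cfsg.Agent.Transfer.ThompsonExtremal
import Cfsg.Agent.Transfer.ThompsonTransfer
import Cfsg.Agent.Z2S.Par

/-! Step 0: `t` is fused to `t z_s` or `t z_l`. -/

set_option autoImplicit false

namespace Cfsg.Agent.F42S

open Cfsg Cfsg.Agent.Comp Subgroup Cfsg.Agent.PLocal.Amb
open Cfsg.Agent.WG (el el_nil el_cons el_append)
open scoped commutatorElement

variable {G : Type*} [Group G] {j : L0 →* G} {t : G}

namespace St0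

theorem bw4 {m : ℕ} (hm : m < 4) : el xx (bw [44, 47] m) = 1 ∨ el xx (bw [44, 47] m) = xx 44 ∨
    el xx (bw [44, 47] m) = xx 47 ∨ el xx (bw [44, 47] m) = xx 47 * xx 44 := by
  have c : xx 44 * xx 47 = xx 47 * xx 44 := V_comm (xx_mem_UU (by omega)) (xx_mem_UU (by omega))
  interval_cases m <;> simp [bw_cons, bw_nil, c]

theorem transfer [Finite G] (hP : _root_.commutator G = ⊤) {S J : Subgroup G} (hS : Odd S.index)
    (hc : ∀ x ∈ S, ∀ y ∈ S, x * y * x⁻¹ * y⁻¹ ∈ J) (t2 : t * t = 1) (ht : t ∈ S)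
    (hh : ∀ g : G, g * t * g⁻¹ ∈ S → g * t * g⁻¹ * t ∈ J) : t ∈ J := by
  have hn : (J.subgroupOf S).Normal := ⟨fun x hx y => by
    have := mul_mem (hc y y.2 x x.2) (show (x : G) ∈ J from hx)
    rwa [inv_mul_cancel_right] at this⟩
  let : CommGroup (S ⧸ J.subgroupOf S) :=
    { (inferInstance : Group (S ⧸ J.subgroupOf S)) with
      mul_comm := fun a b => by
        obtain ⟨a, rfl⟩ := QuotientGroup.mk_surjective a
        obtain ⟨b, rfl⟩ := QuotientGroup.mk_surjective b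
        rw [← QuotientGroup.mk_mul, ← QuotientGroup.mk_mul, QuotientGroup.eq, mem_subgroupOf]
        simpa [mul_assoc] using hc _ (inv_mem b.2) _ (inv_mem a.2) }
  have pw : ∀ {X : Type _} [Group X] {a : X}, a * a = 1 → ∀ i, a ^ (2 * i + 1) = a := fun e i => by
    rw [pow_succ, pow_mul, sq, e, one_pow, one_mul]
  have h1 := Transfer.transfer_eq_pow_of_forall (QuotientGroup.mk' (J.subgroupOf S)) t
    (QuotientGroup.mk' _ ⟨t, ht⟩) fun g k hk => by
      rw [← map_pow, ← mul_inv_eq_one, ← map_inv, ← map_mul, QuotientGroup.mk'_apply,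
        QuotientGroup.eq_one_iff, mem_subgroupOf]
      change g⁻¹ * t ^ k * g * (t ^ k)⁻¹ ∈ J
      rcases Nat.even_or_odd' k with ⟨i, rfl | rfl⟩
      · rw [pow_mul, sq, t2, one_pow]; simp
      · rw [pw t2] at hk ⊢
        simpa [inv_eq_of_mul_eq_one_right t2] using hh g⁻¹ (by rwa [inv_inv])
  obtain ⟨i, hi⟩ := hS
  rw [MonoidHom.mem_ker.1 (Abelianization.commutator_subset_ker _ (hP ▸ mem_top t)), hi, ← map_pow,
    pw (a := (⟨t, ht⟩ : S)) (Subtype.ext t2)] at h1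
  exact (QuotientGroup.eq_one_iff (⟨t, ht⟩ : S)).1 h1.symm

local notation "zl" => j (xx 47)
local notation "zs" => j (xx 44)
local notation "T₀" => T0 j t
local notation "J₀" => Subgroup.map j (UU 24)

variable (h : Fr j t) {x : G}
include h

theorem cT {g : G} (hg : g ∈ T₀) : Commute g t ∧ Commute g zl ∧ Commute g zs := by
  obtain ⟨u, hu, e⟩ := h.mem_T0.1 hg
  have h1 : Commute (j u) zl := Commute.map (c47.2 (XX_le.2 (fun r hr => xx_mem (by simp [hr])) hu)) j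
  have h2 : Commute (j u) zs := Commute.map (c44.2 (UU_mono (by omega) hu)) j
  refine ⟨h.inn_c ⟨u, e⟩, ?_⟩
  rcases e with rfl | rfl
  exacts [⟨h1, h2⟩, ⟨.mul_left (h.tj _) h1, .mul_left (h.tj _) h2⟩]

theorem ne_t {a u : L0} : j a ≠ t * j u := fun e =>
  h.t_ne (a * u⁻¹) (by rw [map_mul, map_inv, e, mul_inv_cancel_right])

theorem tJ : t ∉ J₀ := fun ⟨a, _, e⟩ => h.t_ne a e.symm

theorem memJ {a : L0} (ha : j a ∈ T₀) : a ∈ UU 24 := by
  obtain ⟨u, hu, e | e⟩ := h.mem_T0.1 ha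
  exacts [h.inj e ▸ hu, (ne_t h e).elim]

theorem cosJ {g : G} (hg : g ∈ T₀) : g * t ∈ J₀ ∨ g ∈ J₀ := by
  obtain ⟨u, hu, rfl | rfl⟩ := h.mem_T0.1 hg
  exacts [.inr ⟨u, hu, rfl⟩, .inl ⟨u, hu, by rw [h.tj, mul_assoc, h.tt, mul_one]⟩]

theorem ls : zl ≠ zs ∧ zl * zl = 1 ∧ zs * zs = 1 ∧ zl * zs ≠ 1 ∧ zl * zs * (zl * zs) = 1 := by
  have h1 : zl ≠ zs := fun e => ncls.1 (h.inj e ▸ IsConj.refl _)
  have h2 : ∀ r, j (xx r) * j (xx r) = 1 := fun r => by rw [← map_mul, xx_sq, map_one]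
  have h3 := (cT h (le_sup_right (b := J₀) ⟨_, xx_mem_UU (r := 47) (by omega), rfl⟩)).2.2
  refine ⟨h1, h2 _, h2 _, fun e => h1 (mul_right_cancel (e.trans (h2 _).symm)), ?_⟩
  rw [h3.symm.mul_mul_mul_comm, h2, h2, mul_one]

theorem fix (n1 : ¬ Sw j t) (n2 : ¬ Sw (j.comp gam) t) (k : G) (hk : k ∈ 𝐍[T₀])
    (h1 : k * zl * k⁻¹ = zl) : k ∈ T₀ := by
  have h2 : k * t = t * k := not_not.1 fun e => (h.sw_of_move hk h1 e).elim n1 n2
  obtain ⟨a, e⟩ := h.inn_of h2 (r := 47) (by omega) (mul_inv_eq_iff_eq_mul.1 h1)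
  have h3 : j a ∈ 𝐍[T₀] := by
    rcases e with rfl | rfl
    exacts [hk, (mul_mem_cancel_left (le_normalizer (le_sup_left (a := zpowers t)
      (mem_zpowers t)))).1 hk]
  refine h.mem_T0.2 ⟨a, norm_U.le (mem_normalizer_of_cj_le (cj_le_iff_forall.2 fun u hu =>
    memJ h ?_)), e⟩
  rw [map_mul, map_mul, map_inv]
  exact conj_mem_of_mem_normalizer h3 (le_sup_right (b := J₀) ⟨u, hu, rfl⟩)

variable (f : ∀ k ∈ 𝐍[T0 j t], k * j (xx 47) * k⁻¹ = j (xx 47) → k ∈ T0 j t)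
include f

theorem sw (hx : x ∈ 𝐍[T₀]) (hx' : x ∉ T₀) : x * zl * x⁻¹ = zs ∧ x * zs * x⁻¹ = zl :=
  (h.nz hx).1.resolve_left fun e => hx' (f x hx e.1)

theorem mul2 {y : G} (hx : x ∈ 𝐍[T₀]) (hx' : x ∉ T₀) (hy : y ∈ 𝐍[T₀]) (hy' : y ∉ T₀) :
    x * y ∈ T₀ := f _ (mul_mem hx hy) (.trans (by rw [← (sw h f hy hy').1]; group) (sw h f hx hx').2)

theorem cZ (hx : x ∈ 𝐍[T₀]) : Commute x (zl * zs) := by
  by_cases e : x ∈ T₀
  · exact (cT h e).2.1.mul_right (cT h e).2.2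
  · refine mul_inv_eq_iff_eq_mul.1 ?_
    rw [← conj_mul, (sw h f hx e).1, (sw h f hx e).2]
    exact (cT h (le_sup_right (b := J₀) ⟨_, xx_mem_UU (r := 44) (by omega), rfl⟩)).2.1

theorem xt (hx : x ∈ 𝐍[T₀]) : x * t * x⁻¹ = t ∨ x * t * x⁻¹ = t * (zl * zs) := by
  by_cases e : x ∈ T₀
  · exact .inl (mul_inv_eq_iff_eq_mul.2 (cT h e).1)
  obtain ⟨m, hm, e1⟩ := (h.nz hx).2
  have e2 : x * (x * t * x⁻¹) * x⁻¹ = t :=
    .trans (by group) (mul_inv_eq_iff_eq_mul.2 (cT h (mul2 h f hx e hx e)).1)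
  rcases bw4 hm with k | k | k | k <;> rw [k] at e1
  · exact .inl (by simpa using e1)
  · rw [e1, ← conj_mul, e1, (sw h f hx e).2, mul_assoc, mul_eq_left, mul_eq_one_comm] at e2
    exact ((ls h).2.2.2.1 e2).elim
  · rw [e1, ← conj_mul, e1, (sw h f hx e).1, mul_assoc, mul_eq_left] at e2
    exact ((ls h).2.2.2.1 e2).elim
  · exact .inr (by rw [e1, map_mul])

theorem pN : IsPGroup 2 𝐍[T₀] := isPGroup_iff.2 fun g hg => by
  obtain ⟨k, hk⟩ := isPGroup_iff.1 h.pT0 (g * g) (by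
    by_cases e : g ∈ T₀
    exacts [mul_mem e e, mul2 h f hg e hg e])
  exact ⟨k + 1, by rw [pow_succ', pow_mul, sq, hk]⟩

variable [Finite G]

theorem selfN (hx : x ∈ 𝐍[T₀]) (hx' : x ∉ T₀) : 𝐍[𝐍[T₀]] ≤ 𝐍[T₀] := fun y hy => by
  have d1 : ⁅𝐍[T₀], 𝐍[T₀]⁆ ≤ T₀ := commutator_le.2 fun a ha b hb => by
    rw [commutatorElement_def]
    by_cases e : a ∈ T₀
    · simpa only [mul_assoc] using mul_mem e (conj_mem_of_mem_normalizer hb (inv_mem e))
    by_cases e' : b ∈ T₀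
    · exact mul_mem (conj_mem_of_mem_normalizer ha e') (inv_mem e')
    rw [mul_assoc]
    exact mul_mem (mul2 h f ha e hb e') (mul2 h f (inv_mem ha) (mt inv_mem_iff.1 e) (inv_mem hb)
      (mt inv_mem_iff.1 e'))
  have d2 : y * zl * y⁻¹ ∈ T₀ := d1 (conj_mem_of_mem_normalizer (le_normalizer_commutator le_rfl
    le_rfl hy) (commutator_mono le_normalizer le_normalizer
      (h.comm_T0.ge ⟨_, com_U (by omega) (by decide), rfl⟩)))
  have d3 : ∀ g ∈ 𝐍[T₀], y * zl * y⁻¹ * g * (y * zl * y⁻¹)⁻¹ * g⁻¹ = 1 ∨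
      y * zl * y⁻¹ * g * (y * zl * y⁻¹)⁻¹ * g⁻¹ = y * (zl * zs) * y⁻¹ := fun g hg => by
    have a := inv_conj_mem_of_mem_normalizer hy hg
    rw [show y * zl * y⁻¹ * g * (y * zl * y⁻¹)⁻¹ * g⁻¹ =
      y * (zl * (y⁻¹ * g * y * zl * (y⁻¹ * g * y)⁻¹)⁻¹) * y⁻¹ by group]
    by_cases e : y⁻¹ * g * y ∈ T₀
    · exact .inl (by rw [(cT h e).2.1.eq]; group)
    · exact .inr (by rw [(sw h f a e).1, inv_eq_of_mul_eq_one_right (ls h).2.2.1])
  have d4 : ∀ g ∈ 𝐍[T₀], Commute g (y * (zl * zs) * y⁻¹) := fun g hg => by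
    have := (cZ h f (inv_conj_mem_of_mem_normalizer hy hg)).map (MulAut.conj y)
    simpa [mul_assoc] using this
  have d5 : ∀ g ∈ T₀, Commute g (y * zl * y⁻¹) := by
    by_contra! hc
    obtain ⟨g, hg, hc⟩ := hc
    have c1 := (d3 g (le_normalizer hg)).resolve_left fun e =>
      hc (mul_inv_eq_iff_eq_mul.1 (mul_inv_eq_one.1 e)).symm
    obtain ⟨c, -, c2⟩ := h.comm_T0.le (commutator_mem_commutator d2 hg)
    rw [commutatorElement_def, c1] at c2
    have jU : ∀ s, 24 ≤ s → j (xx s) ∈ 𝐍[T₀] := fun s hs =>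
      le_normalizer (le_sup_right (b := J₀) ⟨_, xx_mem_UU hs, rfl⟩)
    obtain ⟨m, hm, c3⟩ := z2 (w := c) fun s hs _ => .inl (h.inj (by
      rw [map_mul, map_mul, map_mul, map_inv, c2, ← (d4 _ (jU s hs)).eq, mul_inv_cancel_right,
        ← map_mul, xx_sq]))
    have c4 : y * (zl * zs) * y⁻¹ = zl * zs := by
      have := (d4 x hx).eq
      rcases bw4 hm with k | k | k | k <;> rw [← c2, c3, k] at this ⊢
      · exact ((ls h).2.2.2.1 (by simpa [c3, k] using c2.symm)).elim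
      · exact ((ls h).1 ((sw h f hx hx').2.symm.trans (mul_inv_eq_iff_eq_mul.2 this))).elim
      · exact ((ls h).1 ((mul_inv_eq_iff_eq_mul.2 this).symm.trans (sw h f hx hx').1)).elim
      · exact map_mul _ _ _
    obtain ⟨w, -, e⟩ := h.mem_T0.1 d2
    obtain ⟨m, hm, c5⟩ := z2 (w := w) fun s hs _ => by
      have e1 : j (w * xx s * w⁻¹ * xx s) =
          y * zl * y⁻¹ * j (xx s) * (y * zl * y⁻¹)⁻¹ * (j (xx s))⁻¹ := by
        rw [← map_inv j (xx s), xx_inv, map_mul, map_mul, map_mul, map_inv]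
        rcases e with e | e <;> rw [e]
        rw [h.tj, mul_assoc _ t, h.tj]
        group
      exact (d3 _ (jU s hs)).imp (fun k => h.inj (by rw [e1, k, map_one]))
        fun k => h.inj (by rw [e1, k, c4, map_mul])
    have c6 : Commute g (j w) := by
      rcases bw4 hm with k | k | k | k <;> rw [c5, k]
      exacts [map_one j ▸ .one_right g, (cT h hg).2.2, (cT h hg).2.1,
        map_mul j _ _ ▸ (cT h hg).2.1.mul_right (cT h hg).2.2]
    rcases e with e | e <;> rw [e] at hc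
    exacts [hc c6, hc ((cT h hg).1.mul_right c6)]
  exact inv_mem_iff.1 (mem_normalizer_of_cj_le (cj_le_iff_forall.2 fun g hg => by
    rw [inv_inv]
    refine f _ (inv_conj_mem_of_mem_normalizer hy (le_normalizer hg)) ?_
    rw [show y⁻¹ * g * y * zl * (y⁻¹ * g * y)⁻¹ = y⁻¹ * (g * (y * zl * y⁻¹)) * g⁻¹ * y by group,
      (d5 g hg).eq]
    group))

theorem syl (hx : x ∈ 𝐍[T₀]) (hx' : x ∉ T₀) : IsSyl 2 𝐍[T₀] ⊤ :=
  have := Fact.mk Nat.prime_two
  isSyl_of_isSyl_normalizer ⟨le_inf le_top le_normalizer, pN h f,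
    fun _ _ _ e => e.trans (inf_le_right.trans (selfN h f hx hx'))⟩

theorem ncen (hx : x ∈ 𝐍[T₀]) (hx' : x ∉ T₀) {c : G} (hc : ∀ g ∈ 𝐍[T₀], Commute g c) :
    ¬ IsConj c zl := fun e => by
  have := Fact.mk Nat.prime_two
  obtain ⟨g, e⟩ := isConj_iff.1 e
  have h1 : IsSyl 2 T₀ (centralizer {zl}) := isSyl_of_isSyl_normalizer
    ⟨le_inf (fun k hk => mem_centralizer_singleton_iff.2 (cT h hk).2.1) le_normalizer, h.pT0,
      fun R _ _ a k hk => f k (a hk).2 (mul_inv_eq_iff_eq_mul.2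
        (mem_centralizer_singleton_iff.1 (a hk).1))⟩
  have h2 := h1.card_le (isPGroup_cj g (pN h f)) (by
    rw [← e, centralizer_singleton_conj]
    exact cj_mono g fun k hk => mem_centralizer_singleton_iff.2 (hc k hk))
  rw [card_cj] at h2
  exact hx' ((eq_of_le_of_card_ge le_normalizer h2).ge hx)

theorem burn (hx : x ∈ 𝐍[T₀]) (hx' : x ∉ T₀) {c d : G} (hc : ∀ g ∈ 𝐍[T₀], Commute g c)
    (hd : ∀ g ∈ 𝐍[T₀], Commute g d) (e : IsConj c d) : c = d := by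
  have := Fact.mk Nat.prime_two
  obtain ⟨g, rfl⟩ := isConj_iff.1 e
  have h1 := ((syl h f hx hx').mono (K := centralizer {c})
    (fun k hk => mem_centralizer_singleton_iff.2 (hc k hk)) le_top).cj g
  rw [← centralizer_singleton_conj] at h1
  obtain ⟨y, hy, e⟩ := ((syl h f hx hx').mono
    (fun k hk => mem_centralizer_singleton_iff.2 (hd k hk)) le_top).exists_cj_eq h1
  rw [← cj_mul] at e
  exact (mul_inv_eq_iff_eq_mul.2 (hc _ (selfN h f hx hx' (cj_eq_iff.1 e))).eq).symm.trans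
    (.trans (by group) (mul_inv_eq_iff_eq_mul.2 (mem_centralizer_singleton_iff.1 hy)))

theorem normJ (hx : x ∈ 𝐍[T₀]) : x ∈ 𝐍[J₀] := by
  have jT : ∀ {u}, u ∈ UU 24 → j u ∈ T₀ := fun hu => le_sup_right (b := J₀) ⟨_, hu, rfl⟩
  have : UU 24 ≤ (J₀).comap ((MulAut.conj x).toMonoidHom.comp j) := UU_le.2 fun r h1 h2 => by
    obtain ⟨u, hu, e | e⟩ := h.mem_T0.1 (conj_mem_of_mem_normalizer hx (jT (xx_mem_UU h1)))
    · exact ⟨u, hu, e.symm⟩
    rcases xt h f hx with k | k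
    · obtain ⟨b, hb⟩ := h.nrm x (mul_inv_eq_iff_eq_mul.1 k) (xx r)
      exact (ne_t h (hb.symm.trans e)).elim
    have hx' : x ∉ T₀ := fun a => (ls h).2.2.2.1
      (mul_eq_left.1 (k.symm.trans (mul_inv_eq_iff_eq_mul.2 (cT h a).1)))
    have ce : ∀ g ∈ 𝐍[T₀], Commute g (t * zl) ∧ Commute g (t * zs) := fun g hg => by
      by_cases a : g ∈ T₀
      · exact ⟨(cT h a).1.mul_right (cT h a).2.1, (cT h a).1.mul_right (cT h a).2.2⟩
      have b : g * t * g⁻¹ = t * (zl * zs) := by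
        rw [← k, ← congrArg (g * · * g⁻¹) (mul_inv_eq_iff_eq_mul.2 (cT h (mul2 h f (inv_mem hg)
          (mt inv_mem_iff.1 a) hx hx')).1.eq)]
        group
      refine ⟨mul_inv_eq_iff_eq_mul.1 ?_, mul_inv_eq_iff_eq_mul.1 ?_⟩ <;> rw [← conj_mul, b]
      · rw [(sw h f hg a).1, mul_assoc, mul_assoc, (ls h).2.2.1, mul_one]
      · rw [(sw h f hg a).2, (cT h (jT (xx_mem_UU (r := 47) (by omega)))).2.2.eq, mul_assoc,
          mul_assoc, (ls h).2.1, mul_one]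
    have key : ∀ u c, c * c = 1 → ¬ IsConj (t * zl) (j c) → ¬ IsConj (t * zs) (j c) →
        IsConj (t * j u) (j c) → IsConj (t * j (xx 39 * xx 45)) (j c) := fun u c c1 c2 c3 c4 => by
      have nt : ¬ IsConj t (j c) := fun a => let ⟨g, a⟩ := isConj_iff.1 a; h.nD g c a
      have u2 : u * u = 1 := h.inj (by
        have := c4.pow 2
        rw [← map_pow, sq c, c1, map_one, isConj_one_left,
          (show Commute t (j u) from h.tj u).mul_pow, sq, sq, h.tt, one_mul] at this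
        rw [map_mul, this, map_one])
      have tr : ∀ a, IsConj a u → IsConj (t * j a) (j c) := fun a e => by
        obtain ⟨g, rfl⟩ := isConj_iff.1 e
        refine .trans (isConj_iff.2 ⟨j g, ?_⟩) c4
        rw [map_mul, map_mul, map_inv, ← mul_assoc, ← h.tj]
        group
      rcases cls u2 (by rintro rfl; exact nt (by simpa using c4)) with a | a | a | a
      exacts [(c2 (tr _ a)).elim, (c3 (tr _ a)).elim,
        (nt (.trans (isConj_iff.2 ⟨x, k.trans (by rw [map_mul])⟩) (tr _ a))).elim, tr _ a]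
    obtain ⟨s, s1, s2⟩ := zpair h1 h2
    obtain ⟨v, -, hv⟩ := h.comm_T0.le (conj_mem_of_mem_normalizer
      (le_normalizer_commutator le_rfl le_rfl hx) (h.comm_T0.ge ⟨_, s1, rfl⟩))
    have a1 : IsConj (t * j u) zl := by
      refine .trans (isConj_iff.2 ⟨x, e⟩).symm ?_
      cases hl : lg r
      · exact .trans (j.map_isConj (conj_short h2 hl)).symm (isConj_iff.2 ⟨x, (sw h f hx hx').2⟩)
      · exact (j.map_isConj (conj_long h2 hl)).symm
    have a2 : IsConj (t * j (u * v)) (j (xx 47 * xx 44)) := .trans (isConj_iff.2 ⟨x, by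
      rw [map_mul, ← conj_mul, e, ← hv, map_mul, mul_assoc]⟩).symm (j.map_isConj s2).symm
    have zc : ∀ g ∈ 𝐍[T₀], Commute g (j (xx 47 * xx 44)) := fun g hg => map_mul j _ _ ▸ cZ h f hg
    exact (ncen h f hx hx' zc ((key _ _ (h.inj (by rw [map_mul, map_mul, (ls h).2.2.2.2, map_one]))
      (fun a => ne_t h (burn h f hx hx' (fun g hg => (ce g hg).1) zc a).symm)
      (fun a => ne_t h (burn h f hx hx' (fun g hg => (ce g hg).2) zc a).symm) a2).symm.trans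
      (key _ _ (xx_sq 47) (ncen h f hx hx' fun g hg => (ce g hg).1)
        (ncen h f hx hx' fun g hg => (ce g hg).2) a1))).elim
  exact mem_normalizer_of_cj_le (by rintro _ ⟨_, ⟨u, hu, rfl⟩, rfl⟩; exact this hu)

end St0

open St0 in
/-- PROOF. Suppose not.  By sw_of_move every `k ∈ N₀ = 𝐍[T₀]` fixing `z_l` centralises `t`, is inner (inn_of) and lies in `T₀`
(norm_U).  So (nz) `N₀ = T₀`, or `N₀ = T₁ = T₀ ⟨x⟩` with `x` swapping `z_l, z_s`, `T₀ = C_{T₁}(z_l)` of index 2.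
(a) `N₀ = T₀`: `T₀` is Sylow in `G` (isSyl_of_isSyl_normalizer), `jU` has index 2: Thompson (exists_conj_mem_extremal with `T = ⊥`)
contradicts nD.
(b) `T₁` is Sylow: let `y ∈ 𝐍[T₁]`, `w = y z_l y⁻¹ ∈ T₁' ≤ T₀' `-side: `w ∈ T₁' ≤ T₀`; its `T₁`-class is `{w, y z_s y⁻¹}`.  If `T₀` does not centralise
`w`, some `u ∈ T₀` has `u w u⁻¹ w⁻¹ = y z y⁻¹ =: c`, all commutators `[T₀, w]` lie in `{1, c}`, `c ∈ Z(T₁) ⊓ T₀'`, so `c = z` (`Z(T₀) ⊓ T₀' = Z₀`, `x`
swaps), and z2 gives `w ∈ Z(T₀)`, contradiction.  So `T₀ ≤ C_{T₁}(w) = y T₀ y⁻¹`, `y ∈ N₀ = T₁`.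
`x t x⁻¹ ∈ {t, t z}` (nz, `x² ∈ T₀`).
(c) `x` normalises `jU`.  Clear if `x` centralises `t` (nrm + t_ne).  Let `x t x⁻¹ = t z`.  Then `C(t)` has no outer element (Frattini: it would give
an element of `N₀ - T₀` centralising `t`), `T₀` is Sylow in `C(t)`, also in `C(z_l)` (`N₀ ⊓ C(z_l) = T₀`).  `Z(T₁) ∋ z, t z_l, t z_s`, pairwise non-conjugate in
`G` (Burnside, `𝐍[T₁] = T₁`) and not conjugate to `t ~ t z` or `z_l ~ z_s` (not 2-central); `t ≁ z_l, z` (nD).  If `x (j x_r) x⁻¹ = t j u₁` for some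
`24 ≤ r < 48`, take `s` from zpair: `x (j x_s) x⁻¹ ∈ T₀' ≤ jU`, so `x j(x_r x_s) x⁻¹ = t j u₂`.  `t j u₁ ~ z_l` and `t j u₂ ~ z`; by cls both `u₁, u₂` are
conjugate to `x₃₉x₄₅` (`t, t z_l, t z_s, t z` are excluded), so `z_l ~ z`, false.
(d) `T₁ / jU` has order 4.  If all `x' ∈ T₁ - T₀` have `x'² ∉ jU` (cyclic quotient): every conjugate of `t` in `T₁` lies in `T₀ - jU` (nD), and
Transfer.transfer_eq_pow_of_forall for `T₁ → T₁/jU` gives a nontrivial map to an abelian group.  Else `M = jU ⟨x⟩` has index 2, `t ∉ M`, `M ⊓ T₀ = jU`;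
Thompson gives `s = g t g⁻¹ ∈ M`, `g T₀ g⁻¹ ≤ T₁` centralising `s`; `s ∉ T₀` (nD), so `s` swaps `z_l, z_s` and has at most two conjugates in `T₁`, namely `s, s z`.
So `s (j x₄₆) s⁻¹ ∈ j x₄₆ ⟨z⟩`; conjugating `[j x₂₄, j x₄₆] = z_l` by `s` gives `z_s ∈ [jU, j x₄₆] ≤ ⟨z_l⟩`, false. -/
theorem Fr.sw_or [Finite G] (hP : _root_.commutator G = ⊤) (hR : pResidual 2 G = ⊤) (h : Fr j t) :
    Sw j t ∨ Sw (j.comp gam) t := by
  have := Fact.mk Nat.prime_two
  by_contra hn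
  have f := fix h (not_or.1 hn).1 (not_or.1 hn).2
  have od : ∀ {S : Subgroup G}, IsSyl 2 S ⊤ → Odd S.index := fun hS =>
    Nat.not_even_iff_odd.1 fun e => hS.not_dvd_relIndex (by simpa using e.two_dvd)
  have tT : t ∈ T0 j t := le_sup_left (a := zpowers t) (mem_zpowers t)
  have nJ : ∀ g, g * t * g⁻¹ ∉ (UU 24).map j := fun g ⟨a, _, e⟩ => h.nD g a e.symm
  have zJ : j (xx 47) * j (xx 44) ∈ (UU 24).map j :=
    mul_mem ⟨_, xx_mem_UU (by omega), rfl⟩ ⟨_, xx_mem_UU (by omega), rfl⟩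
  by_cases hx : 𝐍[T0 j t] ≤ T0 j t
  · obtain ⟨g, hg, -⟩ := Transfer.exists_conj_mem_extremal hR (od (isSyl_of_isSyl_normalizer
      ⟨le_inf le_top le_normalizer, h.pT0, fun _ _ _ e => e.trans (inf_le_right.trans hx)⟩))
      le_sup_right (relIndex_eq_two_iff_exists_notMem_and.2 ⟨t, tT, tJ h, fun _ => cosJ h⟩)
      ((sq t).trans h.tt) (T := ⊥) .of_bot (by simp)
    exact nJ g hg
  obtain ⟨x, hx, hx'⟩ := SetLike.not_le_iff_exists.1 hx
  have hS := od (syl h f hx hx')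
  have xt' : ∀ {g}, g ∈ 𝐍[T0 j t] → g * t * g⁻¹ * t⁻¹ ∈ (UU 24).map j := fun hg => by
    rcases xt h f hg with e | e <;> rw [e]
    exacts [by simp, conj_mem_of_mem_normalizer (normJ h f (le_normalizer tT)) zJ]
  by_cases hq : ∃ y ∈ 𝐍[T0 j t], y ∉ T0 j t ∧ y * y ∈ (UU 24).map j
  swap
  · refine tJ h (transfer hP hS (fun a ha b hb => ?_) h.tt (le_normalizer tT) fun g hg =>
      (cosJ h (not_not.1 fun e => hq ⟨_, hg, e, by rw [conj_mul, h.tt]; simp⟩)).resolve_right (nJ g))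
    have cl : 𝐍[T0 j t] ≤ closure ({t, x} ∪ (UU 24).map j) := by
      have c1 : T0 j t ≤ closure ({t, x} ∪ (UU 24).map j) := sup_le
        (zpowers_le.2 (subset_closure (.inl (.inl rfl)))) fun _ e => subset_closure (.inr e)
      intro g hg
      by_cases e : g ∈ T0 j t
      exacts [c1 e, (mul_mem_cancel_right (subset_closure (.inl (.inr rfl)))).1
        (c1 (mul2 h f hg e hx hx'))]
    have sb : ({t, x} ∪ (UU 24).map j : Set G) ⊆ 𝐍[T0 j t] := by
      rintro _ ((rfl | rfl) | e)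
      exacts [le_normalizer tT, hx, le_normalizer (le_sup_right (a := zpowers t) e)]
    refine F42S.comm_mem (fun _ => normJ h f) sb sb (fun a ha b hb => ?_) (cl ha) (cl hb)
    rcases hb with hb | hb
    swap
    · exact mul_mem (conj_mem_of_mem_normalizer (normJ h f (sb ha)) hb) (inv_mem hb)
    rcases ha with ha | ha
    swap
    · simpa only [mul_assoc] using
        mul_mem ha (conj_mem_of_mem_normalizer (normJ h f (sb (.inl hb))) (inv_mem ha))
    rcases ha with rfl | rfl <;> rcases hb with rfl | rfl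
    exacts [by simp, by simpa [mul_assoc] using inv_mem (xt' hx), xt' hx, by simp]
  obtain ⟨y, hy, hy', y2⟩ := hq
  have mT : ∀ g ∈ Z2S.ext _ y (normJ h f hy) y2, g ∈ T0 j t → g ∈ (UU 24).map j := fun g a b =>
    a.resolve_right fun e => hy' (inv_mem_iff.1 ((mul_mem_cancel_left b).1
      (le_sup_right (a := zpowers t) e)))
  obtain ⟨g, g1, g2⟩ := Transfer.exists_conj_mem_extremal hR hS (Q := Z2S.ext _ y (normJ h f hy) y2)
    (fun g a => a.elim (fun e => le_normalizer (le_sup_right (a := zpowers t) e)) fun e =>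
      (mul_mem_cancel_right (inv_mem hy)).1 (le_normalizer (le_sup_right (a := zpowers t) e)))
    (relIndex_eq_two_iff_exists_notMem_and.2 ⟨t, le_normalizer tT, fun e => tJ h (mT t e tT),
      fun b hb => by
        by_cases e : b ∈ T0 j t
        · exact (cosJ h e).imp .inl .inl
        refine (cosJ h (mul2 h f hb e (inv_mem hy) (mt inv_mem_iff.1 hy'))).imp (fun a => .inr ?_) .inr
        simpa [mul_assoc] using mul_mem a (conj_mem_of_mem_normalizer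
          (normJ h f (inv_mem (le_normalizer tT))) (xt' hy))⟩)
    ((sq t).trans h.tt) h.pT0 fun k hk => (cT h hk).1
  have s1 : g * t * g⁻¹ ∈ 𝐍[T0 j t] := g2 (conj_mem_cj g tT)
  have s2 := sw h f s1 fun e => nJ g (mT _ g1 e)
  have s3 : ∀ a ∈ cj(g, T0 j t), Commute a (g * t * g⁻¹) := by
    rintro _ ⟨a, ha, rfl⟩
    exact (cT h ha).1.map (MulAut.conj g)
  have i1 : (T0 j t).relIndex 𝐍[T0 j t] = 2 := relIndex_eq_two_iff_exists_notMem_and.2
    ⟨x, hx, hx', fun b hb => (em _).symm.imp_left fun e => mul2 h f hb e hx hx'⟩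
  have i2 : cj(g, T0 j t).relIndex 𝐍[T0 j t] = 2 := by
    have a1 := (cj(g, T0 j t).subgroupOf 𝐍[T0 j t]).index_mul_card
    rw [← ((T0 j t).subgroupOf 𝐍[T0 j t]).index_mul_card, Nat.card_congr
      (subgroupOfEquivOfLe g2).toEquiv, Nat.card_congr (subgroupOfEquivOfLe le_normalizer).toEquiv,
      card_cj] at a1
    exact (Nat.eq_of_mul_eq_mul_right Nat.card_pos a1).trans i1
  generalize g * t * g⁻¹ = w at s1 s2 s3
  have jN : ∀ r, 24 ≤ r → j (xx r) ∈ 𝐍[T0 j t] := fun r hr =>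
    le_normalizer (le_sup_right (a := zpowers t) ⟨_, xx_mem_UU hr, rfl⟩)
  have s4 : ¬ Commute (j (xx 47)) w := fun e =>
    (ls h).1 ((mul_inv_eq_iff_eq_mul.2 e.symm.eq).symm.trans s2.1)
  have s5 : ∀ a ∈ 𝐍[T0 j t], w * a * w⁻¹ = a ∨ w * a * w⁻¹ = j (xx 47) * j (xx 44) * a := fun a ha => by
    by_cases e : a ∈ cj(g, T0 j t)
    · exact .inl (mul_inv_eq_iff_eq_mul.2 (s3 a e).symm.eq)
    have := s3 (j (xx 47) * a) ((mul_mem_iff_of_index_two i2 (a := ⟨_, jN 47 (by omega)⟩)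
      (b := ⟨a, ha⟩)).2 (iff_of_false (fun k => s4 (s3 _ k)) e))
    refine .inr (mul_left_cancel (a := j (xx 44)) ?_)
    rw [← s2.1, conj_mul, mul_inv_eq_iff_eq_mul.2 this.symm.eq, s2.1, ← mul_assoc, ← mul_assoc,
      (cT h (le_sup_right (a := zpowers t) ⟨_, xx_mem_UU (r := 44) (by omega), rfl⟩)).2.1.eq,
      mul_assoc (j (xx 47)), (ls h).2.2.1, mul_one]
  have := comm_of_z (ls h).2.2.2.2 (cZ h f (jN 24 le_rfl)) (cZ h f (jN 46 (by omega)))
    (s5 _ (jN 24 le_rfl)) (s5 _ (jN 46 (by omega)))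
  rw [← map_mul, ← map_mul, ← map_mul, show xx 24 * xx 46 * xx 24 * xx 46 = xx 47 by
    simpa [mul_assoc] using Q_eq (u := [24, 46, 24, 46]) (v := [47]) (by decide +kernel)] at this
  exact s4 this.symm

end Cfsg.Agent.F42S
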