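import Cfsg.Agent.F42S.Frm
import Cfsg.Agent.F42S.Fb

/-! The normaliser of `T₀ = ⟨t⟩ U`.  `z_l = j x₄₇`, `z_s = j x₄₄`, `z = z_l z_s`, `Z₀ = ⟨z_l, z_s⟩`. -/

set_option autoImplicit false

namespace Cfsg.Agent.F42S

open Cfsg Cfsg.Agent.Comp Subgroup Cfsg.Agent.PLocal.Amb
open Cfsg.Agent.WG (el el_nil el_cons el_append)
open scoped commutatorElement

variable {G : Type*} [Group G] {j : L0 →* G} {t : G}

namespace SA

theorem c4447 : xx 44 * xx 47 = xx 47 * xx 44 := V_comm (xx_mem_UU (by omega)) (xx_mem_UU (by omega))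

theorem bw4 {m : ℕ} (hm : m < 4) : el xx (bw [44, 47] m) = 1 ∨ el xx (bw [44, 47] m) = xx 44 ∨
    el xx (bw [44, 47] m) = xx 47 ∨ el xx (bw [44, 47] m) = xx 47 * xx 44 := by
  interval_cases m <;> simp [bw_cons, bw_nil, c4447]

theorem P_c47 {p : L0} (hp : p ∈ P14) : p * xx 47 = xx 47 * p := by
  refine XX_comm (fun r hr => ?_) hp
  have : ∀ r ∈ 17 :: 19 :: 20 :: 22 :: up 24, r < 48 ∧ r ≠ 0 ∧ cm 47 r = [] := by decide
  obtain ⟨h1, h2, h3⟩ := this r hr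
  have := xx_comm (r := 47) (by omega) h1 (by omega)
  rw [this, h3, el_nil, mul_one]

theorem P_c44 {p : L0} (hp : p ∈ P14) : p * xx 44 = xx 44 * p := by
  have h1 := cz.2 hp
  rw [← mul_assoc, P_c47 hp, mul_assoc, mul_assoc] at h1
  exact mul_left_cancel h1

theorem U_P {u : L0} (hu : u ∈ UU 24) : u ∈ P14 :=
  (XX_le.2 fun r hr => xx_mem (by simp [hr]) : UU 24 ≤ P14) hu

theorem Z_c {m : ℕ} (hm : m < 4) {p : L0} (hp : p ∈ P14) :
    p * el xx (bw [44, 47] m) = el xx (bw [44, 47] m) * p := by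
  rcases bw4 hm with e | e | e | e <;> rw [e]
  exacts [by rw [mul_one, one_mul], P_c44 hp, P_c47 hp, cz.2 hp]

theorem c46 {u : L0} (hu : u ∈ UU 24) :
    xx 46 * u * (xx 46)⁻¹ * u⁻¹ = 1 ∨ xx 46 * u * (xx 46)⁻¹ * u⁻¹ = xx 47 := by
  have h1 := inv_mem (UU_comm (k := 46) (by omega) hu (xx_mem_UU (r := 46) le_rfl))
  have h2 : (u * xx 46 * u⁻¹ * (xx 46)⁻¹)⁻¹ = xx 46 * u * (xx 46)⁻¹ * u⁻¹ := by group
  rw [h2] at h1
  exact mem_XX1 h1

theorem VP {v p : L0} (hv : v ∈ UU 41) (hp : p ∈ P14) : v * p * v⁻¹ * p⁻¹ ∈ UU 42 := by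
  refine comm_mem (K := P14) norm_V0 ?_ subset_closure ?_ hv hp
  · exact fun a ha => U_P (UU_mono (by omega) (subset_closure ha : a ∈ UU 41))
  · rintro _ ⟨r, hr, rfl⟩ _ ⟨s, hs, rfl⟩
    have : ∀ r ∈ up 41, ∀ s ∈ 17 :: 19 :: 20 :: 22 :: up 24,
        r < 48 ∧ s < 48 ∧ r ≠ 47 - s ∧ ∀ k ∈ cm s r, 42 ≤ k := by decide
    obtain ⟨h1, h2, h3, h4⟩ := this r hr s hs
    have e : xx r * xx s * (xx r)⁻¹ * (xx s)⁻¹ =
        (xx s * xx r) * el xx (cm s r) * (xx s * xx r)⁻¹ := by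
      rw [xx_comm h2 h1 h3]; group
    rw [e]
    refine conj_mem_of_mem_normalizer (norm_V0 (mul_mem (xx_mem hs) ?_)) (el_mem fun k hk =>
      xx_mem_UU (h4 k hk))
    exact U_P (xx_mem_UU (le_trans (by omega) (mem_up.1 hr).1))

theorem V_com {v : L0} (hv : v ∈ UU 41) : v ∈ ⁅UU 24, UU 24⁆ :=
  (UU_le.2 fun r h1 _ => com_U (by omega) (by simp; omega) : UU 41 ≤ _) hv

local notation "zl" => j (xx 47)
local notation "zs" => j (xx 44)
local notation "T₀" => T0 j t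

variable (h : Fr j t) {k : G}
include h

theorem ne_t {a u : L0} : j a ≠ t * j u := fun e =>
  h.t_ne (a * u⁻¹) (by rw [map_mul, map_inv, e, mul_inv_cancel_right])

theorem jT {u : L0} (hu : u ∈ UU 24) : j u ∈ T₀ := h.mem_T0.2 ⟨u, hu, .inl rfl⟩

theorem cmE {g g' : G} {a b : L0} (e : g = j a ∨ g = t * j a) (e' : g' = j b ∨ g' = t * j b) :
    g * g' * g⁻¹ * g'⁻¹ = j (a * b * a⁻¹ * b⁻¹) := by
  have c : ∀ a, Commute t (j a) := h.tj
  have k1 : ∀ {g : G} {a : L0}, (g = j a ∨ g = t * j a) → ∀ x, Commute t x →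
      g * x * g⁻¹ = j a * x * (j a)⁻¹ := by
    rintro g a (rfl | rfl) x hx
    · rfl
    · rw [mul_inv_rev, ← mul_assoc, mul_assoc t, mul_assoc t,
        (((c a).mul_right hx).mul_right (c a).inv_right).eq, mul_inv_cancel_right]
  have c' : Commute t g' := (h.inn_c ⟨b, e'⟩).symm
  rw [k1 e g' c', map_mul, map_mul, map_mul, map_inv, map_inv, mul_assoc (j a), mul_assoc (j a),
    k1 e' _ (c a).inv_right]
  group

theorem cjE {g g' : G} {a b : L0} (e : g = j a ∨ g = t * j a) (e' : g' = j b ∨ g' = t * j b) :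
    g * g' * g⁻¹ = j (a * b * a⁻¹) ∨ g * g' * g⁻¹ = t * j (a * b * a⁻¹) := by
  have h1 := mul_inv_eq_iff_eq_mul.1 (cmE h e e')
  rw [h1]
  rcases e' with rfl | rfl
  · left; rw [← map_mul, inv_mul_cancel_right]
  · right; rw [← mul_assoc, ← h.tj, mul_assoc, ← map_mul, inv_mul_cancel_right]

theorem comJ (hk : k ∈ 𝐍[T₀]) {u : L0} (hu : u ∈ ⁅UU 24, UU 24⁆) : ∃ a, k * j u * k⁻¹ = j a := by
  have h1 := le_normalizer_commutator le_rfl le_rfl hk
  rw [h.comm_T0] at h1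
  obtain ⟨a, -, e⟩ := conj_mem_of_mem_normalizer h1 (mem_map_of_mem j hu)
  exact ⟨a, e.symm⟩

/-- The commutators of the image of `g` with the generators. -/
theorem cmK {H : Subgroup L0} (hk : ∀ g ∈ h.sub H, k⁻¹ * g * k ∈ h.sub H) {g : G} {a b : L0}
    (e : g = j a ∨ g = t * j a) (e' : k * g * k⁻¹ = j b ∨ k * g * k⁻¹ = t * j b) {s : ℕ}
    (hs : xx s ∈ H) : ∃ u ∈ H, j (b * xx s * b⁻¹ * xx s) = k * j (a * u * a⁻¹ * u⁻¹) * k⁻¹ := by
  obtain ⟨u, hu, e1⟩ := hk (j (xx s)) ⟨_, hs, .inl rfl⟩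
  refine ⟨u, hu, ?_⟩
  rw [← cmE h e e1]
  have := cmE h e' (b := xx s) (.inl rfl)
  rw [xx_inv] at this
  rw [← this]; group

theorem T_sub : T₀ = h.sub (UU 24) := by ext g; exact h.mem_T0

theorem nT (hk : k ∈ 𝐍[T₀]) : ∀ g ∈ h.sub (UU 24), k⁻¹ * g * k ∈ h.sub (UU 24) := by
  rw [← T_sub h]; exact fun g hg => inv_conj_mem_of_mem_normalizer hk hg

theorem cen (hk : k ∈ 𝐍[T₀]) {g : G} {a b : L0} (ha : ∀ u ∈ UU 24, u * a = a * u)
    (e : g = j a ∨ g = t * j a) (e' : k * g * k⁻¹ = j b ∨ k * g * k⁻¹ = t * j b) :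
    ∃ m < 4, b = el xx (bw [44, 47] m) := by
  refine z2 fun s h1 _ => .inl (h.inj ?_)
  obtain ⟨u, hu, e1⟩ := cmK h (nT h hk) e e' (xx_mem_UU h1)
  rw [e1, ← ha u hu]; simp

theorem c46K (hk : k ∈ 𝐍[T₀]) {b c : L0} (e1 : k * zl * k⁻¹ = j c)
    (e' : k * j (xx 46) * k⁻¹ = j b ∨ k * j (xx 46) * k⁻¹ = t * j b) {s : ℕ} (hs : 24 ≤ s) :
    b * xx s * b⁻¹ * xx s = 1 ∨ b * xx s * b⁻¹ * xx s = c := by
  obtain ⟨u, hu, e⟩ := cmK h (nT h hk) (.inl rfl) e' (xx_mem_UU hs)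
  rcases c46 hu with e2 | e2 <;> rw [e2] at e
  · left; apply h.inj; rw [e]; simp
  · right; apply h.inj; rw [e, e1]

theorem nz1 (hk : k ∈ 𝐍[T₀]) : k * zl * k⁻¹ = zl ∨ k * zl * k⁻¹ = zs := by
  obtain ⟨a, e⟩ := comJ h hk (V_com (xx_mem_UU (r := 47) (by omega)))
  obtain ⟨m, hm, rfl⟩ := cen h hk (fun u hu => P_c47 (U_P hu)) (.inl rfl) (.inl e)
  rcases bw4 hm with e1 | e1 | e1 | e1 <;> rw [e1] at e
  · refine (xx_ne (r := 47) (by omega) (h.inj ?_)).elim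
    rw [map_one] at e ⊢
    simpa using e
  · exact .inr e
  · exact .inl e
  exfalso
  obtain ⟨b, e2⟩ := comJ h hk (V_com (xx_mem_UU (r := 46) (by omega)))
  obtain ⟨m, hm, rfl⟩ := z2 fun s h1 _ => c46K h hk e (.inl e2) h1
  obtain ⟨u, hu, e3⟩ := h.mem_T0.1 (conj_mem_of_mem_normalizer hk (jT h (xx_mem_UU (r := 24) le_rfl)))
  have h1 := cmE h (.inl e2) e3
  rw [← Z_c hm (U_P hu)] at h1
  have h2 : j (xx 46 * xx 24 * xx 46 * xx 24) = j 1 := by
    have : k * j (xx 46 * xx 24 * (xx 46)⁻¹ * (xx 24)⁻¹) * k⁻¹ = 1 := by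
      simp only [map_mul, map_inv]
      refine .trans ?_ (h1.trans (by simp)); group
    rw [xx_inv, xx_inv] at this
    rw [map_one]; simpa only [conj_eq_one_iff] using this
  refine Q_ne (u := [46, 24, 46, 24]) (v := []) (by decide +kernel) ?_
  have := h.inj h2
  simpa only [el_cons, el_nil, mul_one, mul_assoc] using this

end SA

open SA

theorem Fr.nz (h : Fr j t) {k : G} (hk : k ∈ 𝐍[T0 j t]) :
    ((k * j (xx 47) * k⁻¹ = j (xx 47) ∧ k * j (xx 44) * k⁻¹ = j (xx 44)) ∨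
      (k * j (xx 47) * k⁻¹ = j (xx 44) ∧ k * j (xx 44) * k⁻¹ = j (xx 47))) ∧
    ∃ m < 4, k * t * k⁻¹ = t * j (el xx (bw [44, 47] m)) := by
  have h1 := nz1 h hk
  have h2 := nz1 h.dual (k := k) (by rwa [T0_dual])
  simp only [MonoidHom.comp_apply, gam_xx (r := 47) (by omega), gam_xx (r := 44) (by omega),
    show gm 47 = 44 by decide, show gm 44 = 47 by decide] at h2
  have n : k * j (xx 47) * k⁻¹ ≠ k * j (xx 44) * k⁻¹ := fun e =>
    ncls.1 (h.inj (conj_injective e) ▸ IsConj.refl _)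
  refine ⟨?_, ?_⟩
  · rcases h1 with h1 | h1 <;> rcases h2 with h2 | h2
    exacts [.inl ⟨h1, h2⟩, (n (h1.trans h2.symm)).elim, (n (h1.trans h2.symm)).elim, .inr ⟨h1, h2⟩]
  · obtain ⟨b, -, e⟩ := h.mem_T0.1 (conj_mem_of_mem_normalizer hk
      (h.mem_T0.2 ⟨1, one_mem _, .inr (show t = _ by simp)⟩))
    obtain ⟨m, hm, rfl⟩ := SA.cen h hk (a := 1) (fun u _ => by simp) (.inr (by simp)) e
    exact ⟨m, hm, e.resolve_left (h.nD _ _)⟩

theorem SA.nR (h : Fr j t) {k : G} (hk : k ∈ 𝐍[T0 j t]) (h1 : k * j (xx 47) * k⁻¹ = j (xx 47)) :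
    ∀ g ∈ h.sub P14, k * g * k⁻¹ ∈ h.sub P14 := by
  rintro g ⟨p, hp, e⟩
  obtain ⟨h2, m, hm, h3⟩ := h.nz hk
  have h2 : k * j (xx 44) * k⁻¹ = j (xx 44) := by
    rcases h2 with h2 | h2
    exacts [h2.2, (ncls.1 (h.inj (h1.symm.trans h2.1) ▸ IsConj.refl _)).elim]
  have c : ∀ {a}, p * a = a * p → Commute (k * g * k⁻¹) (k * j a * k⁻¹) := fun {a} ha => by
    refine Commute.conj (a := g) ?_ k
    have : Commute (j p) (j a) := Commute.map ha j
    rcases e with rfl | rfl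
    exacts [this, .mul_left (h.tj a) this]
  have c1 := c (P_c47 hp)
  have c2 := c (P_c44 hp)
  rw [h1] at c1; rw [h2] at c2
  have c3 : Commute (k * g * k⁻¹) (k * t * k⁻¹) := Commute.conj (a := g) (h.inn_c ⟨p, e⟩) k
  have c4 : Commute (k * g * k⁻¹) (j (el xx (bw [44, 47] m))) := by
    rcases bw4 hm with e | e | e | e <;> rw [e]
    exacts [by simp, c2, c1, by rw [map_mul]; exact c1.mul_right c2]
  have c5 : Commute (k * g * k⁻¹) t := by
    have := (h3 ▸ c3).mul_right c4.inv_right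
    rwa [mul_inv_cancel_right] at this
  obtain ⟨a, ha, e'⟩ := h.pin c5 (l := [47, 44]) ⟨47, by simp, by omega⟩ (by
    simp only [List.mem_cons, List.not_mem_nil, or_false, forall_eq_or_imp, forall_eq]
    exact ⟨c1, c2⟩)
  refine ⟨a, cz.1 ?_, e'⟩
  rw [← mul_assoc, ha 47 (by simp), mul_assoc, ha 44 (by simp), mul_assoc]

theorem Fr.normV (h : Fr j t) {k : G} (hk : k ∈ 𝐍[T0 j t]) (h1 : k * j (xx 47) * k⁻¹ = j (xx 47))
    {v : L0} (hv : v ∈ UU 41) : ∃ v' ∈ UU 41, k * j v * k⁻¹ = j v' := by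
  have h2 : k * j (xx 44) * k⁻¹ = j (xx 44) := by
    rcases (h.nz hk).1 with h2 | h2
    exacts [h2.2, (ncls.1 (h.inj (h1.symm.trans h2.1) ▸ IsConj.refl _)).elim]
  obtain ⟨b, e⟩ := comJ h hk (V_com (xx_mem_UU (r := 46) (by omega)))
  have hb : b ∈ UU 42 := by
    obtain ⟨m, -, rfl⟩ := z2l fun s h2 _ => c46K h hk h1 (.inl e) h2
    refine el_mem fun r hr => xx_mem_UU ?_
    have := bw_mem hr
    simp only [List.mem_cons, List.not_mem_nil, or_false] at this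
    omega
  have cw : ∀ (w : List ℕ) (r : ℕ), (∀ s ∈ w, s ∈ 17 :: 19 :: 20 :: 22 :: up 24) →
      Q (w ++ [46]) (r :: w) = true → k * j (xx r) * k⁻¹ ∈ h.sub (UU 42) := fun w r hw q => by
    have hp : el xx w ∈ P14 := el_mem fun s hs => xx_mem (hw s hs)
    have e1 := Q_eq q
    rw [el_append, el_cons, el_cons, el_nil, mul_one, ← mul_inv_eq_iff_eq_mul] at e1
    obtain ⟨p, hp', e2⟩ := nR h hk h1 _ ⟨_, hp, .inl rfl⟩
    refine ⟨_, conj_mem_of_mem_normalizer (norm_V0 hp') hb, ?_⟩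
    have e3 : k * j (xx r) * k⁻¹ = k * j (el xx w) * k⁻¹ * (k * j (xx 46) * k⁻¹) *
        (k * j (el xx w) * k⁻¹)⁻¹ := by rw [← e1, map_mul, map_mul, map_inv]; group
    rw [e3]
    exact cjE h e2 (.inl e)
  have hA : UU 42 ≤ ((h.sub (UU 42)).comap (MulAut.conj k).toMonoidHom).comap j := by
    refine UU_le.2 fun r r1 r2 => ?_
    change k * j (xx r) * k⁻¹ ∈ h.sub (UU 42)
    interval_cases r
    · exact cw [25, 22, 25, 27, 20, 27, 25, 22, 25] 42 (by decide) (by decide +kernel)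
    · exact cw [27, 20, 27, 25, 22, 25] 43 (by decide) (by decide +kernel)
    · exact ⟨_, xx_mem_UU (by omega), .inl h2⟩
    · exact cw [25, 22, 25] 45 (by decide) (by decide +kernel)
    · exact ⟨b, hb, .inl e⟩
    · exact ⟨_, xx_mem_UU (by omega), .inl h1⟩
  obtain ⟨v', e'⟩ := comJ h hk (V_com hv)
  refine ⟨v', zS fun s hs => ?_, e'⟩
  have h1' : k⁻¹ * j (xx 47) * k⁻¹⁻¹ = j (xx 47) := by
    conv_lhs => rw [← h1]
    group
  obtain ⟨u, hu, e1⟩ := cmK h (H := P14) (k := k)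
    (fun g hg => by simpa using nR h (inv_mem hk) h1' g hg) (.inl rfl) (.inl e')
    (s := s) (xx_mem (by simp only [List.mem_cons] at hs ⊢; tauto))
  obtain ⟨a, ha, e2 | e2⟩ : k * j _ * k⁻¹ ∈ h.sub (UU 42) := hA (VP hv hu)
  · rwa [h.inj (e1.trans e2)]
  · exact (ne_t h (e1.trans e2)).elim

theorem Fr.sw_of_move (h : Fr j t) {k : G} (hk : k ∈ 𝐍[T0 j t])
    (h1 : k * j (xx 47) * k⁻¹ = j (xx 47)) (h2 : k * t ≠ t * k) : Sw j t ∨ Sw (j.comp gam) t := by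
  obtain ⟨h3, m, hm, h4⟩ := h.nz hk
  have h3 : k * j (xx 44) * k⁻¹ = j (xx 44) := by
    rcases h3 with h3 | h3
    exacts [h3.2, (ncls.1 (h.inj (h1.symm.trans h3.1) ▸ IsConj.refl _)).elim]
  have g44 : (j.comp gam) (xx 44) = j (xx 47) := by
    rw [MonoidHom.comp_apply, gam_xx (by omega)]; rfl
  rcases bw4 hm with e | e | e | e <;> rw [e] at h4
  · exact (h2 (by rw [← mul_inv_eq_iff_eq_mul, h4, map_one, mul_one])).elim
  · exact .inl ⟨k, h4, h3⟩
  · exact .inr ⟨k, by rwa [g44], by rwa [g44]⟩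
  refine .inl (by_contra fun n => ?_)
  let O : L0 → Prop := fun v => ∃ g, g * j (xx 44) * g⁻¹ = j (xx 44) ∧ g * t * g⁻¹ = t * j v
  have o1 : O 1 := ⟨1, by simp, by simp⟩
  have oz : ∀ p ∈ UU 15, O (p * (xx 47 * xx 44) * p⁻¹) := fun p hp =>
    ⟨j p * k, by
      rw [mul_inv_rev, ← mul_assoc, mul_assoc (j p), mul_assoc (j p), h3, ← map_mul, c44.2 hp, map_mul,
        mul_inv_cancel_right], by
      rw [mul_inv_rev, ← mul_assoc, mul_assoc (j p), mul_assoc (j p), h4, ← mul_assoc, ← h.tj, map_mul j (p * _),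
        map_mul j p, map_inv]; group⟩
  have on : ∀ v, O v → O (v * xx 44) → False := by
    rintro v ⟨g, a1, a2⟩ ⟨g', b1, b2⟩
    refine n ⟨g⁻¹ * g', ?_, ?_⟩
    · have : g⁻¹ * (g' * t * g'⁻¹) * g = t * j (xx 44) := by
        rw [b2, map_mul, ← mul_assoc t, ← a2]
        conv_lhs => rw [← a1]
        group
      rw [← this]; group
    · have : g⁻¹ * (g' * j (xx 44) * g'⁻¹) * g = j (xx 44) := by
        rw [b1]
        conv_lhs => rw [← a1]
        group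
      refine .trans ?_ this; group
  have oi : ∀ v ∈ UU 41, (v = 1 ∨ IsConj (xx 47 * xx 44) v) ↔ O v := fun v hv => by
    rcases FV hv with rfl | rfl | ⟨p, hp, rfl⟩ | ⟨p, hp, rfl⟩
    · exact iff_of_true (.inl rfl) o1
    · exact iff_of_false (fun e => e.elim (xx_ne (by omega)) fun e => ncls.2.2.2.1 e.symm)
        fun e => on 1 o1 (by rwa [one_mul])
    · refine iff_of_false (fun e => e.elim (fun e => xx_ne (r := 47) (by omega) (by simpa using e))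
        fun e => ncls.2.1 ((isConj_iff.2 ⟨p, rfl⟩).trans e.symm)) fun e => on _ e ?_
      have : p * xx 47 * p⁻¹ * xx 44 = p * (xx 47 * xx 44) * p⁻¹ := by
        rw [mul_assoc, c44.2 (inv_mem hp)]; group
      rw [this]; exact oz p hp
    · exact iff_of_true (.inr (isConj_iff.2 ⟨p, rfl⟩)) (oz p hp)
  choose! θ t1 t2 using fun v (hv : v ∈ UU 41) => h.normV hk h1 hv
  refine aff θ t1 (fun u hu v hv => h.inj ?_) (fun v hv e => h.inj ?_) fun v hv => ?_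
  · rw [← t2 _ (mul_mem hu hv), map_mul, map_mul, ← t2 u hu, ← t2 v hv]; group
  · have := t2 v hv
    rw [e, map_one] at this
    rw [map_one]; simpa using this
  · rw [oi v hv, oi _ (mul_mem (mul_mem (xx_mem_UU (by omega)) (xx_mem_UU (by omega))) (t1 v hv))]
    have e1 : t * j (xx 47 * xx 44 * θ v) = k * (t * j v) * k⁻¹ := by
      rw [map_mul, ← mul_assoc, ← h4, ← t2 v hv]; group
    constructor
    · rintro ⟨g, a1, a2⟩
      refine ⟨k * g, ?_, ?_⟩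
      · rw [mul_inv_rev, ← mul_assoc, mul_assoc k, mul_assoc k, a1, h3]
      · rw [e1, ← a2]; group
    · rintro ⟨g, a1, a2⟩
      refine ⟨k⁻¹ * g, ?_, ?_⟩
      · rw [mul_inv_rev, ← mul_assoc, mul_assoc k⁻¹, mul_assoc k⁻¹, a1]
        conv_lhs => rw [← h3]
        group
      · rw [mul_inv_rev, ← mul_assoc, mul_assoc k⁻¹, mul_assoc k⁻¹, a2, e1]; group

theorem Fr.both [Finite G] (h : Fr j t) (hs : Sw j t) (hc : IsConj t (t * j (xx 47))) :
    Sw (j.comp gam) t := by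
  have g44 : (j.comp gam) (xx 44) = j (xx 47) := by
    rw [MonoidHom.comp_apply, gam_xx (by omega)]; rfl
  obtain ⟨g₀, a1, a2⟩ := hs
  rw [Sw, g44]
  have key : ∀ f : G, f * j (xx 44) * f⁻¹ = j (xx 47) →
      f * g₀ * f⁻¹ * (f * t * f⁻¹) * (f * g₀ * f⁻¹)⁻¹ = f * t * f⁻¹ * j (xx 47) ∧
      f * g₀ * f⁻¹ * j (xx 47) * (f * g₀ * f⁻¹)⁻¹ = j (xx 47) := fun f e => by
    rw [← e]
    constructor
    · rw [conj_mul (a := t), ← a1]; group
    · conv_rhs => rw [← a2]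
      group
  by_cases hi : ∀ g, g * t = t * g → Inn j t g
  · have : Fact (Nat.Prime 2) := ⟨Nat.prime_two⟩
    obtain ⟨c, hc⟩ := isConj_iff.1 hc
    have s1 := (h.syl_T0 hi).cj c
    have s2 : IsSyl 2 (T0 j t) cj(c, centralizer {t}) := by
      refine s1.of_card_ge h.pT0 (fun g hg => ?_) (card_cj _ _).le
      obtain ⟨u, hu, e⟩ := h.mem_T0.1 hg
      have c1 : Commute g t := h.inn_c ⟨u, e⟩
      have c2 : Commute g (j (xx 47)) := by
        have : Commute (j u) (j (xx 47)) := Commute.map (P_c47 (U_P hu)) j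
        rcases e with rfl | rfl
        exacts [this, .mul_left (h.tj _) this]
      have c3 := c1.mul_right c2
      rw [← hc] at c3
      exact mem_cj.2 (mem_centralizer_singleton_iff.2 (conj_comm c3.eq))
    obtain ⟨d, hd, e⟩ := s2.exists_cj_eq s1
    rw [← cj_mul, cj_eq_iff] at e
    have e1 : d * c * t * (d * c)⁻¹ = t * j (xx 47) := by
      have := mem_centralizer_singleton_iff.1 (mem_cj.1 hd)
      rw [← hc]
      calc d * c * t * (d * c)⁻¹ = c * (c⁻¹ * d * c * t) * (c⁻¹ * d⁻¹) := by group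
        _ = _ := by rw [this]; group
    rcases (h.nz e).1 with e2 | e2
    · exact ⟨_, e1, e2.1⟩
    · obtain ⟨b1, b2⟩ := key _ e2.2
      rw [e1, mul_assoc t, ← map_mul, xx_sq, map_one, mul_one] at b1
      refine ⟨(d * c * g₀ * (d * c)⁻¹)⁻¹, ?_, ?_⟩
      · conv_lhs => rw [← b1]
        group
      · conv_lhs => rw [← b2]
        group
  · push Not at hi
    obtain ⟨g, hg, n⟩ := hi
    obtain ⟨a, f, -, f1, -, f2⟩ := h.exists_gam hg ((h.cases hg).resolve_left n)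
    have := key f (by rw [f2, ← g44]; rfl)
    rw [f1, mul_inv_cancel_right] at this
    exact ⟨_, this⟩

end Cfsg.Agent.F42S
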